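import Groth.Agent.Lib.Lead.QCohCrit
import Mathlib.Algebra.Category.ModuleCat.Sheaf.Limits
import Mathlib.CategoryTheory.Limits.Types.Pullbacks
import Mathlib.Algebra.Homology.ShortComplex.Ab
import Mathlib.Algebra.Homology.ShortComplex.ExactFunctor

set_option autoImplicit false
universe u

open AlgebraicGeometry CategoryTheory Opposite TopologicalSpace Limits

namespace Groth.Agent.Lib.Helper40.QCohLim

open Scheme.Modules Groth.Agent.Lib.Lead.QCohAff

variable {X : Scheme.{u}}

theorem app_res {M N : X.Modules} (φ : M ⟶ N) {U V : X.Opens} (h : V ≤ U) (s : Γ(M, U)) :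
    φ.app V (M.presheaf.map (homOfLE h).op s) = N.presheaf.map (homOfLE h).op (φ.app U s) := by
  have := φ.mapPresheaf.naturality (homOfLE h).op
  exact congr($this s)

noncomputable def secFunctor (U : X.Opens) : X.Modules ⥤ Type u :=
  SheafOfModules.evaluation.{u} X.ringCatSheaf (op U) ⋙
    forget (ModuleCat.{u} (X.ringCatSheaf.obj.obj (op U)))

instance (U : X.Opens) : PreservesFiniteLimits (secFunctor (X := X) U) := by
  unfold secFunctor
  have h1 : PreservesFiniteLimits (forget (ModuleCat.{u} ↑(X.ringCatSheaf.obj.obj (op U)))) :=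
    inferInstance
  have h2 : PreservesFiniteLimits (SheafOfModules.evaluation.{u} X.ringCatSheaf (op U)) :=
    SheafOfModules.Finite.evaluationPreservesFiniteLimits _ _
  exact comp_preservesFiniteLimits (SheafOfModules.evaluation.{u} X.ringCatSheaf (op U))
    (forget (ModuleCat.{u} ↑(X.ringCatSheaf.obj.obj (op U))))

variable {P A B C : X.Modules} {p1 : P ⟶ A} {p2 : P ⟶ B} {f : A ⟶ C} {g : B ⟶ C}

theorem pb_ext (h : IsPullback p1 p2 f g) (U : X.Opens) (s s' : Γ(P, U))
    (h1 : p1.app U s = p1.app U s') (h2 : p2.app U s = p2.app U s') : s = s' :=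
  Types.ext_of_isPullback (h.map (secFunctor U)) h1 h2

theorem pb_exists (h : IsPullback p1 p2 f g) (U : X.Opens) (a : Γ(A, U)) (b : Γ(B, U))
    (hab : f.app U a = g.app U b) : ∃ s : Γ(P, U), p1.app U s = a ∧ p2.app U s = b :=
  Types.exists_of_isPullback (h.map (secFunctor U)) a b hab

theorem locOn_of_isPullback (h : IsPullback p1 p2 f g) {U : X.Opens}
    (hA : LocOn A U) (hB : LocOn B U) (hC : LocOn C U) : LocOn P U := by
  constructor
  · intro r s hs
    have ha : A.presheaf.map (homOfLE (X.basicOpen_le r)).op (p1.app U s) = 0 := by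
      rw [← app_res, hs, map_zero]
    have hb : B.presheaf.map (homOfLE (X.basicOpen_le r)).op (p2.app U s) = 0 := by
      rw [← app_res, hs, map_zero]
    obtain ⟨n, hn⟩ := hA.1 r _ ha
    obtain ⟨m, hm⟩ := hB.1 r _ hb
    refine ⟨n + m, pb_ext h U _ _ ?_ ?_⟩
    · rw [Hom.app_smul, map_zero, pow_add, mul_comm, mul_smul, hn, smul_zero]
    · rw [Hom.app_smul, map_zero, pow_add, mul_smul, hm, smul_zero]
  · intro r t
    set r' := X.presheaf.map (homOfLE (X.basicOpen_le r)).op r with hr'
    obtain ⟨n, a, ha⟩ := hA.2 r (p1.app _ t)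
    obtain ⟨m, b, hb⟩ := hB.2 r (p2.app _ t)
    have hc : C.presheaf.map (homOfLE (X.basicOpen_le r)).op
        (f.app U (r ^ m • a) - g.app U (r ^ n • b)) = 0 := by
      rw [map_sub, ← app_res, ← app_res, Scheme.Modules.map_smul, Scheme.Modules.map_smul, ha, hb,
        map_pow, map_pow, ← hr', Hom.app_smul, Hom.app_smul, Hom.app_smul, Hom.app_smul,
        smul_smul, smul_smul, mul_comm]
      have hw : f.app _ (p1.app _ t) = g.app _ (p2.app _ t) := by
        have := congr((Hom.app $(h.w) (X.basicOpen r)) t)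
        simpa using this
      rw [hw, sub_self]
    obtain ⟨k, hk⟩ := hC.1 r _ hc
    rw [smul_sub, sub_eq_zero, ← Hom.app_smul, ← Hom.app_smul] at hk
    obtain ⟨s, hs1, hs2⟩ := pb_exists h U _ _ hk
    refine ⟨k + m + n, s, pb_ext h _ _ _ ?_ ?_⟩
    · rw [app_res, hs1, Scheme.Modules.map_smul, Scheme.Modules.map_smul, ha, Hom.app_smul,
        map_pow, map_pow, ← hr', smul_smul, smul_smul, ← pow_add, ← pow_add]
    · rw [app_res, hs2, Scheme.Modules.map_smul, Scheme.Modules.map_smul, hb, Hom.app_smul,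
        map_pow, map_pow, ← hr', smul_smul, smul_smul, ← pow_add, ← pow_add]
      congr 2
      omega

theorem isQuasicoherent_of_isPullback (h : IsPullback p1 p2 f g)
    [A.IsQuasicoherent] [B.IsQuasicoherent] [C.IsQuasicoherent] : P.IsQuasicoherent := by
  apply Groth.Agent.Lib.Lead.QCohCrit.isQuasicoherent_of_locOn
  intro x
  obtain ⟨_, ⟨W, hW : IsAffineOpen W, rfl⟩, hxW, -⟩ :=
    (X.isBasis_affineOpens).exists_subset_of_mem_open (Set.mem_univ x) isOpen_univ
  exact ⟨W, hW, hxW, locOn_of_isPullback h (LocOn.of_isQuasicoherent A hW)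
    (LocOn.of_isQuasicoherent B hW) (LocOn.of_isQuasicoherent C hW)⟩

noncomputable def evAb (U : X.Opens) : X.Modules ⥤ AddCommGrpCat.{u} :=
  SheafOfModules.evaluation.{u} X.ringCatSheaf (op U) ⋙
    forget₂ (ModuleCat.{u} (X.ringCatSheaf.obj.obj (op U))) AddCommGrpCat.{u}

instance (U : X.Opens) : (evAb (X := X) U).Additive where
  map_add := rfl

instance (U : X.Opens) : PreservesFiniteLimits (evAb (X := X) U) := by
  unfold evAb
  have h1 : PreservesFiniteLimits
      (forget₂ (ModuleCat.{u} ↑(X.ringCatSheaf.obj.obj (op U))) AddCommGrpCat.{u}) :=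
    inferInstance
  have h2 : PreservesFiniteLimits (SheafOfModules.evaluation.{u} X.ringCatSheaf (op U)) :=
    SheafOfModules.Finite.evaluationPreservesFiniteLimits _ _
  exact comp_preservesFiniteLimits (SheafOfModules.evaluation.{u} X.ringCatSheaf (op U))
    (forget₂ (ModuleCat.{u} ↑(X.ringCatSheaf.obj.obj (op U))) AddCommGrpCat.{u})

theorem exists_of_app_eq_zero (S : ShortComplex X.Modules) (hS : S.Exact) [Mono S.f]
    (U : X.Opens) (s : Γ(S.X₂, U)) (hs : S.g.app U s = 0) : ∃ a : Γ(S.X₁, U), S.f.app U a = s := by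
  have h := hS.map_of_mono_of_preservesKernel (evAb U) inferInstance inferInstance
  rw [ShortComplex.ab_exact_iff] at h
  exact h s hs

theorem app_injective_of_mono {M N : X.Modules} (f : M ⟶ N) [Mono f] (U : X.Opens) :
    Function.Injective (f.app U) := by
  have : Mono ((evAb U).map f) := inferInstance
  exact (AddCommGrpCat.mono_iff_injective _).mp this

end Groth.Agent.Lib.Helper40.QCohLim
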