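import Groth.Prelude.Def_W4c5algebraiztannakaNis

set_option autoImplicit false
open CategoryTheory AlgebraicGeometry Topology Limits
universe u

namespace Groth.Agent.Lib.Helper40.Nis

open W4c5algebraiztannaka

theorem isCompact_of_isConstructible {X : Type*} [TopologicalSpace X] [CompactSpace X] {s : Set X}
    (hs : IsConstructible s) : IsCompact s := by
  induction s, hs using BooleanSubalgebra.closure_sdiff_sup_induction with
  | isSublattice => exact ⟨fun s hs t ht ↦ ⟨hs.1.union ht.1, hs.2.union ht.2⟩,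
      fun s hs t ht ↦ ⟨hs.1.inter ht.1, hs.2.inter_isOpen ht.2 ht.1⟩⟩
  | bot_mem => exact ⟨isOpen_empty, .empty⟩
  | top_mem => exact ⟨isOpen_univ, .univ⟩
  | sdiff U hU V hV => exact hU.2.isCompact.diff hV.1
  | sup s _ t _ hs' ht' => exact hs'.union ht'

theorem isClosed_union_image {T Y : Type*} [TopologicalSpace T] [TopologicalSpace Y]
    {Z Z' : Set Y} (hZ : IsClosed Z) (hZ' : IsClosed Z')
    {γ : T → Y} (hγ : IsEmbedding γ) (hrange : Set.range γ = Z' \ Z) {C : Set T}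
    (hC : IsClosed C) : IsClosed (Z ∪ γ '' C) := by
  rw [← closure_subset_iff_isClosed, closure_union, hZ.closure_eq]
  apply Set.union_subset Set.subset_union_left
  intro y hy
  have hyZ' : y ∈ Z' := by
    have : γ '' C ⊆ Z' := by
      rintro _ ⟨t, _, rfl⟩
      have : γ t ∈ Z' \ Z := hrange ▸ Set.mem_range_self t
      exact this.1
    exact (hZ'.closure_subset_iff.mpr this) hy
  by_cases hyZ : y ∈ Z
  · exact Or.inl hyZ
  · right
    have : y ∈ Set.range γ := hrange ▸ ⟨hyZ', hyZ⟩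
    obtain ⟨t, rfl⟩ := this
    refine ⟨t, ?_, rfl⟩
    have h2 : t ∈ closure C := by
      rw [hγ.closure_eq_preimage_closure_image]
      exact hy
    rwa [hC.closure_eq] at h2

theorem isConstructible_union_image {T Y : Type*} [TopologicalSpace T] [TopologicalSpace Y]
    [CompactSpace Y] [QuasiSeparatedSpace Y]
    {Z Z' : Set Y} (hZ : IsClosed Z) (hZc : IsConstructible Z) (hZ' : IsClosed Z')
    (hZ'c : IsConstructible Z')
    {γ : T → Y} (hγ : IsEmbedding γ) (hrange : Set.range γ = Z' \ Z) {C : Set T}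
    (hCc : IsConstructible C) : IsConstructible (Z ∪ γ '' C) := by
  refine hZc.union ?_
  have hVopen : IsOpen Zᶜ := hZ.isOpen_compl
  have hVcomp : IsCompact Zᶜ := isCompact_of_isConstructible hZc.compl
  have hsub : ∀ t, γ t ∈ Zᶜ := fun t => by
    have : γ t ∈ Z' \ Z := hrange ▸ Set.mem_range_self t
    exact this.2
  let γ' : T → (Zᶜ : Set Y) := Set.codRestrict γ Zᶜ hsub
  have hγ'emb : IsEmbedding γ' := hγ.codRestrict _ hsub
  have hrange' : Set.range γ' = Subtype.val ⁻¹' Z' := by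
    ext ⟨y, hy⟩
    constructor
    · rintro ⟨t, ht⟩
      have : γ t = y := congrArg Subtype.val ht
      have h2 : γ t ∈ Z' \ Z := hrange ▸ Set.mem_range_self t
      exact this ▸ h2.1
    · intro hy'
      have : y ∈ Set.range γ := hrange ▸ ⟨hy', hy⟩
      obtain ⟨t, rfl⟩ := this
      exact ⟨t, rfl⟩
  have hγ'cl : IsClosedEmbedding γ' :=
    ⟨hγ'emb, hrange' ▸ hZ'.preimage continuous_subtype_val⟩
  have hretro : IsRetrocompact (Set.range γ')ᶜ := by
    rw [hrange', ← Set.preimage_compl]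
    have h1 : IsRetrocompact Z'ᶜ :=
      (isCompact_of_isConstructible hZ'c.compl).isRetrocompact hZ'.isOpen_compl
    exact h1.preimage_of_isOpenEmbedding hVopen.isOpenEmbedding_subtypeVal
  have h1 : IsConstructible (γ' '' C) := hCc.image_of_isClosedEmbedding hγ'cl hretro
  have h2 : IsConstructible (Subtype.val '' (γ' '' C)) :=
    h1.image_of_isOpenEmbedding hVopen.isOpenEmbedding_subtypeVal
      (by rw [Subtype.range_coe]; exact hVcomp.isRetrocompact hVopen)
  have h3 : Subtype.val '' (γ' '' C) = γ '' C := by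
    rw [Set.image_image]
    rfl
  rwa [h3] at h2


theorem exists_level {X : Type*} (n : ℕ) (Z : Fin (n + 1) → Set X) (h0 : Z 0 = ∅)
    (hlast : Z (Fin.last n) = Set.univ) (hmono : Monotone Z) :
    ∃ ℓ : X → ℕ, (∀ x, ℓ x < n) ∧ ∀ j : Fin (n + 1), Z j = {x | ℓ x < (j : ℕ)} := by
  classical
  have hex : ∀ x : X, ∃ k : ℕ, ∀ h : k + 1 < n + 1, x ∈ Z ⟨k + 1, h⟩ :=
    fun x => ⟨n, fun h => absurd h (lt_irrefl _)⟩
  refine ⟨fun x => Nat.find (hex x), ?_, ?_⟩
  · intro x
    change Nat.find (hex x) < n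
    have hn : n ≠ 0 := by
      rintro rfl
      have h1 : x ∈ Z (Fin.last 0) := hlast ▸ Set.mem_univ x
      have h2 : Z (Fin.last 0) = ∅ := h0
      rw [h2] at h1
      exact h1
    have : Nat.find (hex x) ≤ n - 1 := by
      apply Nat.find_min'
      intro h
      have h3 : (⟨n - 1 + 1, h⟩ : Fin (n + 1)) = Fin.last n := by
        ext
        simp
        omega
      rw [h3, hlast]
      exact Set.mem_univ x
    omega
  · intro j
    ext x
    simp only [Set.mem_ofPred_eq, Nat.find_lt_iff]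
    constructor
    · intro hx
      have hj : (j : ℕ) ≠ 0 := by
        intro hj
        have : j = 0 := Fin.ext hj
        rw [this, h0] at hx
        exact hx
      refine ⟨j - 1, by omega, fun h => ?_⟩
      have : (⟨(j : ℕ) - 1 + 1, h⟩ : Fin (n + 1)) = j := by
        ext
        simp
        omega
      rwa [this]
    · rintro ⟨k, hk, hk2⟩
      have h : k + 1 < n + 1 := by omega
      exact hmono (show (⟨k + 1, h⟩ : Fin (n + 1)) ≤ j from Fin.mk_le_of_le_val (by simpa using hk)) (hk2 h)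

theorem isNisCoverLen_of_level {U Y : Scheme.{u}} (f : U ⟶ Y) [Etale f] (m : ℕ) (ℓ : Y → ℕ)
    (hlt : ∀ y, ℓ y < m)
    (hcc : ∀ i : ℕ, IsClosed {y | ℓ y < i} ∧ IsConstructible {y | ℓ y < i})
    (hsec : ∀ k < m, HasSectOver f (ℓ ⁻¹' {k})) : IsNisCoverLen f m := by
  refine ⟨inferInstance, fun j => {y | ℓ y < (j : ℕ)}, ?_, ?_, ?_, ?_, ?_⟩
  · simp
  · ext y
    simpa using hlt y
  · intro a b hab y hy
    have hy' : ℓ y < (a : ℕ) := hy
    have hab' : (a : ℕ) ≤ (b : ℕ) := by exact_mod_cast hab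
    exact lt_of_lt_of_le hy' hab'
  · intro j
    exact hcc j
  · intro k
    have : {y | ℓ y < ((k.succ : Fin (m + 1)) : ℕ)} \ {y | ℓ y < ((k.castSucc : Fin (m + 1)) : ℕ)}
        = ℓ ⁻¹' {(k : ℕ)} := by
      ext y
      simp
      omega
    rw [this]
    exact hsec k k.2

theorem exists_level_of_isNisCoverLen {U Y : Scheme.{u}} (f : U ⟶ Y) (m : ℕ)
    (hf : IsNisCoverLen f m) :
    ∃ ℓ : Y → ℕ, (∀ y, ℓ y < m) ∧
      (∀ i : ℕ, IsClosed {y | ℓ y < i} ∧ IsConstructible {y | ℓ y < i}) ∧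
      ∀ k < m, HasSectOver f (ℓ ⁻¹' {k}) := by
  obtain ⟨_, Z, h0, hlast, hmono, hcc, hsec⟩ := hf
  obtain ⟨ℓ, hlt, hZ⟩ := exists_level m Z h0 hlast hmono
  refine ⟨ℓ, hlt, ?_, ?_⟩
  · intro i
    by_cases hi : i < m + 1
    · have := hcc ⟨i, hi⟩
      rwa [hZ] at this
    · have : {y | ℓ y < i} = Set.univ := by
        ext y
        simp
        have := hlt y
        omega
      rw [this]
      exact ⟨isClosed_univ, IsConstructible.univ⟩
  · intro k hk
    have := hsec ⟨k, hk⟩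
    rw [hZ, hZ] at this
    convert this using 1
    ext y
    simp
    omega


theorem lex_lt (m a b i : ℕ) (hb : b < m) :
    a * m + b < i ↔ a < i / m ∨ (a = i / m ∧ b < i % m) := by
  have hm : 0 < m := by omega
  have h1 := Nat.div_add_mod i m
  have h2 := Nat.mod_lt i hm
  set q := i / m
  set r := i % m
  rw [mul_comm] at h1
  constructor
  · intro h
    rcases lt_trichotomy a q with h3 | h3 | h3
    · exact Or.inl h3
    · right
      refine ⟨h3, ?_⟩
      subst h3
      omega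
    · exfalso
      have : (q + 1) * m ≤ a * m := Nat.mul_le_mul_right m h3
      rw [Nat.succ_mul] at this
      omega
  · rintro (h | ⟨h, h'⟩)
    · have : (a + 1) * m ≤ q * m := Nat.mul_le_mul_right m h
      rw [Nat.succ_mul] at this
      omega
    · subst h
      omega

theorem lex_eq (m a b k : ℕ) (hb : b < m) : a * m + b = k ↔ a = k / m ∧ b = k % m := by
  have hm : 0 < m := by omega
  have := Nat.div_mod_unique (a := k) (c := b) (d := a) hm
  constructor
  · intro h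
    have h2 := this.mpr ⟨by rw [mul_comm] at h; omega, hb⟩
    exact ⟨h2.1.symm, h2.2.symm⟩
  · rintro ⟨h1, h2⟩
    have h3 := (this.mp ⟨h1.symm, h2.symm⟩).1
    rw [mul_comm] at h3
    omega


theorem hasSectOver_image {V X Xa Va : Scheme.{u}} (v : V ⟶ X) (ι : Xa ⟶ X) [IsImmersion ι]
    (va : Va ⟶ Xa) (w : Va ⟶ V) (hw : w ≫ v = va ≫ ι) (W : Set Xa)
    (h : HasSectOver va W) : HasSectOver v ((fun t : Xa => ι t) '' W) := by
  obtain ⟨T, g, s, himm, hrange, hs⟩ := h
  refine ⟨T, g ≫ ι, s ≫ w, inferInstance, ?_, ?_⟩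
  · rw [← hrange]
    ext x
    simp
  · rw [Category.assoc, hw, ← Category.assoc, hs]

theorem isNisCoverLen_of_isEmpty {U Y : Scheme.{u}} (f : U ⟶ Y) [Etale f] [IsEmpty Y] (m : ℕ) :
    IsNisCoverLen f m := by
  refine ⟨inferInstance, fun _ => ∅, rfl, Set.eq_univ_of_forall (fun y => isEmptyElim y),
    fun _ _ _ => le_rfl, fun _ => ⟨isClosed_empty, IsConstructible.empty⟩, fun k => ?_⟩
  have : IsEmpty U := ⟨fun u => isEmptyElim (f u)⟩
  refine ⟨U, f, 𝟙 U, inferInstance, ?_, Category.id_comp f⟩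
  simp
  infer_instance

theorem isNisCoverLen_of_strata {V X : Scheme.{u}} [CompactSpace X] [QuasiSeparatedSpace X]
    (v : V ⟶ X) [Etale v] (n m : ℕ)
    (Z : Fin (n + 1) → Set X) (h0 : Z 0 = ∅) (hlast : Z (Fin.last n) = Set.univ)
    (hmono : Monotone Z) (hcc : ∀ k, IsClosed (Z k) ∧ IsConstructible (Z k))
    (Xs : Fin n → Scheme.{u}) (ι : ∀ a, Xs a ⟶ X) [∀ a, IsImmersion (ι a)]
    (hrange : ∀ a : Fin n, Set.range (fun t : Xs a => ι a t) = Z a.succ \ Z a.castSucc)
    (Vs : Fin n → Scheme.{u}) (vs : ∀ a, Vs a ⟶ Xs a) (hvs : ∀ a, IsNisCoverLen (vs a) m)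
    (w : ∀ a, Vs a ⟶ V) (hw : ∀ a, w a ≫ v = vs a ≫ ι a) :
    IsNisCoverLen v (n * m) := by
  obtain ⟨ℓ, hlt, hZ⟩ := exists_level n Z h0 hlast hmono
  have hcc' : ∀ i : ℕ, IsClosed {y | ℓ y < i} ∧ IsConstructible {y | ℓ y < i} := by
    intro i
    by_cases hi : i < n + 1
    · have := hcc ⟨i, hi⟩
      rwa [hZ] at this
    · have : {y | ℓ y < i} = Set.univ := by
        ext y
        simp
        have := hlt y
        omega
      rw [this]
      exact ⟨isClosed_univ, IsConstructible.univ⟩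
  have hrange' : ∀ a : Fin n, Set.range (fun t : Xs a => ι a t) = ℓ ⁻¹' {(a : ℕ)} := by
    intro a
    rw [hrange, hZ, hZ]
    ext y
    simp
    omega
  have hℓι : ∀ (a : Fin n) (t : Xs a), ℓ (ι a t) = a := by
    intro a t
    have : ι a t ∈ ℓ ⁻¹' {(a : ℕ)} := hrange' a ▸ Set.mem_range_self t
    exact this
  choose ℓs hℓs_lt hℓs_cc hℓs_sec using fun a => exists_level_of_isNisCoverLen (vs a) m (hvs a)
  have hsurj : ∀ x : X, ∃ s : Σ a, Xs a, ι s.1 s.2 = x := by
    intro x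
    have : x ∈ Set.range (fun t : Xs ⟨ℓ x, hlt x⟩ => ι ⟨ℓ x, hlt x⟩ t) := by
      rw [hrange']
      rfl
    obtain ⟨t, ht⟩ := this
    exact ⟨⟨_, t⟩, ht⟩
  choose ρ hρ using hsurj
  have hinj : ∀ (a a' : Fin n) (t : Xs a) (t' : Xs a'), ι a' t' = ι a t →
      (⟨a', t'⟩ : Σ a, Xs a) = ⟨a, t⟩ := by
    intro a a' t t' h
    have haa' : a' = a := by
      have h1 := hℓι a' t'
      have h2 := hℓι a t
      rw [h] at h1
      exact Fin.ext (h1.symm.trans h2)
    subst haa'
    have : t' = t := (ι a').isEmbedding.injective h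
    rw [this]
  have hρ_eq : ∀ a t, ρ (ι a t) = ⟨a, t⟩ := by
    intro a t
    have := hρ (ι a t)
    exact hinj a (ρ (ι a t)).1 t (ρ (ι a t)).2 this
  let L : X → ℕ := fun x => (ρ x).1 * m + ℓs (ρ x).1 (ρ x).2
  have hL : ∀ a t, L (ι a t) = a * m + ℓs a t := by
    intro a t
    show (ρ (ι a t)).1 * m + ℓs (ρ (ι a t)).1 (ρ (ι a t)).2 = _
    rw [hρ_eq a t]
  have hform : ∀ x : X, ∃ (a : Fin n) (t : Xs a), ι a t = x := fun x => ⟨(ρ x).1, (ρ x).2, hρ x⟩
  have himage : ∀ (q : Fin n) (C : Set (Xs q)) (a : Fin n) (t : Xs a),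
      ι a t ∈ (fun t : Xs q => ι q t) '' C ↔ ∃ h : a = q, h ▸ t ∈ C := by
    intro q C a t
    constructor
    · rintro ⟨t', ht', h⟩
      have := hinj a q t t' h
      obtain ⟨rfl, h2⟩ := Sigma.mk.inj_iff.mp this
      have h3 := eq_of_heq h2
      subst h3
      exact ⟨rfl, ht'⟩
    · rintro ⟨rfl, h⟩
      exact ⟨t, h, rfl⟩
  apply isNisCoverLen_of_level v (n * m) L
  · intro x
    obtain ⟨a, t, rfl⟩ := hform x
    rw [hL]
    have h1 := hℓs_lt a t
    have h2 : ((a : ℕ) + 1) * m ≤ n * m := Nat.mul_le_mul_right m a.2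
    rw [Nat.succ_mul] at h2
    omega
  · intro i
    by_cases hX : IsEmpty X
    · have : {y | L y < i} = ∅ := Set.eq_empty_of_isEmpty _
      rw [this]
      exact ⟨isClosed_empty, IsConstructible.empty⟩
    · rw [not_isEmpty_iff] at hX
      obtain ⟨x0⟩ := hX
      obtain ⟨a0, t0, -⟩ := hform x0
      have hm : 0 < m := lt_of_le_of_lt (Nat.zero_le _) (hℓs_lt a0 t0)
      by_cases hq : i / m < n
      · have hset : {y | L y < i} = {y | ℓ y < i / m} ∪
            (fun t : Xs ⟨i / m, hq⟩ => ι ⟨i / m, hq⟩ t) '' {t | ℓs ⟨i / m, hq⟩ t < i % m} := by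
          ext x
          obtain ⟨a, t, rfl⟩ := hform x
          rw [Set.mem_union, himage]
          simp only [Set.mem_ofPred_eq, hL, hℓι]
          rw [lex_lt m a (ℓs a t) i (hℓs_lt a t)]
          constructor
          · rintro (h | ⟨h1, h2⟩)
            · exact Or.inl h
            · right
              have : a = ⟨i / m, hq⟩ := Fin.ext h1
              subst this
              exact ⟨rfl, h2⟩
          · rintro (h | ⟨h1, h2⟩)
            · exact Or.inl h
            · right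
              subst h1
              exact ⟨rfl, h2⟩
        rw [hset]
        have hr : Set.range (fun t : Xs ⟨i / m, hq⟩ => ι ⟨i / m, hq⟩ t) =
            {y | ℓ y < i / m + 1} \ {y | ℓ y < i / m} := by
          rw [hrange']
          ext y
          simp
          omega
        exact ⟨isClosed_union_image (hcc' _).1 (hcc' (i / m + 1)).1
            (ι ⟨i / m, hq⟩).isEmbedding hr (hℓs_cc _ _).1,
          isConstructible_union_image (hcc' _).1 (hcc' _).2 (hcc' (i / m + 1)).1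
            (hcc' (i / m + 1)).2 (ι ⟨i / m, hq⟩).isEmbedding hr (hℓs_cc _ _).2⟩
      · have : {y | L y < i} = Set.univ := by
          ext x
          simp only [Set.mem_ofPred_eq, Set.mem_univ, iff_true]
          obtain ⟨a, t, rfl⟩ := hform x
          rw [hL, lex_lt m a (ℓs a t) i (hℓs_lt a t)]
          left
          have := a.2
          omega
        rw [this]
        exact ⟨isClosed_univ, IsConstructible.univ⟩
  · intro k hk
    have hm : 0 < m := by
      rcases Nat.eq_zero_or_pos m with h | h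
      · subst h
        simp at hk
      · exact h
    have hq : k / m < n := by
      rw [Nat.div_lt_iff_lt_mul hm]
      exact hk
    have hset : L ⁻¹' {k} = (fun t : Xs ⟨k / m, hq⟩ => ι ⟨k / m, hq⟩ t) ''
        (ℓs ⟨k / m, hq⟩ ⁻¹' {k % m}) := by
      ext x
      obtain ⟨a, t, rfl⟩ := hform x
      rw [himage]
      simp only [Set.mem_preimage, Set.mem_singleton_iff, hL]
      rw [lex_eq m a (ℓs a t) k (hℓs_lt a t)]
      constructor
      · rintro ⟨h1, h2⟩
        have : a = ⟨k / m, hq⟩ := Fin.ext h1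
        subst this
        exact ⟨rfl, h2⟩
      · rintro ⟨h1, h2⟩
        subst h1
        exact ⟨rfl, h2⟩
    rw [hset]
    exact hasSectOver_image v (ι ⟨k / m, hq⟩) (vs _) (w _) (hw _) _
      (hℓs_sec _ _ (Nat.mod_lt k hm))


theorem hasSectOver_pullback {U Y Y' : Scheme.{u}} (f : U ⟶ Y) (g : Y' ⟶ Y) (W : Set Y)
    (h : HasSectOver f W) :
    HasSectOver (Limits.pullback.snd f g) (g ⁻¹' W) := by
  obtain ⟨T, gT, s, himm, hrange, hs⟩ := h
  have hc : (Limits.pullback.fst gT g ≫ s) ≫ f = Limits.pullback.snd gT g ≫ g := by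
    rw [Category.assoc, hs, Limits.pullback.condition]
  refine ⟨Limits.pullback gT g, Limits.pullback.snd gT g,
    Limits.pullback.lift (Limits.pullback.fst gT g ≫ s) (Limits.pullback.snd gT g) hc, ?_, ?_, ?_⟩
  · infer_instance
  · rw [← hrange]
    exact Scheme.Pullback.range_snd gT g
  · exact Limits.pullback.lift_snd _ _ _

theorem isNisCoverLen_pullback_snd {U Y Y' : Scheme.{u}} (f : U ⟶ Y) (g : Y' ⟶ Y) (m : ℕ)
    (hf : IsNisCoverLen f m) :
    IsNisCoverLen (Limits.pullback.snd f g) m := by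
  obtain ⟨het, Z, h0, hlast, hmono, hcc, hsec⟩ := hf
  refine ⟨inferInstance, fun k => g ⁻¹' (Z k), ?_, ?_, ?_, ?_, ?_⟩
  · simp [h0]
  · simp [hlast]
  · intro a b hab
    exact Set.preimage_mono (hmono hab)
  · intro k
    exact ⟨(hcc k).1.preimage g.continuous, g.isConstructible_preimage (hcc k).2⟩
  · intro k
    have := hasSectOver_pullback f g _ (hsec k)
    rwa [Set.preimage_sdiff] at this

theorem isNisCoverLen_comp {Y₁ Y₂ Y₃ : Scheme.{u}} (g₁ : Y₁ ⟶ Y₂) (g₂ : Y₂ ⟶ Y₃)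
    [CompactSpace Y₃] [QuasiSeparatedSpace Y₃] (m₁ m₂ : ℕ)
    (h₁ : IsNisCoverLen g₁ m₁) (h₂ : IsNisCoverLen g₂ m₂) :
    IsNisCoverLen (g₁ ≫ g₂) (m₂ * m₁) := by
  have := h₁.etale
  obtain ⟨het₂, Z, h0, hlast, hmono, hcc, hsec⟩ := h₂
  choose T γ σ himm hrange hσ using hsec
  have : ∀ a, IsImmersion (γ a) := himm
  exact isNisCoverLen_of_strata (g₁ ≫ g₂) m₂ m₁ Z h0 hlast hmono hcc T γ hrange
    (fun a => Limits.pullback g₁ (σ a)) (fun a => Limits.pullback.snd g₁ (σ a))
    (fun a => isNisCoverLen_pullback_snd g₁ (σ a) m₁ h₁)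
    (fun a => Limits.pullback.fst g₁ (σ a))
    (fun a => by rw [← Category.assoc, Limits.pullback.condition, Category.assoc, hσ])

theorem isNisCoverLen_mono {U Y : Scheme.{u}} (f : U ⟶ Y) (m m' : ℕ) (hmm : m ≤ m')
    (hf : IsNisCoverLen f m) : IsNisCoverLen f m' := by
  have := hf.etale
  obtain ⟨ℓ, hlt, hcc, hsec⟩ := exists_level_of_isNisCoverLen f m hf
  refine isNisCoverLen_of_level f m' ℓ (fun y => lt_of_lt_of_le (hlt y) hmm) hcc ?_
  intro k hk
  by_cases hk' : k < m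
  · exact hsec k hk'
  · have : ℓ ⁻¹' {k} = ∅ := by
      ext y
      simp
      have := hlt y
      omega
    rw [this]
    refine ⟨∅, Scheme.emptyTo Y, Scheme.emptyTo U, inferInstance, ?_, ?_⟩
    · simp
      infer_instance
    · ext

theorem isNisCoverLen_of_comp {U' U Y : Scheme.{u}} (h : U' ⟶ U) (f : U ⟶ Y) [Etale f] (m : ℕ)
    (hf : IsNisCoverLen (h ≫ f) m) : IsNisCoverLen f m := by
  obtain ⟨het, Z, h0, hlast, hmono, hcc, hsec⟩ := hf
  refine ⟨inferInstance, Z, h0, hlast, hmono, hcc, fun k => ?_⟩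
  obtain ⟨T, g, s, himm, hrange, hs⟩ := hsec k
  exact ⟨T, g, s ≫ h, himm, hrange, by rw [Category.assoc, hs]⟩



theorem exists_immersion_open_inter_closed {X : Scheme.{u}} (V : X.Opens) (C : Set X)
    (hC : IsClosed C) :
    ∃ (T : Scheme.{u}) (g : T ⟶ (V : Scheme.{u})), IsImmersion (g ≫ V.ι) ∧
      Set.range (fun t : T => (g ≫ V.ι) t) = (V : Set X) ∩ C := by
  let I := Scheme.IdealSheafData.vanishingIdeal (X := X) ⟨C, hC⟩
  refine ⟨I.subschemeι ⁻¹ᵁ V, I.subschemeι ∣_ V, ?_, ?_⟩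
  · rw [morphismRestrict_ι]
    infer_instance
  · rw [morphismRestrict_ι]
    have h1 : Set.range (I.subschemeι) = C := by
      rw [Scheme.IdealSheafData.range_subschemeι]
      exact Scheme.IdealSheafData.coe_support_vanishingIdeal _
    ext x
    constructor
    · rintro ⟨t, rfl⟩
      refine ⟨?_, ?_⟩
      · exact t.2
      · rw [← h1]
        exact ⟨_, rfl⟩
    · rintro ⟨hxV, hxC⟩
      rw [← h1] at hxC
      obtain ⟨t, rfl⟩ := hxC
      exact ⟨⟨t, hxV⟩, rfl⟩



theorem exists_strata_of_openCover {X : Scheme.{u}} [CompactSpace X] [QuasiSeparatedSpace X]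
    (k : ℕ) (V : Fin k → X.Opens) (hV : ∀ i, IsCompact (V i : Set X)) (hcov : ⨆ i, V i = ⊤) :
    ∃ Z : Fin (k + 1) → Set X, Z 0 = ∅ ∧ Z (Fin.last k) = Set.univ ∧ Monotone Z ∧
      (∀ j, IsClosed (Z j) ∧ IsConstructible (Z j)) ∧
      ∀ j : Fin k, ∃ (T : Scheme.{u}) (g : T ⟶ (V j : Scheme.{u})), IsImmersion (g ≫ (V j).ι) ∧
        Set.range (fun t : T => (g ≫ (V j).ι) t) = Z j.succ \ Z j.castSucc := by
  let Z : Fin (k + 1) → Set X := fun j => (⋃ i : Fin k, ⋃ (_ : (j : ℕ) ≤ i), (V i : Set X))ᶜ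
  have hmem : ∀ (j : Fin (k + 1)) (x : X), x ∈ Z j ↔ ∀ i : Fin k, (j : ℕ) ≤ i → x ∉ V i := by
    intro j x
    simp [Z]
  have hcl : ∀ j, IsClosed (Z j) := by
    intro j
    apply IsOpen.isClosed_compl
    exact isOpen_iUnion fun i => isOpen_iUnion fun _ => (V i).2
  have hcons : ∀ j, IsConstructible (Z j) := by
    intro j
    apply IsConstructible.compl
    apply IsConstructible.iUnion
    intro i
    by_cases h : (j : ℕ) ≤ i
    · simp only [h, Set.iUnion_true]
      exact (hV i).isConstructible (V i).2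
    · simp only [h, Set.iUnion_false]
      exact IsConstructible.empty
  refine ⟨Z, ?_, ?_, ?_, fun j => ⟨hcl j, hcons j⟩, ?_⟩
  · ext x
    simp only [hmem, Set.mem_empty_iff_false, iff_false]
    intro h
    have : x ∈ (⨆ i, V i : X.Opens) := hcov ▸ trivial
    rw [TopologicalSpace.Opens.mem_iSup] at this
    obtain ⟨i, hi⟩ := this
    exact h i (Nat.zero_le _) hi
  · ext x
    simp only [hmem, Set.mem_univ, iff_true]
    intro i hi
    have := i.2
    simp at hi
    omega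
  · intro a b hab x hx
    rw [hmem] at hx ⊢
    intro i hi
    exact hx i (le_trans (by exact_mod_cast hab) hi)
  · intro j
    obtain ⟨T, g, h1, h2⟩ := exists_immersion_open_inter_closed (V j) (Z j.succ) (hcl _)
    refine ⟨T, g, h1, ?_⟩
    rw [h2]
    ext x
    simp only [Set.mem_inter_iff, Set.mem_sdiff, hmem, SetLike.mem_coe]
    constructor
    · rintro ⟨h3, h4⟩
      refine ⟨h4, ?_⟩
      intro h5
      exact h5 j (by simp) h3
    · rintro ⟨h3, h4⟩
      refine ⟨?_, h3⟩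
      by_contra h5
      apply h4
      intro i hi
      by_cases hij : i = j
      · subst hij
        exact h5
      · apply h3 i
        simp at hi ⊢
        have : (i : ℕ) ≠ j := fun h => hij (Fin.ext h)
        omega

theorem isNisCoverLen_sigmaDesc_opens {U : Scheme.{u}} [CompactSpace U] [QuasiSeparatedSpace U]
    (k : ℕ) (V : Fin k → U.Opens) (hV : ∀ i, IsCompact (V i : Set U)) (hcov : ⨆ i, V i = ⊤) :
    IsNisCoverLen
      (Limits.Sigma.desc (fun i => (V i).ι) : (∐ fun i => ((V i : U.Opens) : Scheme.{u})) ⟶ U) k := by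
  obtain ⟨Z, h0, hlast, hmono, hcc, hsec⟩ := exists_strata_of_openCover k V hV hcov
  have hloc : IsZariskiLocalAtSource @Etale.{u} := HasRingHomProperty.instIsZariskiLocalAtSource
  refine ⟨IsZariskiLocalAtSource.sigmaDesc (fun i => inferInstance), Z, h0, hlast, hmono, hcc, ?_⟩
  intro j
  obtain ⟨T, g, h1, h2⟩ := hsec j
  refine ⟨T, g ≫ (V j).ι, g ≫ Limits.Sigma.ι (fun i => ((V i : U.Opens) : Scheme.{u})) j, h1, h2, ?_⟩
  rw [Category.assoc, Limits.Sigma.ι_desc]


theorem exists_fin_affine_cover (Y : Scheme.{u}) [CompactSpace Y] :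
    ∃ (n : ℕ) (W : Fin n → Y.Opens), (∀ a, IsAffineOpen (W a)) ∧ ⨆ a, W a = ⊤ := by
  let W₀ : Y → Y.Opens := fun y => (Y.affineCover.f (Y.affineCover.idx y)).opensRange
  have hW₀ : ∀ y, IsAffineOpen (W₀ y) := fun y => isAffineOpen_opensRange _
  have hy : ∀ y, y ∈ W₀ y := fun y => Y.affineCover.covers y
  obtain ⟨t, ht⟩ := CompactSpace.elim_nhds_subcover (fun y => (W₀ y : Set Y))
    (fun y => (W₀ y).2.mem_nhds (hy y))
  refine ⟨t.card, fun a => W₀ (t.equivFin.symm a), fun a => hW₀ _, ?_⟩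
  rw [eq_top_iff]
  intro x _
  have hx : x ∈ ⋃ y ∈ t, (W₀ y : Set Y) := ht ▸ Set.mem_univ x
  simp only [Set.mem_iUnion] at hx
  obtain ⟨y, hyt, hxy⟩ := hx
  rw [TopologicalSpace.Opens.mem_iSup]
  refine ⟨t.equivFin ⟨y, hyt⟩, ?_⟩
  simpa using hxy

theorem exists_affine_shrink {B : CommRingCat.{u}} (n : ℕ) (O : Fin n → (Spec B).Opens)
    (hO : ⨆ a, O a = ⊤) :
    ∃ E : Fin n → (Spec B).Opens, (∀ a, IsAffineOpen (E a)) ∧ (∀ a, E a ≤ O a) ∧
      ⨆ a, E a = ⊤ := by
  have h1 : ∀ a, ∃ s : Set B, ∀ x : PrimeSpectrum B,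
      (x ∈ PrimeSpectrum.zeroLocus s ↔ ¬ ((show ↥(Spec B) from x) ∈ O a)) := fun a => by
    let Us : Set (PrimeSpectrum B) := {x | (show ↥(Spec B) from x) ∈ O a}
    have hUs : IsOpen Us := (O a).2
    obtain ⟨s, hs⟩ := (PrimeSpectrum.isOpen_iff Us).mp hUs
    refine ⟨s, fun x => ?_⟩
    rw [← hs]
    rfl
  choose s hs using h1
  have h2 : (⨆ a, Ideal.span (s a) : Ideal B) = ⊤ := by
    rw [← PrimeSpectrum.zeroLocus_empty_iff_eq_top, PrimeSpectrum.zeroLocus_iSup]
    rw [Set.eq_empty_iff_forall_notMem]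
    intro x hx
    have hx' : (show ↥(Spec B) from x) ∈ (⨆ a, O a : (Spec B).Opens) := hO ▸ trivial
    obtain ⟨a, ha⟩ := TopologicalSpace.Opens.mem_iSup.mp hx'
    have h3 := Set.mem_iInter.mp hx a
    rw [PrimeSpectrum.zeroLocus_span] at h3
    exact (hs a x).mp h3 ha
  have h3 : (1 : B) ∈ (⨆ a, Ideal.span (s a) : Ideal B) := h2 ▸ Submodule.mem_top
  rw [Submodule.mem_iSup_iff_exists_finsupp] at h3
  obtain ⟨e, he, hsum⟩ := h3
  refine ⟨fun a => (Spec B).basicOpen ((Scheme.ΓSpecIso B).inv (e a)), ?_, ?_, ?_⟩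
  · intro a
    exact (isAffineOpen_top (Spec B)).basicOpen _
  · intro a x hx
    change x ∈ (Spec B).basicOpen ((Scheme.ΓSpecIso B).inv (e a)) at hx
    rw [basicOpen_eq_of_affine] at hx
    have hx' : e a ∉ x.asIdeal := hx
    by_contra hx2
    have hx3 := (hs a x).mpr hx2
    rw [← PrimeSpectrum.zeroLocus_span] at hx3
    exact hx' (hx3 (he a))
  · rw [eq_top_iff]
    intro x _
    rw [TopologicalSpace.Opens.mem_iSup]
    by_contra hcon
    simp only [not_exists] at hcon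
    have h4 : ∀ a, e a ∈ x.asIdeal := by
      intro a
      by_contra h5
      apply hcon a
      change x ∈ (Spec B).basicOpen ((Scheme.ΓSpecIso B).inv (e a))
      rw [basicOpen_eq_of_affine]
      exact h5
    have h5 : (1 : B) ∈ x.asIdeal := by
      rw [← hsum]
      exact Ideal.sum_mem _ (fun a _ => h4 a)
    exact x.isPrime.ne_top ((Ideal.eq_top_iff_one _).mpr h5)


theorem isNisCoverLen_iso_comp {U' U Y : Scheme.{u}} (e : U' ⟶ U) [IsIso e] (f : U ⟶ Y) (m : ℕ)
    (hf : IsNisCoverLen f m) : IsNisCoverLen (e ≫ f) m := by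
  have := hf.etale
  obtain ⟨het, Z, h0, hlast, hmono, hcc, hsec⟩ := hf
  refine ⟨inferInstance, Z, h0, hlast, hmono, hcc, fun k => ?_⟩
  obtain ⟨T, g, s, himm, hrange, hs⟩ := hsec k
  exact ⟨T, g, s ≫ inv e, himm, hrange, by simp [hs]⟩

theorem isNisCoverLen_of_isPullback {P U Y Y' : Scheme.{u}} {fst : P ⟶ U} {snd : P ⟶ Y'}
    {f : U ⟶ Y} {g : Y' ⟶ Y} (h : IsPullback fst snd f g) (m : ℕ) (hf : IsNisCoverLen f m) :
    IsNisCoverLen snd m := by
  have := isNisCoverLen_iso_comp h.isoPullback.hom _ m (isNisCoverLen_pullback_snd f g m hf)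
  rwa [IsPullback.isoPullback_hom_snd] at this

theorem isNisCoverLen_morphismRestrict {U Y : Scheme.{u}} (f : U ⟶ Y) (W : Y.Opens) (m : ℕ)
    (hf : IsNisCoverLen f m) : IsNisCoverLen (f ∣_ W) m :=
  isNisCoverLen_of_isPullback (isPullback_morphismRestrict f W).flip m hf

theorem exists_affine_refinement {U Y : Scheme.{u}} [IsAffine U] [QuasiSeparatedSpace Y]
    (f : U ⟶ Y) (m' : ℕ) (hf : IsNisCoverLen f m') (W : Y.Opens) (hW : IsAffineOpen W) :
    ∃ (M : ℕ) (U' : Scheme.{u}) (_ : IsAffine U') (u : U' ⟶ U) (f' : U' ⟶ W),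
      u ≫ f = f' ≫ W.ι ∧ IsNisCoverLen f' M := by
  have hPc : IsCompact ((f ⁻¹ᵁ W : U.Opens) : Set U) := f.isCompact_preimage hW.isCompact
  have : CompactSpace (f ⁻¹ᵁ W : U.Opens) := isCompact_iff_compactSpace.mp hPc
  have : QuasiSeparatedSpace (f ⁻¹ᵁ W : U.Opens) :=
    quasiSeparatedSpace_of_quasiSeparated (f ⁻¹ᵁ W).ι
  obtain ⟨N, Pb, hPb, hcov⟩ := exists_fin_affine_cover (f ⁻¹ᵁ W : U.Opens).toScheme
  have : ∀ b, IsAffine (Pb b) := fun b => hPb b
  have : IsAffine W := hW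
  have hc := isNisCoverLen_sigmaDesc_opens N Pb (fun b => (hPb b).isCompact) hcov
  have hcomp := isNisCoverLen_comp _ (f ∣_ W) N m' hc (isNisCoverLen_morphismRestrict f W m' hf)
  refine ⟨m' * N, _, inferInstance, Limits.Sigma.desc (fun b => (Pb b).ι) ≫ (f ⁻¹ᵁ W).ι,
    Limits.Sigma.desc (fun b => (Pb b).ι) ≫ (f ∣_ W), ?_, hcomp⟩
  rw [Category.assoc, Category.assoc, morphismRestrict_ι]


theorem exists_uniform_affine_nis {U Y : Scheme.{u}} [IsAffine U]
    [CompactSpace Y] [QuasiSeparatedSpace Y] (f : U ⟶ Y) (m' : ℕ)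
    (hf : IsNisCoverLen f m') :
    ∃ m : ℕ, ∀ (B : CommRingCat.{u}) (g : Spec B ⟶ Y),
      ∃ (V : Scheme.{u}) (_ : IsAffine V) (v : V ⟶ Spec B) (w : V ⟶ U),
        IsNisCoverLen v m ∧ w ≫ f = v ≫ g := by
  obtain ⟨n, W, hW, hWcov⟩ := exists_fin_affine_cover Y
  choose M U' hU' u f' hcomm hNis using fun a => exists_affine_refinement f m' hf (W a) (hW a)
  have hNis' : ∀ a, IsNisCoverLen (f' a) (Finset.univ.sup M) := fun a =>
    isNisCoverLen_mono _ _ _ (Finset.le_sup (Finset.mem_univ a)) (hNis a)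
  refine ⟨n * Finset.univ.sup M, fun B g => ?_⟩
  have hOcov : ⨆ a, g ⁻¹ᵁ W a = ⊤ := by
    rw [eq_top_iff]
    intro x _
    have hx : g x ∈ (⨆ a, W a : Y.Opens) := hWcov ▸ trivial
    obtain ⟨a, ha⟩ := TopologicalSpace.Opens.mem_iSup.mp hx
    exact TopologicalSpace.Opens.mem_iSup.mpr ⟨a, ha⟩
  obtain ⟨E, hE, hEO, hEcov⟩ := exists_affine_shrink n (fun a => g ⁻¹ᵁ W a) hOcov
  have hga : ∀ a, g.resLE (W a) (E a) (hEO a) ≫ (W a).ι = (E a).ι ≫ g :=
    fun a => Scheme.Hom.resLE_comp_ι _ _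
  have : ∀ a, IsAffine (U' a) := hU'
  have : ∀ a, IsAffine (E a) := hE
  have : ∀ a, IsAffine (W a) := hW
  have : ∀ a, Etale (f' a) := fun a => (hNis a).etale
  have hloc : IsZariskiLocalAtSource @Etale.{u} := HasRingHomProperty.instIsZariskiLocalAtSource
  have hv : Etale (Sigma.desc (fun a => pullback.snd (f' a) (g.resLE (W a) (E a) (hEO a)) ≫ (E a).ι)) :=
    IsZariskiLocalAtSource.sigmaDesc (fun a => inferInstance)
  refine ⟨∐ fun a => pullback (f' a) (g.resLE (W a) (E a) (hEO a)), inferInstance,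
    Sigma.desc (fun a => pullback.snd (f' a) (g.resLE (W a) (E a) (hEO a)) ≫ (E a).ι),
    Sigma.desc (fun a => pullback.fst (f' a) (g.resLE (W a) (E a) (hEO a)) ≫ u a), ?_, ?_⟩
  · obtain ⟨Z, h0, hlast, hmono, hcc, hsec⟩ :=
      exists_strata_of_openCover n E (fun a => (hE a).isCompact) hEcov
    choose T j himm hrange using hsec
    have : ∀ a, IsImmersion (j a ≫ (E a).ι) := himm
    exact isNisCoverLen_of_strata _ n (Finset.univ.sup M) Z h0 hlast hmono hcc T
      (fun a => j a ≫ (E a).ι) hrange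
      (fun a => pullback (f' a) (j a ≫ g.resLE (W a) (E a) (hEO a)))
      (fun a => pullback.snd _ _)
      (fun a => isNisCoverLen_pullback_snd _ _ _ (hNis' a))
      (fun a => pullback.lift (pullback.fst _ _) (pullback.snd _ _ ≫ j a)
        (by rw [pullback.condition, Category.assoc]) ≫
        Sigma.ι (fun a => pullback (f' a) (g.resLE (W a) (E a) (hEO a))) a)
      (fun a => by simp only [Category.assoc, colimit.ι_desc, Cofan.mk_pt, Cofan.mk_ι_app]; rw [pullback.lift_snd_assoc, Category.assoc])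
  · apply Sigma.hom_ext
    intro a
    simp only [colimit.ι_desc_assoc, Cofan.mk_pt, Cofan.mk_ι_app, Category.assoc]
    rw [hcomm, ← hga, pullback.condition_assoc]

end Groth.Agent.Lib.Helper40.Nis
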