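import Groth.Statements.S17867
import Groth.Agent.Lib.Lead.PullbackAff1
import Groth.Agent.Lib.Helper40.Nis
import Groth.Agent.S17860
import Mathlib.Algebra.Category.ModuleCat.Sheaf.PullbackFree

set_option autoImplicit false
open CategoryTheory AlgebraicGeometry
universe u

namespace Groth.Agent.Lib.Helper40.NisGen

open Opposite TopologicalSpace Limits TensorProduct W4c5algebraiztannaka Topology

theorem final_opens_map {X Y : TopCat.{u}} (f : X ⟶ Y) : (Opens.map f).Final := by
  refine ⟨fun d => ?_⟩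
  have : Nonempty (StructuredArrow d (Opens.map f)) :=
    ⟨StructuredArrow.mk (Y := (⊤ : Opens Y)) (homOfLE (by intro x _; trivial))⟩
  refine zigzag_isConnected (fun a b => ?_)
  let t : StructuredArrow d (Opens.map f) :=
    StructuredArrow.mk (Y := (⊤ : Opens Y)) (homOfLE (by intro x _; trivial))
  have ha : a ⟶ t := StructuredArrow.homMk (homOfLE le_top) (Subsingleton.elim _ _)
  have hb : b ⟶ t := StructuredArrow.homMk (homOfLE le_top) (Subsingleton.elim _ _)
  exact (Zigzag.of_hom ha).trans (Zigzag.of_inv hb)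

noncomputable def pullbackUnitIso {X Y : Scheme.{u}} (h : Y ⟶ X) :
    (Scheme.Modules.pullback h).obj (Coh.structureModule X) ≅ Coh.structureModule Y := by
  have : (Opens.map h.base).Final := final_opens_map h.base
  have : (SheafOfModules.pushforward h.toRingCatSheafHom).IsRightAdjoint :=
    inferInstanceAs ((Scheme.Modules.pushforward h).IsRightAdjoint)
  have : IsIso (SheafOfModules.pullbackObjUnitToUnit h.toRingCatSheafHom) := by
    exact SheafOfModules.instIsIsoPullbackObjUnitToUnitOfFinal _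
  exact @asIso _ _ _ _ (SheafOfModules.pullbackObjUnitToUnit h.toRingCatSheafHom) this

def Gen {X : Scheme.{u}} (N : ℕ) (K : X.Modules) : Prop :=
  ∃ φ : FlatMod.freeMod X N ⟶ K, Epi φ

theorem gen_of_epi {X : Scheme.{u}} {N : ℕ} {K K' : X.Modules} (π : K ⟶ K') [Epi π]
    (h : Gen N K) : Gen N K' := by
  obtain ⟨φ, hφ⟩ := h
  exact ⟨φ ≫ π, epi_comp _ _⟩

theorem gen_of_iso {X : Scheme.{u}} {N : ℕ} {K K' : X.Modules} (e : K ≅ K')
    (h : Gen N K) : Gen N K' := gen_of_epi e.hom h

theorem gen_pullback {X Y : Scheme.{u}} (h : Y ⟶ X) {N : ℕ} {K : X.Modules} (hK : Gen N K) :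
    Gen N ((Scheme.Modules.pullback h).obj K) := by
  obtain ⟨φ, hφ⟩ := hK
  let e : (Scheme.Modules.pullback h).obj (FlatMod.freeMod X N) ≅ FlatMod.freeMod Y N :=
    (asIso (sigmaComparison (Scheme.Modules.pullback h) _)).symm ≪≫
      Sigma.mapIso (fun _ => pullbackUnitIso h)
  have : Epi ((Scheme.Modules.pullback h).map φ) := inferInstance
  exact ⟨e.inv ≫ (Scheme.Modules.pullback h).map φ, epi_comp _ _⟩

theorem gen_pullback_of_eq {X Y Z : Scheme.{u}} (a : Z ⟶ Y) (b : Y ⟶ X) (c : Z ⟶ X)
    (hc : a ≫ b = c) {N : ℕ} {K : X.Modules}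
    (hK : Gen N ((Scheme.Modules.pullback b).obj K)) :
    Gen N ((Scheme.Modules.pullback c).obj K) := by
  subst hc
  exact gen_of_iso ((Scheme.Modules.pullbackComp a b).app K) (gen_pullback a hK)

theorem gen_of_pullback_comp {X Y Z : Scheme.{u}} (a : Z ⟶ Y) (b : Y ⟶ X) {N : ℕ}
    {K : X.Modules} (hK : Gen N ((Scheme.Modules.pullback (a ≫ b)).obj K)) :
    Gen N ((Scheme.Modules.pullback a).obj ((Scheme.Modules.pullback b).obj K)) :=
  gen_of_iso ((Scheme.Modules.pullbackComp a b).symm.app K) hK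

theorem gen_tilde {R : CommRingCat.{u}} (M : ModuleCat.{u} R) (N : ℕ)
    (h : Gen N (tilde M)) : ∃ s : Fin N → M, Submodule.span R (Set.range s) = ⊤ := by
  obtain ⟨φ, hφ⟩ := h
  have hsurj : Function.Surjective (tilde.toOpen M ⊤) :=
    (ModuleCat.epi_iff_surjective _).mp inferInstance
  choose x hx using fun j : Fin N => hsurj (φ.app ⊤ (Groth.Agent.S17860.gen (Spec R) N j))
  refine ⟨x, ?_⟩
  let P : Submodule R M := Submodule.span R (Set.range x)
  let Q : ModuleCat.{u} R := ModuleCat.of R (M ⧸ P)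
  let q : M ⟶ Q := ModuleCat.ofHom P.mkQ
  have h0 : φ ≫ tilde.map q = 0 := by
    apply Sigma.hom_ext
    intro j
    rw [comp_zero]
    apply Groth.Agent.S17860.unit_hom_ext
    have h1 : (Sigma.ι (fun _ : Fin N => Coh.structureModule (Spec R)) j ≫ φ ≫ tilde.map q).val.app
        (op ⊤) (1 : (Spec R).ringCatSheaf.obj.obj (op ⊤)) =
        (tilde.map q).app ⊤ (φ.app ⊤ (Groth.Agent.S17860.gen (Spec R) N j)) := rfl
    rw [h1, ← hx j, Groth.Agent.S17860.tilde_map_toOpen]
    have : q (x j) = 0 :=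
      (Submodule.Quotient.mk_eq_zero _).mpr (Submodule.subset_span ⟨j, rfl⟩)
    rw [this, map_zero]
    rfl
  have h1 : tilde.map q = 0 := by
    rw [← cancel_epi φ, h0, comp_zero]
  have h2 : q = 0 := by
    apply (tilde.functor R).map_injective
    rw [Functor.map_zero]
    exact h1
  rw [eq_top_iff]
  intro m _
  have : q m = 0 := by rw [h2]; rfl
  exact (Submodule.Quotient.mk_eq_zero P).mp this

theorem span_top_of_surj {R S Q : Type u} [CommRing R] [CommRing S] [Algebra R S]
    [AddCommGroup Q] [Module R Q] [Module S Q] [IsScalarTower R S Q]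
    (hsurj : Function.Surjective (algebraMap R S)) (X : Set Q)
    (hy : Submodule.span S X = ⊤) : Submodule.span R X = ⊤ := by
  rw [← Submodule.restrictScalars_span R S hsurj, hy]
  rfl

theorem exists_lift_of_equiv {R M Q : Type u} [CommRing R] [AddCommGroup M] [Module R M]
    [AddCommGroup Q] [Module R Q] (J : Submodule R M) (θ : Q ≃ₗ[R] M ⧸ J) (k : ℕ)
    (y : Fin k → Q) (hy : Submodule.span R (Set.range y) = ⊤) :
    ∃ z : Fin k → M, Submodule.span R (Set.range z) ⊔ J = ⊤ := by
  choose z hz using fun j => Submodule.mkQ_surjective J (θ (y j))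
  refine ⟨z, ?_⟩
  rw [sup_comm, ← Submodule.map_mkQ_eq_top, eq_top_iff]
  intro q _
  have h1 : θ.symm q ∈ Submodule.span R (Set.range y) := hy ▸ Submodule.mem_top
  have h2 : ∀ w ∈ Submodule.span R (Set.range y),
      θ w ∈ Submodule.map J.mkQ (Submodule.span R (Set.range z)) := by
    intro w hw
    induction hw using Submodule.span_induction with
    | mem w hw =>
      obtain ⟨j, rfl⟩ := hw
      rw [← hz j]
      exact Submodule.mem_map_of_mem (Submodule.subset_span ⟨j, rfl⟩)
    | zero => rw [map_zero]; exact Submodule.zero_mem _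
    | add a b _ _ ha hb => rw [map_add]; exact Submodule.add_mem _ ha hb
    | smul r a _ ha => rw [map_smul]; exact Submodule.smul_mem _ r ha
  have h3 := h2 _ h1
  rwa [LinearEquiv.apply_symm_apply] at h3

theorem exists_lift_span_sup {R S M : Type u} [CommRing R] [CommRing S] [Algebra R S]
    [AddCommGroup M] [Module R M] (hsurj : Function.Surjective (algebraMap R S)) (k : ℕ)
    (y : Fin k → S ⊗[R] M) (hy : Submodule.span S (Set.range y) = ⊤) :
    ∃ z : Fin k → M, Submodule.span R (Set.range z) ⊔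
      (RingHom.ker (algebraMap R S) • (⊤ : Submodule R M)) = ⊤ := by
  let e1 : S ≃ₗ[R] R ⧸ RingHom.ker (algebraMap R S) :=
    (Ideal.quotientKerAlgEquivOfSurjective (f := Algebra.ofId R S) hsurj).symm.toLinearEquiv
  exact exists_lift_of_equiv _
    ((TensorProduct.congr e1 (LinearEquiv.refl R M)) ≪≫ₗ
      TensorProduct.quotTensorEquivQuotSMul M (RingHom.ker (algebraMap R S))) k y
    (span_top_of_surj hsurj _ hy)

theorem nakayama_sup {R M : Type u} [CommRing R] [AddCommGroup M] [Module R M] [Module.Finite R M]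
    (I : Ideal R) (P : Submodule R M) (h : P ⊔ I • (⊤ : Submodule R M) = ⊤) :
    ∃ r : R, r - 1 ∈ I ∧ ∀ m : M, r • m ∈ P := by
  have h1 : I • (⊤ : Submodule R (M ⧸ P)) = ⊤ := by
    have h2 := (Submodule.map_mkQ_eq_top (p := P) (p' := I • (⊤ : Submodule R M))).mpr h
    rw [Submodule.map_smul'', Submodule.map_top, Submodule.range_mkQ] at h2
    exact h2
  obtain ⟨r, hr, hr0⟩ := Submodule.exists_sub_one_mem_and_smul_eq_zero_of_fg_of_le_smul I
    (⊤ : Submodule R (M ⧸ P)) Module.Finite.fg_top (le_of_eq h1.symm)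
  refine ⟨r, hr, fun m => ?_⟩
  have := hr0 (P.mkQ m) Submodule.mem_top
  rw [← map_smul] at this
  exact (Submodule.Quotient.mk_eq_zero P).mp this

theorem exists_append_span {R M : Type u} [CommRing R] [AddCommGroup M] [Module R M]
    (a b : ℕ) (x : Fin a → M) (z : Fin b → M ⧸ Submodule.span R (Set.range x))
    (hz : Submodule.span R (Set.range z) = ⊤) :
    ∃ s : Fin (a + b) → M, Submodule.span R (Set.range s) = ⊤ := by
  choose w hw using fun j => Submodule.mkQ_surjective (Submodule.span R (Set.range x)) (z j)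
  refine ⟨Sum.elim x w ∘ finSumFinEquiv.symm, ?_⟩
  rw [EquivLike.range_comp, Set.Sum.elim_range, Submodule.span_union, ← Submodule.map_mkQ_eq_top,
    Submodule.map_span, ← Set.range_comp]
  have : (⇑(Submodule.span R (Set.range x)).mkQ ∘ w) = z := funext hw
  rw [this, hz]

noncomputable def extendScalarsEquiv {R S : Type u} [CommRing R] [CommRing S] (f : R →+* S)
    (M : ModuleCat.{u} R) :
    letI := f.toAlgebra
    ((ModuleCat.extendScalars f).obj M) ≃ₗ[S] S ⊗[R] M :=
  letI := f.toAlgebra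
  { toFun := fun x => x
    invFun := fun x => x
    left_inv := fun _ => rfl
    right_inv := fun _ => rfl
    map_add' := fun _ _ => rfl
    map_smul' := fun _ _ => rfl }

theorem finite_extendScalars {R S : CommRingCat.{u}} (ψ : R ⟶ S) (M : ModuleCat.{u} R)
    [Module.Finite R M] : Module.Finite S ((ModuleCat.extendScalars ψ.hom).obj M) := by
  let _ := ψ.hom.toAlgebra
  exact Module.Finite.equiv (extendScalarsEquiv ψ.hom M).symm

theorem exists_lift_extendScalars {R S : CommRingCat.{u}} (ψ : R ⟶ S)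
    (hsurj : Function.Surjective ψ.hom) (M : ModuleCat.{u} R) (k : ℕ)
    (y : Fin k → ((ModuleCat.extendScalars ψ.hom).obj M))
    (hy : Submodule.span S (Set.range y) = ⊤) :
    ∃ z : Fin k → M, Submodule.span R (Set.range z) ⊔
      (RingHom.ker ψ.hom • (⊤ : Submodule R M)) = ⊤ := by
  let _ := ψ.hom.toAlgebra
  exact exists_lift_span_sup (R := R) (S := S) (M := M) hsurj k y hy

theorem isNisCoverLen_pullback_drop {U Y Y' : Scheme.{u}} (f : U ⟶ Y) [Etale f] (g : Y' ⟶ Y)
    (m : ℕ) (ℓ : Y → ℕ) (hlt : ∀ y, ℓ y < m + 1)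
    (hcc : ∀ i : ℕ, IsClosed {y | ℓ y < i} ∧ IsConstructible {y | ℓ y < i})
    (hsec : ∀ k < m + 1, HasSectOver f (ℓ ⁻¹' {k}))
    (hpos : ∀ y' : Y', 1 ≤ ℓ (g y')) :
    IsNisCoverLen (pullback.snd f g) m := by
  refine Nis.isNisCoverLen_of_level _ m (fun y' => ℓ (g y') - 1) ?_ ?_ ?_
  · intro y'
    have := hlt (g y')
    have := hpos y'
    omega
  · intro i
    have : {y' : Y' | ℓ (g y') - 1 < i} = g ⁻¹' {y | ℓ y < i + 1} := by
      ext y'
      have := hpos y'
      simp only [Set.mem_ofPred_eq, Set.mem_preimage]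
      omega
    rw [this]
    exact ⟨(hcc _).1.preimage g.continuous, g.isConstructible_preimage (hcc _).2⟩
  · intro k hk
    have := Nis.hasSectOver_pullback f g _ (hsec (k + 1) (by omega))
    convert this using 1
    ext y'
    have := hpos y'
    simp only [Set.mem_preimage, Set.mem_singleton_iff]
    omega

theorem base_case (N : ℕ) (R : CommRingCat.{u}) (M : ModuleCat.{u} R) (U : Scheme.{u})
    (f : U ⟶ Spec R) (hf : IsNisCoverLen f 0) :
    ∃ s : Fin (N * 0) → M, Submodule.span R (Set.range s) = ⊤ := by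
  obtain ⟨ℓ, hlt, -, -⟩ := Nis.exists_level_of_isNisCoverLen f 0 hf
  have hemp : IsEmpty (PrimeSpectrum R) := ⟨fun y => absurd (hlt y) (Nat.not_lt_zero _)⟩
  have hsub : Subsingleton R := by
    by_contra h
    rw [not_subsingleton_iff_nontrivial] at h
    exact hemp.false (Classical.arbitrary (PrimeSpectrum R))
  have : Subsingleton M := Module.subsingleton R M
  refine ⟨fun i => 0, ?_⟩
  rw [eq_top_iff]
  intro x _
  rw [Subsingleton.elim x 0]
  exact Submodule.zero_mem _

theorem step (N m : ℕ)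
    (ih : ∀ (R : CommRingCat.{u}) (M : ModuleCat.{u} R) [Module.Finite R M] (U : Scheme.{u})
      (f : U ⟶ Spec R), IsNisCoverLen f m → Gen N ((Scheme.Modules.pullback f).obj (tilde M)) →
      ∃ s : Fin (N * m) → M, Submodule.span R (Set.range s) = ⊤)
    (R : CommRingCat.{u}) (M : ModuleCat.{u} R) [Module.Finite R M] (U : Scheme.{u})
    (f : U ⟶ Spec R) (hf : IsNisCoverLen f (m + 1))
    (hg : Gen N ((Scheme.Modules.pullback f).obj (tilde M))) :
    ∃ s : Fin (N + N * m) → M, Submodule.span R (Set.range s) = ⊤ := by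
  have het := hf.etale
  obtain ⟨ℓ, hlt, hcc, hsec⟩ := Nis.exists_level_of_isNisCoverLen f (m + 1) hf
  obtain ⟨T, g, s, himm, hrange, hs⟩ := hsec 0 (Nat.succ_pos m)
  have hcl : IsClosed (Set.range g) := by
    have h1 : Set.range g = {y | ℓ y < 1} := by
      rw [show Set.range g = Set.range (fun t : T => g t) from rfl, hrange]
      ext y
      simp only [Set.mem_preimage, Set.mem_singleton_iff, Set.mem_ofPred_eq]
      omega
    rw [h1]
    exact (hcc 1).1
  have hci : IsClosedImmersion g := IsClosedImmersion.of_isPreimmersion g hcl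
  obtain ⟨I, e, he⟩ := IsClosedImmersion.Spec_iff.mp hci
  let ψ : R ⟶ CommRingCat.of (R ⧸ I) := CommRingCat.ofHom (Ideal.Quotient.mk I)
  have hψ : Function.Surjective ψ.hom := Ideal.Quotient.mk_surjective
  have hs' : (e.inv ≫ s) ≫ f = Spec.map ψ := by
    rw [Category.assoc, hs, he, Iso.inv_hom_id_assoc]
  have h1 : Gen N ((Scheme.Modules.pullback (Spec.map ψ)).obj (tilde M)) :=
    gen_pullback_of_eq (e.inv ≫ s) f (Spec.map ψ) hs' hg
  have h2 : Gen N (tilde ((ModuleCat.extendScalars ψ.hom).obj M)) :=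
    gen_of_iso ((Groth.Agent.Lib.Lead.PullbackAff.tildePullbackIso ψ).app M) h1
  obtain ⟨y, hy⟩ := gen_tilde _ N h2
  obtain ⟨x, hx⟩ := exists_lift_extendScalars ψ hψ M N y hy
  obtain ⟨r, hrI, hrP⟩ := nakayama_sup (RingHom.ker ψ.hom) (Submodule.span R (Set.range x)) hx
  let P : Submodule R M := Submodule.span R (Set.range x)
  let M' : ModuleCat.{u} R := ModuleCat.of R (M ⧸ P)
  let q : M ⟶ M' := ModuleCat.ofHom P.mkQ
  have hq : Epi q := (ModuleCat.epi_iff_surjective q).mpr P.mkQ_surjective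
  let ψ'' : R ⟶ CommRingCat.of (R ⧸ Ideal.span {r}) :=
    CommRingCat.ofHom (Ideal.Quotient.mk (Ideal.span {r}))
  have hψ'' : Function.Surjective ψ''.hom := Ideal.Quotient.mk_surjective
  have hfin : Module.Finite (CommRingCat.of (R ⧸ Ideal.span {r}))
      ((ModuleCat.extendScalars ψ''.hom).obj M') := finite_extendScalars ψ'' M'
  have hpos : ∀ y' : Spec (CommRingCat.of (R ⧸ Ideal.span {r})), 1 ≤ ℓ (Spec.map ψ'' y') := by
    intro y'
    by_contra hcon
    have h0 : ℓ (Spec.map ψ'' y') = 0 := by omega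
    have hmem : Spec.map ψ'' y' ∈ Set.range (fun t : T => g t) := by
      rw [hrange]
      exact h0
    obtain ⟨t, ht⟩ := hmem
    have ht' : Spec.map ψ (e.hom t) = Spec.map ψ'' y' := by
      rw [← ht, he]
      rfl
    have hr1 : r ∈ (Spec.map ψ'' y').asIdeal := by
      rw [Spec.map_apply]
      change ψ''.hom r ∈ y'.asIdeal
      have : ψ''.hom r = 0 :=
        Ideal.Quotient.eq_zero_iff_mem.mpr (Ideal.subset_span (Set.mem_singleton r))
      rw [this]
      exact Ideal.zero_mem _
    have hr2 : r - 1 ∈ (Spec.map ψ'' y').asIdeal := by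
      rw [← ht', Spec.map_apply]
      change ψ.hom (r - 1) ∈ (e.hom t).asIdeal
      have : ψ.hom (r - 1) = 0 := hrI
      rw [this]
      exact Ideal.zero_mem _
    have h1 : (1 : R) ∈ (Spec.map ψ'' y').asIdeal := by
      have := Ideal.sub_mem _ hr1 hr2
      simpa using this
    exact (Spec.map ψ'' y').isPrime.ne_top ((Ideal.eq_top_iff_one _).mpr h1)
  have hf'' : IsNisCoverLen (pullback.snd f (Spec.map ψ'')) m :=
    isNisCoverLen_pullback_drop f (Spec.map ψ'') m ℓ hlt hcc hsec hpos
  have hg1 : Gen N ((Scheme.Modules.pullback f).obj (tilde M')) := by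
    have : Epi (tilde.map q) := (tilde.functor R).map_epi q
    have : Epi ((Scheme.Modules.pullback f).map (tilde.map q)) := inferInstance
    exact gen_of_epi ((Scheme.Modules.pullback f).map (tilde.map q)) hg
  have hg2 : Gen N ((Scheme.Modules.pullback (pullback.snd f (Spec.map ψ'') ≫ Spec.map ψ'')).obj
      (tilde M')) :=
    gen_pullback_of_eq (pullback.fst f (Spec.map ψ'')) f _ pullback.condition hg1
  have hg3 : Gen N ((Scheme.Modules.pullback (pullback.snd f (Spec.map ψ''))).obj
      (tilde ((ModuleCat.extendScalars ψ''.hom).obj M'))) :=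
    gen_of_iso ((Scheme.Modules.pullback (pullback.snd f (Spec.map ψ''))).mapIso
      ((Groth.Agent.Lib.Lead.PullbackAff.tildePullbackIso ψ'').app M'))
      (gen_of_pullback_comp _ _ hg2)
  obtain ⟨z'', hz''⟩ := ih _ ((ModuleCat.extendScalars ψ''.hom).obj M') _
    (pullback.snd f (Spec.map ψ'')) hf'' hg3
  obtain ⟨z', hz'⟩ := exists_lift_extendScalars ψ'' hψ'' M' (N * m) z'' hz''
  have hker : RingHom.ker ψ''.hom • (⊤ : Submodule R M') = ⊥ := by
    rw [eq_bot_iff]
    rw [Submodule.smul_le]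
    intro a ha n _
    have ha' : a ∈ Ideal.span {r} := by
      have : RingHom.ker ψ''.hom = Ideal.span {r} := Ideal.mk_ker
      rw [← this]
      exact ha
    obtain ⟨c, rfl⟩ := Ideal.mem_span_singleton'.mp ha'
    obtain ⟨n0, rfl⟩ := P.mkQ_surjective n
    rw [Submodule.mem_bot, mul_smul, ← map_smul, ← map_smul]
    exact (Submodule.Quotient.mk_eq_zero P).mpr (P.smul_mem c (hrP n0))
  rw [hker, sup_bot_eq] at hz'
  exact exists_append_span N (N * m) x z' hz'


theorem main (N : ℕ) : ∀ (m : ℕ) (R : CommRingCat.{u}) (M : ModuleCat.{u} R) [Module.Finite R M]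
    (U : Scheme.{u}) (f : U ⟶ Spec R), IsNisCoverLen f m →
    Gen N ((Scheme.Modules.pullback f).obj (tilde M)) →
    ∃ s : Fin (N * m) → M, Submodule.span R (Set.range s) = ⊤ := by
  intro m
  induction m with
  | zero =>
    intro R M _ U f hf _
    exact base_case N R M U f hf
  | succ m ih =>
    intro R M _ U f hf hg
    obtain ⟨s, hs⟩ := step N m ih R M U f hf hg
    have hN : N + N * m = N * (m + 1) := by ring
    refine ⟨s ∘ Fin.cast hN.symm, ?_⟩
    rw [← hs]
    congr 1
    exact (Fin.castOrderIso hN.symm).toEquiv.surjective.range_comp s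

end Groth.Agent.Lib.Helper40.NisGen
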