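import Groth.Prelude.Def_CohDer
import Mathlib.CategoryTheory.Limits.Shapes.ZeroMorphisms
import Mathlib.CategoryTheory.Limits.Preserves.Shapes.Products
import Mathlib.CategoryTheory.Adjunction.Limits
import Mathlib.CategoryTheory.Adjunction.Additive
import Mathlib.CategoryTheory.Shift.Basic

set_option autoImplicit false
set_option linter.unusedSectionVars false
universe v u u'
open CategoryTheory CategoryTheory.Limits

namespace Groth.Agent.Lib.Helper40.Cpt

section Basic

variable {D : Type u} [Category.{v} D] [Preadditive D]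

def FinSum {ι : Type*} (K : D) {Z : ι → D} {W : D} (t : ∀ i, Z i ⟶ W) (m : K ⟶ W) : Prop :=
  ∃ (F : Finset ι) (g : ∀ i, K ⟶ Z i), (∀ i, i ∉ F → g i = 0) ∧ m = ∑ i ∈ F, g i ≫ t i

lemma FinSum.precomp {ι : Type*} {K K' : D} {Z : ι → D} {W : D} {t : ∀ i, Z i ⟶ W} {m : K ⟶ W}
    (h : FinSum K t m) (p : K' ⟶ K) : FinSum K' t (p ≫ m) := by
  obtain ⟨F, g, hg0, hg⟩ := h
  refine ⟨F, fun i => p ≫ g i, fun i hi => by
    change p ≫ g i = 0
    rw [hg0 i hi, comp_zero], ?_⟩
  rw [hg, Preadditive.comp_sum]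
  simp only [Category.assoc]

lemma finSum_transfer {ι : Type*} {K : D} {Z Z' : ι → D} {W W' : D} (t : ∀ i, Z i ⟶ W)
    (t' : ∀ i, Z' i ⟶ W') (θ : ∀ i, Z i ≅ Z' i) (θW : W ≅ W')
    (hnat : ∀ i, t i ≫ θW.hom = (θ i).hom ≫ t' i) (m : K ⟶ W)
    (h : FinSum K t' (m ≫ θW.hom)) : FinSum K t m := by
  obtain ⟨F, g, hg0, hg⟩ := h
  refine ⟨F, fun i => g i ≫ (θ i).inv, fun i hi => by
    change g i ≫ (θ i).inv = 0
    rw [hg0 i hi, zero_comp], ?_⟩
  have h1 : m = (m ≫ θW.hom) ≫ θW.inv := by simp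
  rw [h1, hg, Preadditive.sum_comp]
  refine Finset.sum_congr rfl fun i _ => ?_
  have h2 : t' i ≫ θW.inv = (θ i).inv ≫ t i := by
    rw [← cancel_mono θW.hom, Category.assoc, Category.assoc, Iso.inv_hom_id, Category.comp_id,
      hnat, Iso.inv_hom_id_assoc]
  rw [Category.assoc, h2, Category.assoc]

lemma FinSum.of_sum {ι : Type*} {K : D} {Z : ι → D} {W : D} (t : ∀ i, Z i ⟶ W)
    (F : Finset ι) (g : ∀ i, K ⟶ Z i) : FinSum K t (∑ i ∈ F, g i ≫ t i) := by
  classical
  refine ⟨F, fun i => if i ∈ F then g i else 0, fun i hi => by simp [hi], ?_⟩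
  refine Finset.sum_congr rfl fun i hi => ?_
  simp [hi]

lemma FinSum.add {ι : Type*} {K : D} {Z : ι → D} {W : D} {t : ∀ i, Z i ⟶ W} {m m' : K ⟶ W}
    (h : FinSum K t m) (h' : FinSum K t m') : FinSum K t (m + m') := by
  classical
  obtain ⟨F, g, hg0, hg⟩ := h
  obtain ⟨F', g', hg0', hg'⟩ := h'
  refine ⟨F ∪ F', fun i => g i + g' i, fun i hi => ?_, ?_⟩
  · rw [Finset.notMem_union] at hi
    change g i + g' i = 0
    rw [hg0 i hi.1, hg0' i hi.2, add_zero]
  · simp only [Preadditive.add_comp, Finset.sum_add_distrib]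
    rw [hg, hg']
    congr 1
    · exact Finset.sum_subset Finset.subset_union_left
        (fun i _ hi => by rw [hg0 i hi, zero_comp])
    · exact Finset.sum_subset Finset.subset_union_right
        (fun i _ hi => by rw [hg0' i hi, zero_comp])

variable [HasCoproducts.{v} D]

lemma finSum_inj {D' : Type*} [Category D'] [Preadditive D'] {ι : Type v} {K : D'} (X : ι → D)
    (T : D ⥤ D') [T.PreservesZeroMorphisms] (F : Finset ι) (g : ∀ i, K ⟶ T.obj (X i))
    (hg0 : ∀ i, i ∉ F → g i = 0) (h : ∑ i ∈ F, g i ≫ T.map (Sigma.ι X i) = 0) :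
    ∀ i, g i = 0 := by
  classical
  intro i
  by_cases hi : i ∈ F
  · have h1 := congrArg (fun m => m ≫ T.map (Sigma.π X i)) h
    simp only [zero_comp, Preadditive.sum_comp, Category.assoc, ← T.map_comp] at h1
    rw [Finset.sum_eq_single i] at h1
    · simpa using h1
    · intro j _ hji
      rw [Sigma.ι_π_of_ne X hji, T.map_zero, comp_zero]
    · intro hi'
      exact absurd hi hi'
  · exact hg0 i hi

lemma homSum_apply (K : D) {ι : Type v} (X : ι → D) (x : DirectSum ι (fun i => K ⟶ X i)) :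
    CohDer.homSumToHomCoprod K X x = by
      classical exact ∑ i ∈ DFinsupp.support x, x i ≫ Sigma.ι X i := by
  classical
  simp only [CohDer.homSumToHomCoprod, DirectSum.toAddMonoid, DFinsupp.liftAddHom_apply]
  rw [DFinsupp.sumAddHom_apply, DFinsupp.sum]
  rfl

lemma homSum_of (K : D) {ι : Type v} (X : ι → D) (i : ι) (g : K ⟶ X i) :
    CohDer.homSumToHomCoprod K X (by classical exact DirectSum.of (fun i => K ⟶ X i) i g) =
      g ≫ Sigma.ι X i := by
  classical
  simp [CohDer.homSumToHomCoprod]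
  rfl

lemma finSum_of_compact {K : D} (hK : CohDer.IsCompactObject K) {ι : Type v} (X : ι → D)
    (m : K ⟶ ∐ X) : FinSum K (Sigma.ι X) m := by
  classical
  obtain ⟨x, hx⟩ := (hK ι X).2 m
  refine ⟨DFinsupp.support x, fun i => x i, fun i hi => ?_, ?_⟩
  · simpa [DFinsupp.mem_support_iff] using hi
  · rw [← hx, homSum_apply]

lemma homSum_injective (K : D) {ι : Type v} (X : ι → D) :
    Function.Injective (CohDer.homSumToHomCoprod K X) := by
  classical
  rw [injective_iff_map_eq_zero]
  intro x hx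
  apply DFinsupp.ext
  intro i
  have h1 := congrArg (fun m => m ≫ Sigma.π X i) hx
  simp only [homSum_apply, zero_comp, Preadditive.sum_comp, Category.assoc] at h1
  rw [Finset.sum_eq_single i] at h1
  · simpa using h1
  · intro j _ hji
    rw [Sigma.ι_π_of_ne X hji, comp_zero]
  · intro hi
    have : x i = 0 := by simpa [DFinsupp.mem_support_iff] using hi
    rw [this, zero_comp]

lemma isCompact_of_finSum {K : D}
    (h : ∀ (ι : Type v) (X : ι → D) (m : K ⟶ ∐ X), FinSum K (Sigma.ι X) m) :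
    CohDer.IsCompactObject K := by
  classical
  intro ι X
  refine ⟨homSum_injective K X, fun m => ?_⟩
  obtain ⟨F, g, _, hg⟩ := h ι X m
  refine ⟨∑ i ∈ F, DirectSum.of (fun i => K ⟶ X i) i (g i), ?_⟩
  rw [map_sum, hg]
  refine Finset.sum_congr rfl fun i _ => ?_
  exact homSum_of K X i (g i)

lemma isCompact_of_iso {K K' : D} (e : K ≅ K') (hK : CohDer.IsCompactObject K) :
    CohDer.IsCompactObject K' := by
  apply isCompact_of_finSum
  intro ι X m
  have h := (finSum_of_compact hK X (e.hom ≫ m)).precomp e.inv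
  rwa [Iso.inv_hom_id_assoc] at h

end Basic

section Adj

variable {C : Type u} [Category.{v} C] [Preadditive C] {D : Type u'} [Category.{v} D]
  [Preadditive D] [HasCoproducts.{v} C] [HasCoproducts.{v} D]

lemma finSum_of_adj {G : C ⥤ D} {G' : D ⥤ C} (adj : G ⊣ G') [G'.Additive]
    (K : C) (hK : CohDer.IsCompactObject (G.obj K)) {ι : Type v} (X : ι → C)
    (m : K ⟶ G'.obj (G.obj (∐ X))) :
    FinSum K (fun i => G'.map (G.map (Sigma.ι X i))) m := by
  have : PreservesColimitsOfSize.{v, v} G := adj.leftAdjoint_preservesColimits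
  obtain ⟨F, a, ha0, ha⟩ := finSum_of_compact hK (fun i => G.obj (X i))
    ((adj.homEquiv _ _).symm m ≫ inv (sigmaComparison G X))
  refine ⟨F, fun i => adj.homEquiv _ _ (a i), fun i hi => ?_, ?_⟩
  · change adj.homEquiv _ _ (a i) = 0
    rw [ha0 i hi, Adjunction.homEquiv_unit, Functor.map_zero, comp_zero]
  · have h1 : (adj.homEquiv _ _).symm m = ∑ i ∈ F, a i ≫ G.map (Sigma.ι X i) := by
      have h2 := congrArg (fun t => t ≫ sigmaComparison G X) ha
      simp only [Category.assoc, IsIso.inv_hom_id, Category.comp_id, Preadditive.sum_comp,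
        ι_comp_sigmaComparison] at h2
      exact h2
    have h3 : m = adj.homEquiv _ _ ((adj.homEquiv _ _).symm m) := by simp
    rw [h3, h1, Adjunction.homEquiv_unit, Functor.map_sum, Preadditive.comp_sum]
    refine Finset.sum_congr rfl fun i _ => ?_
    change _ = adj.homEquiv _ _ (a i) ≫ G'.map (G.map (Sigma.ι X i))
    rw [Adjunction.homEquiv_unit, Functor.map_comp, Category.assoc]

end Adj

section Shift

variable {D : Type u} [Category.{v} D] [Preadditive D] [HasCoproducts.{v} D] [HasShift D ℤ]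
  [∀ n : ℤ, (shiftFunctor D n).Additive]

lemma isCompact_shift {K : D} (hK : CohDer.IsCompactObject K) (n : ℤ) :
    CohDer.IsCompactObject (K⟦n⟧) := by
  apply isCompact_of_finSum
  intro ι X m
  let E := shiftEquiv' D (-n) n (by omega)
  have hK' : CohDer.IsCompactObject ((shiftFunctor D (-n)).obj (K⟦n⟧)) :=
    isCompact_of_iso ((shiftFunctorCompIsoId D n (-n) (by omega)).app K).symm hK
  have : E.inverse.Additive := inferInstanceAs (shiftFunctor D n).Additive
  have h := finSum_of_adj E.toAdjunction (K⟦n⟧) hK' X (m ≫ E.unitIso.hom.app (∐ X))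
  refine finSum_transfer (Sigma.ι X) _ (fun i => E.unitIso.app (X i)) (E.unitIso.app (∐ X))
    (fun i => ?_) m h
  exact E.unitIso.hom.naturality (Sigma.ι X i)

end Shift

end Groth.Agent.Lib.Helper40.Cpt
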