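import Groth.Agent.Lib.Helper21.ClImmUnit2
import Groth.Agent.Lib.Helper48.OmegaAff1
import Mathlib.RingTheory.IsTensorProduct

/-!
# Helper40: tools for affine base change

* `isIso_of_app_bijective_of_basis`: a morphism of `O_X`-modules bijective on sections over a basis
  of opens is an isomorphism.
* `bijective_liftBaseChange_of_universal`: a semilinear map with the universal property of the
  base change induces a bijection from the tensor product.
* `pullTensor`: `Γ(X,U) ⊗[Γ(Y,V)] Γ(G,V) ≃ₗ Γ(f^*G,U)` with the formula `a ⊗ m ↦ a • pullRes m`.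
-/

set_option autoImplicit false
universe u

open AlgebraicGeometry CategoryTheory Opposite TopologicalSpace TensorProduct

namespace Groth.Agent.Lib.Helper40.AffBC

section Basis

variable {X : Scheme.{u}}

lemma exists_basis_germ_eq (B : Set X.Opens) (hB : Opens.IsBasis B) (M : X.Modules) (x : X)
    (s : M.presheaf.stalk x) :
    ∃ (U : X.Opens) (_ : U ∈ B) (hx : x ∈ U) (t : Γ(M, U)),
      M.presheaf.germ U x hx t = s := by
  obtain ⟨U, hxU, t, rfl⟩ := M.presheaf.exists_germ_eq (x := x) s
  obtain ⟨V, hV, hxV, hVU⟩ := Opens.isBasis_iff_nbhd.mp hB hxU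
  exact ⟨V, hV, hxV, M.presheaf.map (homOfLE hVU).op t,
    TopCat.Presheaf.germ_res_apply _ _ _ _ _⟩

open Groth.Agent.Lib.Helper21.ClImmUnit in
/-- A morphism of `O_X`-modules which is bijective on sections over all members of a basis of
opens is an isomorphism. -/
theorem isIso_of_app_bijective_of_basis (B : Set X.Opens) (hB : Opens.IsBasis B)
    {M N : X.Modules} (φ : M ⟶ N)
    (h : ∀ U ∈ B, Function.Bijective (φ.app U)) : IsIso φ := by
  have h1 : IsIso ((Scheme.Modules.toPresheaf X).map φ) := by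
    let F : TopCat.Sheaf Ab X := ⟨M.presheaf, M.isSheaf⟩
    let G : TopCat.Sheaf Ab X := ⟨N.presheaf, N.isSheaf⟩
    let f : F ⟶ G := ⟨(Scheme.Modules.toPresheaf X).map φ⟩
    have hf : ∀ x : X, IsIso ((TopCat.Presheaf.stalkFunctor Ab x).map f.1) := by
      intro x
      refine (ConcreteCategory.isIso_iff_bijective _).2 ⟨?_, ?_⟩
      · rw [injective_iff_map_eq_zero]
        intro s hs
        obtain ⟨U, hU, hxU, t, rfl⟩ := exists_basis_germ_eq B hB M x s
        erw [TopCat.Presheaf.stalkFunctor_map_germ_apply U x hxU φ.mapPresheaf t] at hs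
        rw [Scheme.Modules.mapPresheaf_app] at hs
        have hs' : N.presheaf.germ U x hxU (φ.app U t) = N.presheaf.germ U x hxU 0 :=
          hs.trans (map_zero _).symm
        obtain ⟨W, hxW, iU, iV, hW⟩ := TopCat.Presheaf.germ_eq N.presheaf x hxU hxU _ _ hs'
        obtain ⟨V, hV, hxV, hVW⟩ := Opens.isBasis_iff_nbhd.mp hB hxW
        have e1 : φ.app V (M.presheaf.map (homOfLE hVW ≫ iU).op t) = 0 := by
          rw [app_naturality_apply, op_comp, Functor.map_comp, ConcreteCategory.comp_apply, hW,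
            map_zero, map_zero]
        have e2 := (h V hV).1 (e1.trans (map_zero _).symm)
        have e3 := TopCat.Presheaf.germ_res_apply M.presheaf (homOfLE hVW ≫ iU) x hxV t
        rw [e2, map_zero] at e3
        exact e3.symm
      · intro s
        obtain ⟨U, hU, hxU, t, rfl⟩ := exists_basis_germ_eq B hB N x s
        obtain ⟨t', rfl⟩ := (h U hU).2 t
        exact ⟨M.presheaf.germ U x hxU t',
          TopCat.Presheaf.stalkFunctor_map_germ_apply U x hxU φ.mapPresheaf t'⟩
    have := TopCat.Presheaf.isIso_of_stalkFunctor_map_iso f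
    exact (TopCat.Sheaf.forget Ab X).map_isIso f
  exact isIso_of_reflects_iso φ (Scheme.Modules.toPresheaf X)

end Basis

section Alg

variable {R R' : Type u} [CommRing R] [CommRing R'] [Algebra R R']
  {N : Type u} [AddCommGroup N] [Module R N]
  {P : Type u} [AddCommGroup P] [Module R P] [Module R' P] [IsScalarTower R R' P]

/-- A linear map `ρ : N → P` into an `R'`-module with the universal property of `R' ⊗[R] N`
induces a bijection `R' ⊗[R] N → P`. -/
theorem bijective_liftBaseChange_of_universal (ρ : N →ₗ[R] P)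
    (huniv : ∀ (Q : Type u) [AddCommGroup Q] [Module R' Q] (l : N →+ Q),
      (∀ (a : R) (n : N), l (a • n) = algebraMap R R' a • l n) →
      ∃! α : P →ₗ[R'] Q, ∀ n, α (ρ n) = l n) :
    Function.Bijective (LinearMap.liftBaseChange R' ρ) := by
  set τ := LinearMap.liftBaseChange R' ρ with hτ
  -- the map `n ↦ 1 ⊗ n`
  let l : N →+ R' ⊗[R] N := (TensorProduct.mk R R' N 1).toAddMonoidHom
  have hl : ∀ (a : R) (n : N), l (a • n) = algebraMap R R' a • l n := by
    intro a n
    change (1 : R') ⊗ₜ[R] (a • n) = algebraMap R R' a • ((1 : R') ⊗ₜ[R] n)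
    rw [TensorProduct.smul_tmul', ← TensorProduct.smul_tmul, Algebra.smul_def, mul_one,
      smul_eq_mul, mul_one]
  obtain ⟨α, hα, -⟩ := huniv (R' ⊗[R] N) l hl
  -- τ ∘ α = id
  have h1 : τ ∘ₗ α = LinearMap.id := by
    obtain ⟨γ, -, hγ⟩ := huniv P ρ.toAddMonoidHom (fun a n => by
      change ρ (a • n) = algebraMap R R' a • ρ n
      rw [map_smul, algebraMap_smul])
    have e1 : τ ∘ₗ α = γ := hγ _ (fun n => by
      change τ (α (ρ n)) = ρ n
      rw [hα]
      change τ ((1 : R') ⊗ₜ[R] n) = ρ n
      rw [hτ, LinearMap.liftBaseChange_tmul, one_smul])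
    have e2 : LinearMap.id = γ := hγ _ (fun n => rfl)
    rw [e1, e2]
  -- α ∘ τ = id
  have h2 : α ∘ₗ τ = LinearMap.id := by
    apply TensorProduct.AlgebraTensorModule.curry_injective
    ext n
    change α (τ ((1 : R') ⊗ₜ[R] n)) = (1 : R') ⊗ₜ[R] n
    rw [hτ, LinearMap.liftBaseChange_tmul, one_smul, hα]
    rfl
  refine ⟨?_, ?_⟩
  · intro x y hxy
    have := congr(α $hxy)
    change (α ∘ₗ τ) x = (α ∘ₗ τ) y at this
    rwa [h2] at this
  · intro p
    exact ⟨α p, congr($h1 p)⟩

end Alg

section PullTensor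

open Scheme.Modules Groth.Agent.Lib.Helper48.OmegaAff

variable {X Y : Scheme.{u}} (f : X ⟶ Y) (G : Y.Modules) [G.IsQuasicoherent]
  {U : X.Opens} {V : Y.Opens}
  (hU : IsAffineOpen U) (hV : IsAffineOpen V) (e : U ≤ f ⁻¹ᵁ V)

/-- `pullRes` as a linear map over `Γ(Y, V)`, for the restricted action on `Γ(f^*G, U)`. -/
noncomputable def pullResL :
    letI := (f.appLE V U e).hom.toAlgebra
    letI : Module Γ(Y, V) Γ((pullback f).obj G, U) := Module.compHom _ (f.appLE V U e).hom
    Γ(G, V) →ₗ[Γ(Y, V)] Γ((pullback f).obj G, U) :=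
  letI := (f.appLE V U e).hom.toAlgebra
  letI : Module Γ(Y, V) Γ((pullback f).obj G, U) := Module.compHom _ (f.appLE V U e).hom
  { toFun := pullRes f G e
    map_add' := map_add _
    map_smul' := fun a m => pullRes_smul f G e a m }

/-- The canonical map `Γ(X,U) ⊗[Γ(Y,V)] Γ(G,V) → Γ(f^*G,U)`, `a ⊗ m ↦ a • (η m)|_U`. -/
noncomputable def pullTensorHom :
    letI := (f.appLE V U e).hom.toAlgebra
    Γ(X, U) ⊗[Γ(Y, V)] Γ(G, V) →ₗ[Γ(X, U)] Γ((pullback f).obj G, U) :=
  letI := (f.appLE V U e).hom.toAlgebra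
  letI : Module Γ(Y, V) Γ((pullback f).obj G, U) := Module.compHom _ (f.appLE V U e).hom
  haveI : IsScalarTower Γ(Y, V) Γ(X, U) Γ((pullback f).obj G, U) :=
    IsScalarTower.of_algebraMap_smul fun _ _ => rfl
  LinearMap.liftBaseChange Γ(X, U) (pullResL f G e)

omit [G.IsQuasicoherent] in
theorem pullTensorHom_tmul (a : Γ(X, U)) (m : Γ(G, V)) :
    letI := (f.appLE V U e).hom.toAlgebra
    pullTensorHom f G e (a ⊗ₜ m) = a • pullRes f G e m := by
  letI := (f.appLE V U e).hom.toAlgebra
  letI : Module Γ(Y, V) Γ((pullback f).obj G, U) := Module.compHom _ (f.appLE V U e).hom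
  haveI : IsScalarTower Γ(Y, V) Γ(X, U) Γ((pullback f).obj G, U) :=
    IsScalarTower.of_algebraMap_smul fun _ _ => rfl
  exact LinearMap.liftBaseChange_tmul _ _ _ _

include hU hV in
theorem pullTensorHom_bijective :
    letI := (f.appLE V U e).hom.toAlgebra
    Function.Bijective (pullTensorHom f G e) := by
  letI := (f.appLE V U e).hom.toAlgebra
  letI : Module Γ(Y, V) Γ((pullback f).obj G, U) := Module.compHom _ (f.appLE V U e).hom
  haveI : IsScalarTower Γ(Y, V) Γ(X, U) Γ((pullback f).obj G, U) :=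
    IsScalarTower.of_algebraMap_smul fun _ _ => rfl
  apply bijective_liftBaseChange_of_universal (pullResL f G e)
  intro Q _ _ l hl
  exact existsUnique_of_semilinear f G hU hV e Q l hl

end PullTensor

end Groth.Agent.Lib.Helper40.AffBC
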