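import Mathlib.AlgebraicGeometry.Modules.Tilde
import Groth.Agent.Lib.Lead.QCohLocal

set_option autoImplicit false
universe u
open AlgebraicGeometry CategoryTheory CategoryTheory.Limits Opposite TopologicalSpace

namespace Groth.Agent.Lib.Helper40.QCohCoprod
set_option backward.isDefEq.respectTransparency.types false

open Scheme.Modules

theorem qc_of_iso {X : Scheme.{u}} {F G : X.Modules} (e : F ≅ G) (hF : F.IsQuasicoherent) :
    G.IsQuasicoherent :=
  (SheafOfModules.isQuasicoherent X.ringCatSheaf).prop_of_iso e hF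

set_option backward.isDefEq.respectTransparency false in
/-- coproducts of tildes are tildes -/
theorem isQuasicoherent_sigma_spec {R : CommRingCat.{u}} {I : Type u} (N : I → (Spec R).Modules)
    [∀ i, (N i).IsQuasicoherent] : (∐ N).IsQuasicoherent := by
  have hiso : ∀ i, IsIso ((Scheme.Modules.fromTildeΓNatTrans (R := R)).app (N i)) := fun i =>
    Scheme.Modules.isIso_fromTildeΓ_of_isQuasicoherent (N i)
  let e : ∀ i, (tilde.functor R).obj (moduleSpecΓFunctor.obj (N i)) ≅ N i := fun i =>
    @asIso _ _ _ _ ((Scheme.Modules.fromTildeΓNatTrans (R := R)).app (N i)) (hiso i)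
  let e2 : (tilde.functor R).obj (∐ fun i => moduleSpecΓFunctor.obj (N i)) ≅ ∐ N :=
    PreservesCoproduct.iso (tilde.functor R) _ ≪≫ Sigma.mapIso e
  have h2 : ((tilde.functor R).obj (∐ fun i => moduleSpecΓFunctor.obj (N i))).IsQuasicoherent :=
    inferInstance
  exact qc_of_iso e2 h2

set_option backward.isDefEq.respectTransparency false in
/-- arbitrary (small) coproducts of quasi-coherent modules are quasi-coherent -/
theorem isQuasicoherent_sigma {Y : Scheme.{u}} {I : Type u} (M : I → Y.Modules)
    [∀ i, (M i).IsQuasicoherent] : (∐ M).IsQuasicoherent := by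
  apply Groth.Agent.Lib.Lead.QCohLocal.isQuasicoherent_of_forall_affine
  intro x
  obtain ⟨_, ⟨V, hV : IsAffineOpen V, rfl⟩, hxV, -⟩ :=
    (Y.isBasis_affineOpens).exists_subset_of_mem_open (Set.mem_univ x) isOpen_univ
  refine ⟨V, hV, hxV, ?_⟩
  have : PreservesColimitsOfSize.{u, u} (Scheme.Modules.restrictFunctor hV.fromSpec) :=
    inferInstance
  let e : (restrictFunctor hV.fromSpec).obj (∐ M) ≅ ∐ fun i => (M i).restrict hV.fromSpec :=
    PreservesCoproduct.iso (restrictFunctor hV.fromSpec) M
  exact qc_of_iso e.symm (isQuasicoherent_sigma_spec (fun i => (M i).restrict hV.fromSpec))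


/-- a quasi-coherent module on an affine scheme has a global presentation -/
noncomputable def presentationOfIsAffine {Y : Scheme.{u}} [IsAffine Y] (N : Y.Modules)
    [N.IsQuasicoherent] : N.Presentation :=
  let e := Y.isoSpec
  let P0 : (N.restrict e.inv).Presentation :=
    Groth.Agent.Lib.Lead.QCohLocal.presentationOfIsQuasicoherent _
  let P1 : ((N.restrict e.inv).restrict e.hom).Presentation := presentationRestrict e.hom P0
  let i : (N.restrict e.inv).restrict e.hom ≅ N :=
    ((restrictFunctorComp e.hom e.inv).app N).symm ≪≫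
      (restrictFunctorCongr e.hom_inv_id).app N ≪≫ restrictFunctorId.app N
  SheafOfModules.Presentation.ofIsIso i.hom P1

/-- quasi-coherence can be checked on an open cover -/
theorem isQuasicoherent_of_isOpenCover {X : Scheme.{u}} (M : X.Modules) {ι : Type*}
    (U : ι → X.Opens) (hU : IsOpenCover U) (h : ∀ i, (M.restrict (U i).ι).IsQuasicoherent) :
    M.IsQuasicoherent := by
  apply Groth.Agent.Lib.Lead.QCohLocal.isQuasicoherent_of_forall_affine
  intro x
  obtain ⟨i, hxi⟩ : ∃ i, x ∈ U i := by
    have : x ∈ ⨆ i, U i := by rw [hU.iSup_eq_top]; trivial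
    exact Opens.mem_iSup.1 this
  obtain ⟨_, ⟨V, hV : IsAffineOpen V, rfl⟩, hxV, hVU⟩ :=
    (X.isBasis_affineOpens).exists_subset_of_mem_open hxi (U i).2
  refine ⟨V, hV, hxV, ?_⟩
  have hle : V ≤ U i := hVU
  have hf : hV.fromSpec = (hV.isoSpec.inv ≫ X.homOfLE hle) ≫ (U i).ι := by
    rw [Category.assoc, Scheme.homOfLE_ι]; rfl
  haveI := h i
  have h2 : ((M.restrict (U i).ι).restrict (hV.isoSpec.inv ≫ X.homOfLE hle)).IsQuasicoherent :=
    inferInstance
  exact qc_of_iso ((restrictFunctorCongr hf).app M ≪≫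
    (restrictFunctorComp (hV.isoSpec.inv ≫ X.homOfLE hle) (U i).ι).app M).symm h2

end Groth.Agent.Lib.Helper40.QCohCoprod
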