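import Groth.Agent.Lib.Helper40.SubSh7

/-!
# Finite affine covers of quasi-compact quasi-separated schemes for the extension theorems
-/

set_option autoImplicit false
universe u

open AlgebraicGeometry CategoryTheory Opposite TopologicalSpace Limits

namespace Groth.Agent.Lib.Helper40.SSh

set_option backward.isDefEq.respectTransparency.types false

variable {X : Scheme.{u}}

open SubSh in
/-- On a qcqs scheme, a finite affine cover satisfying the compactness hypotheses of
`exists_extension_module` relative to a quasi-compact open `U`. -/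
theorem exists_fin_cover_qcqs (X : Scheme.{u}) [CompactSpace X] [QuasiSeparatedSpace X]
    (U : X.Opens) (hU : IsCompact (U : Set X)) :
    ∃ (n : ℕ) (V : Fin n → X.Opens), (∀ l, IsAffineOpen (V l)) ∧ ⨆ l, V l = ⊤ ∧
      ∀ l, IsCompact ((V l ⊓ (U ⊔ Wl V l) : X.Opens) : Set X) := by
  obtain ⟨t, ht⟩ := (isCompact_univ (X := X)).elim_finite_subcover
    (fun V : X.affineOpens => ((V : X.Opens) : Set X)) (fun V => V.1.isOpen)
    (fun x _ => by
      have hx : x ∈ ⨆ V : X.affineOpens, (V : X.Opens) :=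
        (iSup_affineOpens_eq_top X) ▸ (show x ∈ (⊤ : X.Opens) from trivial)
      obtain ⟨V, hV⟩ := TopologicalSpace.Opens.mem_iSup.1 hx
      exact Set.mem_iUnion.2 ⟨V, hV⟩)
  let W : Fin t.card → X.affineOpens := fun k => (t.equivFin.symm k).1
  refine ⟨t.card, fun l => (W l).1, fun l => (W l).2, ?_, ?_⟩
  · apply top_le_iff.1
    intro x _
    have := ht (Set.mem_univ x)
    simp only [Set.mem_iUnion, exists_prop] at this
    obtain ⟨V, hVt, hxV⟩ := this
    refine TopologicalSpace.Opens.mem_iSup.2 ⟨t.equivFin ⟨V, hVt⟩, ?_⟩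
    simp only [W, Equiv.symm_apply_apply]
    exact hxV
  · intro l
    have h1 : IsCompact (((W l).1 : Set X) ∩ (U : Set X)) :=
      QuasiSeparatedSpace.inter_isCompact _ _ (W l).1.isOpen (W l).2.isCompact U.isOpen hU
    have h2 : IsCompact (⋃ m : {m : Fin t.card // m < l},
        (((W l).1 : Set X) ∩ ((W m.1).1 : Set X))) :=
      isCompact_iUnion (fun m => QuasiSeparatedSpace.inter_isCompact _ _ (W l).1.isOpen
        (W l).2.isCompact (W m.1).1.isOpen (W m.1).2.isCompact)
    have h3 := h1.union h2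
    convert h3 using 1
    ext x
    simp only [Wl, TopologicalSpace.Opens.coe_inf,
      TopologicalSpace.Opens.coe_sup, TopologicalSpace.Opens.coe_iSup, Set.mem_inter_iff,
      Set.mem_union, Set.mem_iUnion, SetLike.mem_coe]
    constructor
    · rintro ⟨h, hU | ⟨m, hm⟩⟩
      · exact Or.inl ⟨h, hU⟩
      · exact Or.inr ⟨m, h, hm⟩
    · rintro (⟨h, hU⟩ | ⟨m, h, hm⟩)
      · exact ⟨h, Or.inl hU⟩
      · exact ⟨h, Or.inr ⟨m, hm⟩⟩

open SubSh Groth.Agent.Lib.Lead.QCohAff in
/-- A finitely generated submodule of sections over an affine open of a qcqs scheme extends to a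
quasi-coherent submodule of finite type. -/
theorem exists_ft_sub_of_fg_qcqs [CompactSpace X] [QuasiSeparatedSpace X] (F : X.Modules)
    [F.IsQuasicoherent] {U : X.Opens} (hU : IsAffineOpen U) (M : Submodule Γ(X, U) Γ(F, U))
    (hM : M.FG) :
    ∃ (G : X.Modules) (i : G ⟶ F), Mono i ∧ G.IsQuasicoherent ∧
      SheafOfModules.IsFiniteType (R := X.ringCatSheaf) G ∧
      ∀ s ∈ M, ∃ g : Γ(G, U), i.app U g = s := by
  obtain ⟨n, V, hV, hcov, hW⟩ := exists_fin_cover_qcqs X U hU.isCompact
  obtain ⟨G', i', hmono, hq, hft, hmem⟩ := exists_extension_subSh V hV hcov U hW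
    F (gen U (M : Set Γ(F, U))) (isLocal_gen _ _) (fun T s hs => gen_closed _ _ s hs)
    (fun V' hV'a hV' => ⟨qcOn_gen_of_le _ _ hV'a hV', fg_gen_of_le _ M hM hV'a hV'⟩)
  exact ⟨G', i', hmono, hq, hft, fun s hs => (hmem U le_rfl s).1 (subset_gen _ _ hs)⟩

end Groth.Agent.Lib.Helper40.SSh
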