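import Groth.Agent.S4408
import Groth.Agent.Lib.Lead.CohAff3
import Groth.Agent.Lib.Lead.QCohAff8
import Groth.Prelude.Def_BlowUp2

/-!
# Finite type quasi-coherent ideals with prescribed support (helper40)

On a qcqs scheme, for every affine open `U` there is an ideal sheaf of finite type whose support is
the complement of `U` (Stacks 01PD for affine opens).
-/

set_option autoImplicit false
universe u

open AlgebraicGeometry CategoryTheory Opposite TopologicalSpace Limits

namespace Groth.Agent.Lib.Helper40.FTIdeal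

set_option backward.isDefEq.respectTransparency.types false

open Groth.Agent.Lib.Lead.QCohAff Groth.Agent.Lib.Helper22.IdealModAff Groth.Agent.Lib.Lead.Inv
  Groth.Agent.Lib.Helper40.SSh Groth.Agent.S4408

variable {X : Scheme.{u}} (I0 : X.IdealSheafData) {G : X.Modules} (j : G ⟶ ClSub.idealMod I0)

/-- The ideal sheaf data given by a quasi-coherent module mapping to an ideal module. -/
noncomputable def ofSub [G.IsQuasicoherent] : X.IdealSheafData where
  ideal V := LinearMap.range (ii I0 j V.1)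
  map_ideal_basicOpen V f := by
    apply le_antisymm
    · rw [Ideal.map_le_iff_le_comap]
      rintro _ ⟨s, rfl⟩
      exact ⟨G.presheaf.map (homOfLE (X.basicOpen_le f)).op s, ii_res I0 j _ s⟩
    · rintro _ ⟨t, rfl⟩
      obtain ⟨n, s, hs⟩ := exists_res_eq_pow_smul G V.2 f t
      have h1 : (X.presheaf.map (homOfLE (X.basicOpen_le f)).op f) ^ n * ii I0 j (X.basicOpen f) t ∈
          Ideal.map (X.presheaf.map (homOfLE (X.basicOpen_le f)).op).hom
            (LinearMap.range (ii I0 j V.1)) := by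
        rw [← smul_eq_mul, ← map_smul, ← hs, ii_res]
        exact Ideal.mem_map_of_mem _ ⟨s, rfl⟩
      have hu : IsUnit ((X.presheaf.map (homOfLE (X.basicOpen_le f)).op f) ^ n) :=
        (isUnit_res_basicOpen f).pow n
      exact (Ideal.unit_mul_mem_iff_mem _ hu).mp h1

theorem ofSub_ideal [G.IsQuasicoherent] (V : X.affineOpens) :
    (ofSub I0 j).ideal V = LinearMap.range (ii I0 j V.1) := rfl

theorem ofSub_le [G.IsQuasicoherent] : ofSub I0 j ≤ I0 := by
  intro V a ha
  obtain ⟨s, rfl⟩ := ha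
  exact (mem_ideal_iff I0 V _).mpr ⟨j.app V.1 s, rfl⟩

theorem isFiniteTypeIdeal_ofSub [G.IsQuasicoherent]
    (hft : SheafOfModules.IsFiniteType (R := X.ringCatSheaf) G) :
    BlowUp.IsFiniteTypeIdeal (ofSub I0 j) := by
  intro V
  rw [ofSub_ideal, LinearMap.range_eq_map]
  have : Module.Finite Γ(X, V.1) Γ(G, V.1) := Groth.Agent.Lib.Lead.CohAff.finite_sections_of_isFiniteType G hft V.2
  exact Submodule.FG.map _ (Module.Finite.fg_top)

/-- **Stacks 01PD (affine case)**: on a qcqs scheme, the complement of an affine open is the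
support of an ideal sheaf of finite type. -/
theorem exists_ft_ideal_support_eq_compl [CompactSpace X] [QuasiSeparatedSpace X] (U : X.Opens)
    (hU : IsAffineOpen U) :
    ∃ I : X.IdealSheafData, BlowUp.IsFiniteTypeIdeal I ∧ (I.support : Set X) = (U : Set X)ᶜ ∧
      (1 : Γ(X, U)) ∈ I.ideal ⟨U, hU⟩ := by
  let Z : Closeds X := ⟨(U : Set X)ᶜ, U.isOpen.isClosed_compl⟩
  let I0 : X.IdealSheafData := Scheme.IdealSheafData.vanishingIdeal Z
  have hsupp : (I0.support : Set X) = (U : Set X)ᶜ :=
    Scheme.IdealSheafData.coe_support_vanishingIdeal Z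
  obtain ⟨t0, ht0⟩ := (mem_ideal_iff I0 ⟨U, hU⟩ 1).mp (one_mem_vanishingIdeal_compl U hU)
  obtain ⟨G, j, hmono, hq, hft, hmem⟩ := exists_ft_sub_of_fg_qcqs (ClSub.idealMod I0) hU
    (Submodule.span _ {t0}) (Submodule.fg_span_singleton _)
  obtain ⟨g, hg⟩ := hmem t0 (Submodule.mem_span_singleton_self _)
  haveI : G.IsQuasicoherent := hq
  have h1 : (1 : Γ(X, U)) ∈ (ofSub I0 j).ideal ⟨U, hU⟩ := ⟨g, by rw [ii_apply, hg, ht0]⟩
  refine ⟨ofSub I0 j, isFiniteTypeIdeal_ofSub I0 j hft, ?_, h1⟩
  apply subset_antisymm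
  · intro y hy hyU
    have h2 := (Scheme.IdealSheafData.mem_support_iff_of_mem (I := ofSub I0 j)
      (U := ⟨U, hU⟩) hyU).mp hy
    rw [Scheme.mem_zeroLocus_iff] at h2
    have h3 := h2 1 h1
    rw [Scheme.basicOpen_of_isUnit _ isUnit_one] at h3
    exact h3 hyU
  · rw [← hsupp]
    exact Scheme.IdealSheafData.support_antitone (ofSub_le I0 j)

/-- The ideal module of an ideal sheaf of finite type is of finite type. -/
theorem isFT_idealMod (I : X.IdealSheafData) (hI : BlowUp.IsFiniteTypeIdeal I) :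
    CohB1.IsFT (ClSub.idealMod I) := by
  apply Groth.Agent.Lib.Lead.CohAff.isFiniteType_of_finite_sections
  intro x
  obtain ⟨_, ⟨U, hU, rfl⟩, hxU, -⟩ :=
    X.isBasis_affineOpens.exists_subset_of_mem_open (Set.mem_univ x) isOpen_univ
  refine ⟨U, hU, hxU, ?_⟩
  have hr : LinearMap.range (incl I U) = I.ideal ⟨U, hU⟩ := by
    ext a
    exact ((mem_ideal_iff I ⟨U, hU⟩ a).symm)
  have h1 : Module.Finite Γ(X, U) (LinearMap.range (incl I U)) := by
    rw [hr]
    exact Module.Finite.iff_fg.mpr (hI ⟨U, hU⟩)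
  exact Module.Finite.equiv (LinearEquiv.ofInjective (incl I U) (incl_injective I U)).symm

end Groth.Agent.Lib.Helper40.FTIdeal
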