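import Groth.Agent.Lib.Lead.QCohCrit
import Groth.Agent.Lib.Lead.CohAff3
import Mathlib.Algebra.Category.ModuleCat.Presheaf.Submodule

/-!
# Sectionwise subsheaves of an `O_X`-module (helper40 library)

`SubSh F` : a family of submodules `N(T) ⊆ Γ(F, T)` stable under restriction.  `IsLocal` is the
sheaf condition.  `toMod`/`ι` build the corresponding `X.Modules` with its monomorphism to `F`.
-/

set_option autoImplicit false
universe u

open AlgebraicGeometry CategoryTheory Opposite TopologicalSpace Limits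

namespace Groth.Agent.Lib.Helper40.SSh

open Groth.Agent.Lib.Lead.QCohAff

set_option backward.isDefEq.respectTransparency.types false

variable {X : Scheme.{u}}

/-- A family of submodules of the sections of `F`, stable under restriction. -/
structure SubSh (F : X.Modules) where
  obj (T : X.Opens) : Submodule Γ(X, T) Γ(F, T)
  res_mem {T T' : X.Opens} (h : T' ≤ T) {s : Γ(F, T)} :
    s ∈ obj T → F.presheaf.map (homOfLE h).op s ∈ obj T'

namespace SubSh

variable {F : X.Modules}

/-- The sheaf condition for a `SubSh`. -/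
def IsLocal (N : SubSh F) : Prop :=
  ∀ (T : X.Opens) (s : Γ(F, T)),
    (∀ x ∈ T, ∃ (T' : X.Opens) (h : T' ≤ T), x ∈ T' ∧ F.presheaf.map (homOfLE h).op s ∈ N.obj T') →
      s ∈ N.obj T

theorem mem_of_eq (N : SubSh F) {T T' : X.Opens} (h : T' = T) {s : Γ(F, T)}
    (hs : F.presheaf.map (homOfLE h.le).op s ∈ N.obj T') : s ∈ N.obj T := by
  subst h
  rwa [res_self] at hs

theorem mem_iff_of_eq (N : SubSh F) {T T' : X.Opens} (h : T' = T) {s : Γ(F, T)} :
    F.presheaf.map (homOfLE h.le).op s ∈ N.obj T' ↔ s ∈ N.obj T :=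
  ⟨N.mem_of_eq h, N.res_mem h.le⟩

theorem fg_of_eq (N : SubSh F) {T T' : X.Opens} (h : T' = T) (hfg : (N.obj T').FG) :
    (N.obj T).FG := by
  subst h
  exact hfg

/-- The associated Mathlib `PresheafOfModules.Submodule`. -/
def toSub (N : SubSh F) : PresheafOfModules.Submodule F.val where
  obj T := N.obj T.unop
  map f := fun _ hs => N.res_mem (leOfHom f.unop) hs

theorem isSheaf_toSub (N : SubSh F) (hN : N.IsLocal) :
    Presheaf.IsSheaf (Opens.grothendieckTopology X) N.toSub.toPresheafOfModules.presheaf := by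
  refine (TopCat.Presheaf.isSheaf_iff_isSheafUniqueGluing _).2 ?_
  intro ι U sf hsf
  have hF := (TopCat.Presheaf.isSheaf_iff_isSheafUniqueGluing _).1 F.isSheaf
  let val : ∀ T : X.Opens, ToType (N.toSub.toPresheafOfModules.presheaf.obj (op T)) → Γ(F, T) :=
    fun T a => (show ↥(N.obj T) from a).1
  have hval : ∀ (T : X.Opens) (a : ToType (N.toSub.toPresheafOfModules.presheaf.obj (op T))),
      val T a ∈ N.obj T := fun T a => (show ↥(N.obj T) from a).2
  obtain ⟨s, hs, hs'⟩ := hF U (fun i => val (U i) (sf i)) (by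
    intro i j
    exact congrArg Subtype.val (hsf i j))
  have hmem : s ∈ N.obj (iSup U) := by
    apply hN
    intro x hx
    obtain ⟨i, hi⟩ := Opens.mem_iSup.1 hx
    refine ⟨U i, le_iSup U i, hi, ?_⟩
    have := hs i
    change F.presheaf.map (homOfLE (le_iSup U i)).op s = _ at this
    rw [this]
    exact hval _ _
  refine ⟨(⟨s, hmem⟩ : N.obj (iSup U)), ?_, ?_⟩
  · intro i
    exact Subtype.ext (hs i)
  · intro t ht
    apply Subtype.ext
    apply hs'
    intro i
    exact congrArg Subtype.val (ht i)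

/-- The `O_X`-module associated with a local `SubSh`. -/
noncomputable def toMod (N : SubSh F) (hN : N.IsLocal) : X.Modules :=
  (⟨N.toSub.toPresheafOfModules, N.isSheaf_toSub hN⟩ : SheafOfModules X.ringCatSheaf)

/-- The inclusion. -/
noncomputable def ι (N : SubSh F) (hN : N.IsLocal) : N.toMod hN ⟶ F :=
  (⟨N.toSub.ι⟩ : SheafOfModules.Hom _ _)

instance (N : SubSh F) (hN : N.IsLocal) : Mono (N.ι hN) := by
  haveI : Mono ((Scheme.Modules.toPresheafOfModules X).map (N.ι hN)) :=
    inferInstanceAs (Mono N.toSub.ι)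
  exact (Scheme.Modules.toPresheafOfModules X).mono_of_mono_map this

/-- Sections of `toMod` are elements of the submodules. -/
def sec (N : SubSh F) (hN : N.IsLocal) {T : X.Opens} (a : N.obj T) : Γ(N.toMod hN, T) := a

/-- The underlying section of `F`. -/
def val (N : SubSh F) (hN : N.IsLocal) {T : X.Opens} (a : Γ(N.toMod hN, T)) : Γ(F, T) :=
  (show ↥(N.obj T) from a).1

theorem val_mem (N : SubSh F) (hN : N.IsLocal) {T : X.Opens} (a : Γ(N.toMod hN, T)) :
    N.val hN a ∈ N.obj T := (show ↥(N.obj T) from a).2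

theorem val_sec (N : SubSh F) (hN : N.IsLocal) {T : X.Opens} (a : N.obj T) :
    N.val hN (N.sec hN a) = a.1 := rfl

theorem val_injective (N : SubSh F) (hN : N.IsLocal) {T : X.Opens} :
    Function.Injective (N.val hN (T := T)) := fun _ _ h => Subtype.ext h

theorem ι_app_apply (N : SubSh F) (hN : N.IsLocal) {T : X.Opens} (a : Γ(N.toMod hN, T)) :
    (N.ι hN).app T a = N.val hN a := rfl

theorem ι_val_app_apply (N : SubSh F) (hN : N.IsLocal) {T : X.Opens} (a : Γ(N.toMod hN, T)) :
    ((N.ι hN).val.app (op T)).hom a = N.val hN a := rfl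

theorem val_smul (N : SubSh F) (hN : N.IsLocal) {T : X.Opens} (r : Γ(X, T))
    (a : Γ(N.toMod hN, T)) : N.val hN (r • a) = r • N.val hN a := rfl

theorem val_zero (N : SubSh F) (hN : N.IsLocal) {T : X.Opens} :
    N.val hN (0 : Γ(N.toMod hN, T)) = 0 := rfl

theorem val_res (N : SubSh F) (hN : N.IsLocal) {T T' : X.Opens} (h : T' ≤ T)
    (a : Γ(N.toMod hN, T)) :
    N.val hN ((N.toMod hN).presheaf.map (homOfLE h).op a) =
      F.presheaf.map (homOfLE h).op (N.val hN a) := rfl

/-- Quasi-coherence test on an affine open `V` (surjectivity part of localisation). -/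
def QCOn (N : SubSh F) (V : X.Opens) : Prop :=
  ∀ (f : Γ(X, V)) (t : Γ(F, X.basicOpen f)), t ∈ N.obj (X.basicOpen f) →
    ∃ (n : ℕ) (s : Γ(F, V)), s ∈ N.obj V ∧
      F.presheaf.map (homOfLE (X.basicOpen_le f)).op s =
        (X.presheaf.map (homOfLE (X.basicOpen_le f)).op f) ^ n • t

theorem locOn_toMod [F.IsQuasicoherent] (N : SubSh F) (hN : N.IsLocal) {V : X.Opens}
    (hV : IsAffineOpen V) (hq : N.QCOn V) : LocOn (N.toMod hN) V := by
  constructor
  · intro f s hs
    obtain ⟨n, hn⟩ := exists_pow_smul_eq_zero F hV f (N.val hN s) (by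
      rw [← val_res, hs, val_zero])
    refine ⟨n, N.val_injective hN ?_⟩
    rw [val_smul, hn, val_zero]
  · intro f t
    obtain ⟨n, s, hs, h⟩ := hq f (N.val hN t) (N.val_mem hN t)
    refine ⟨n, N.sec hN ⟨s, hs⟩, N.val_injective hN ?_⟩
    rw [val_res, val_sec, h, val_smul]

theorem isQuasicoherent_toMod [F.IsQuasicoherent] (N : SubSh F) (hN : N.IsLocal)
    (h : ∀ x : X, ∃ (V : X.Opens) (_ : IsAffineOpen V), x ∈ V ∧ N.QCOn V) :
    (N.toMod hN).IsQuasicoherent := by
  apply Groth.Agent.Lib.Lead.QCohCrit.isQuasicoherent_of_locOn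
  intro x
  obtain ⟨V, hV, hx, hq⟩ := h x
  exact ⟨V, hV, hx, N.locOn_toMod hN hV hq⟩

theorem finite_toMod (N : SubSh F) (hN : N.IsLocal) {V : X.Opens} (hfg : (N.obj V).FG) :
    Module.Finite Γ(X, V) Γ(N.toMod hN, V) :=
  Module.Finite.iff_fg.2 hfg

theorem isFiniteType_toMod (N : SubSh F) (hN : N.IsLocal) [(N.toMod hN).IsQuasicoherent]
    (h : ∀ x : X, ∃ (V : X.Opens) (_ : IsAffineOpen V), x ∈ V ∧ (N.obj V).FG) :
    SheafOfModules.IsFiniteType (R := X.ringCatSheaf) (N.toMod hN) := by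
  apply Groth.Agent.Lib.Lead.CohAff.isFiniteType_of_finite_sections
  intro x
  obtain ⟨V, hV, hx, hfg⟩ := h x
  exact ⟨V, hV, hx, N.finite_toMod hN hfg⟩

end SubSh

section Factor

variable {Y : Scheme.{u}} {A B C : Y.Modules}

/-- A mono whose sectionwise range is contained in that of another mono factors through it. -/
theorem exists_factor_of_range_le (i1 : A ⟶ C) (i2 : B ⟶ C) [Mono i2]
    (h : ∀ (T : Y.Opens) (a : Γ(A, T)), ∃ b : Γ(B, T), i2.app T b = i1.app T a) :
    ∃ k : A ⟶ B, k ≫ i2 = i1 := by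
  have h0 : i1 ≫ cokernel.π i2 = 0 := by
    apply Scheme.Modules.hom_ext
    intro T
    ext a
    obtain ⟨b, hb⟩ := h T a
    change (cokernel.π i2).app T (i1.app T a) = 0
    rw [← hb]
    change ((i2 ≫ cokernel.π i2).app T) b = 0
    rw [cokernel.condition]
    rfl
  exact ⟨Abelian.monoLift i2 i1 h0, Abelian.monoLift_comp i2 i1 h0⟩

/-- Two monos with the same sectionwise ranges are isomorphic as subobjects. -/
theorem exists_iso_of_range_eq (i1 : A ⟶ C) (i2 : B ⟶ C) [Mono i1] [Mono i2]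
    (h : ∀ (T : Y.Opens) (a : Γ(A, T)), ∃ b : Γ(B, T), i2.app T b = i1.app T a)
    (h' : ∀ (T : Y.Opens) (b : Γ(B, T)), ∃ a : Γ(A, T), i1.app T a = i2.app T b) :
    ∃ e : A ≅ B, e.hom ≫ i2 = i1 := by
  obtain ⟨k, hk⟩ := exists_factor_of_range_le i1 i2 h
  obtain ⟨k', hk'⟩ := exists_factor_of_range_le i2 i1 h'
  refine ⟨⟨k, k', ?_, ?_⟩, hk⟩
  · rw [← cancel_mono i1, Category.assoc, hk', hk, Category.id_comp]
  · rw [← cancel_mono i2, Category.assoc, hk, hk', Category.id_comp]

end Factor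

end Groth.Agent.Lib.Helper40.SSh
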