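import Groth.Agent.Lib.Helper40.ClPullAlg
import Groth.Agent.Lib.Helper40.AffBC1
import Groth.Agent.Lib.Helper40.QCohLim
import Groth.Agent.Lib.Lead.SheafPts
import Groth.Agent.Lib.Helper2.FinTypeAff
import Groth.Agent.Lib.Helper21.QCohKernel
import Groth.Agent.Lib.Helper21.CohNoeth

set_option autoImplicit false
universe u
open AlgebraicGeometry CategoryTheory CategoryTheory.Limits Opposite TopologicalSpace TensorProduct

namespace Groth.Agent.Lib.Helper40.ClPull
set_option backward.isDefEq.respectTransparency.types false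

open Scheme.Modules Groth.Agent.Lib.Helper48.OmegaAff Groth.Agent.Lib.Helper40.AffBC
open Groth.Agent.Lib.Helper40.QCohLim Groth.Agent.Lib.Lead.QCohAff Groth.Agent.Lib.Lead.SheafGlue

variable {X Y : Scheme.{u}}

/-- naturality of `pullRes` -/
theorem pullRes_nat (f : X ⟶ Y) {G G' : Y.Modules} (φ : G ⟶ G') {U : X.Opens} {V : Y.Opens}
    (e : U ≤ f ⁻¹ᵁ V) (m : Γ(G, V)) :
    ((Scheme.Modules.pullback f).map φ).app U (pullRes f G e m) = pullRes f G' e (φ.app V m) := by
  rw [pullRes_apply, pullRes_apply, app_res]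
  congr 1
  have h := (pullbackPushforwardAdjunction f).unit.naturality φ
  have h2 := congrArg (fun ψ => (Scheme.Modules.Hom.app ψ V).hom m) h
  exact h2.symm


/-- if the pullback of `φ` along a closed immersion `i` vanishes then `φ` has image in `I G`
on every affine open, `I` the kernel of `i^♯` -/
theorem app_mem_ker_smul {Z X : Scheme.{u}} (i : Z ⟶ X) [IsClosedImmersion i]
    {F G : X.Modules} [G.IsQuasicoherent] (φ : F ⟶ G)
    (h : (Scheme.Modules.pullback i).map φ = 0)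
    {V : X.Opens} (hV : IsAffineOpen V) (m : Γ(F, V)) :
    (φ.app V).hom m ∈ (RingHom.ker (i.app V).hom) • (⊤ : Submodule Γ(X, V) Γ(G, V)) := by
  have hU : IsAffineOpen (i ⁻¹ᵁ V) := hV.preimage i
  have e : i ⁻¹ᵁ V ≤ i ⁻¹ᵁ V := le_rfl
  letI := (i.appLE V (i ⁻¹ᵁ V) e).hom.toAlgebra
  have h1 : pullRes i G e (φ.app V m) = 0 := by
    rw [← pullRes_nat, h]
    rfl
  have h2 : pullTensorHom i G e ((1 : Γ(Z, i ⁻¹ᵁ V)) ⊗ₜ (φ.app V m)) = 0 := by
    rw [pullTensorHom_tmul, h1, smul_zero]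
  have h3 : (1 : Γ(Z, i ⁻¹ᵁ V)) ⊗ₜ[Γ(X, V)] (φ.app V m) = 0 :=
    (pullTensorHom_bijective i G hU hV e).1 (by rw [h2, map_zero])
  have hsurj : Function.Surjective (algebraMap Γ(X, V) Γ(Z, i ⁻¹ᵁ V)) := by
    change Function.Surjective (i.appLE V (i ⁻¹ᵁ V) e).hom
    rw [← i.app_eq_appLE]
    exact i.app_surjective V hV
  have h4 := mem_ker_smul_of_one_tmul_eq_zero hsurj _ h3
  have h5 : RingHom.ker (algebraMap Γ(X, V) Γ(Z, i ⁻¹ᵁ V)) = RingHom.ker (i.app V).hom := by
    change RingHom.ker (i.appLE V (i ⁻¹ᵁ V) e).hom = _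
    rw [← i.app_eq_appLE]
  rw [h5] at h4
  exact h4


theorem isUnit_res_of_le_basicOpen {V W : X.Opens} (s : Γ(X, V)) (hW : W ≤ X.basicOpen s) :
    IsUnit (X.presheaf.map (homOfLE (hW.trans (X.basicOpen_le s))).op s) := by
  have h1 : IsUnit (X.presheaf.map (homOfLE (X.basicOpen_le s)).op s) :=
    X.toRingedSpace.isUnit_res_basicOpen s
  have h2 := h1.map (X.presheaf.map (homOfLE hW).op).hom
  have h3 : (X.presheaf.map (homOfLE hW).op).hom
      ((X.presheaf.map (homOfLE (X.basicOpen_le s)).op).hom s) =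
      X.presheaf.map (homOfLE (hW.trans (X.basicOpen_le s))).op s := res_resX _ _ s
  rw [h3] at h2
  exact h2

/-- if `s` kills the image of `φ` over an affine open `V` (`F` quasi-coherent), then `φ`
vanishes over every open contained in `D(s)` -/
theorem app_eq_zero_of_smul_eq_zero {F G : X.Modules} [F.IsQuasicoherent] (φ : F ⟶ G)
    {V : X.Opens} (hV : IsAffineOpen V) (s : Γ(X, V))
    (hs : ∀ m : Γ(F, V), s • (φ.app V).hom m = 0) {W : X.Opens} (hW : W ≤ X.basicOpen s)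
    (t : Γ(F, W)) : (φ.app W).hom t = 0 := by
  apply eq_of_locally_eq_pts G _ 0
  intro x hx
  have hWV : W ≤ V := hW.trans (X.basicOpen_le s)
  obtain ⟨g, hgW, hxg⟩ := hV.exists_basicOpen_le ⟨x, hx⟩ (hWV hx)
  refine ⟨X.basicOpen g, hgW, hxg, ?_⟩
  rw [map_zero, ← app_res]
  obtain ⟨n, m, hm⟩ := exists_res_eq_pow_smul F hV g (F.presheaf.map (homOfLE hgW).op t)
  have h1 := congrArg (φ.app (X.basicOpen g)).hom hm
  have h1' : G.presheaf.map (homOfLE (X.basicOpen_le g)).op ((φ.app V).hom m) =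
      (X.presheaf.map (homOfLE (X.basicOpen_le g)).op g) ^ n •
        (φ.app (X.basicOpen g)).hom (F.presheaf.map (homOfLE hgW).op t) := by
    rw [← app_res]
    exact h1.trans (Scheme.Modules.Hom.app_smul φ _ _)
  have h2 : (X.presheaf.map (homOfLE (X.basicOpen_le g)).op s) •
      G.presheaf.map (homOfLE (X.basicOpen_le g)).op ((φ.app V).hom m) = 0 := by
    rw [← res_smul, hs, map_zero]
  rw [h1', ← mul_smul] at h2
  have hu1 : IsUnit (X.presheaf.map (homOfLE (X.basicOpen_le g)).op g) :=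
    X.toRingedSpace.isUnit_res_basicOpen g
  have hu2 : IsUnit (X.presheaf.map (homOfLE (X.basicOpen_le g)).op s) :=
    isUnit_res_of_le_basicOpen s (hgW.trans hW)
  have hu : IsUnit (X.presheaf.map (homOfLE (X.basicOpen_le g)).op s *
      X.presheaf.map (homOfLE (X.basicOpen_le g)).op g ^ n) := hu2.mul (hu1.pow n)
  exact (hu.smul_eq_zero).1 h2


/-- a morphism vanishing locally on `U` vanishes after restriction to `U` -/
theorem restrict_map_eq_zero {F G : X.Modules} (φ : F ⟶ G) (U : X.Opens)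
    (h : ∀ x ∈ U, ∃ W' : X.Opens, x ∈ W' ∧
      ∀ (W : X.Opens) (_ : W ≤ W') (t : Γ(F, W)), (φ.app W).hom t = 0) :
    (Scheme.Modules.restrictFunctor U.ι).map φ = 0 := by
  apply Scheme.Modules.hom_ext
  intro W
  ext t
  change (φ.app (U.ι ''ᵁ W)).hom t = 0
  apply eq_of_locally_eq_pts G _ 0
  intro x hx
  have hxU : x ∈ U := by
    obtain ⟨y, -, rfl⟩ := hx
    exact y.2
  obtain ⟨W', hxW', hW'⟩ := h x hxU
  refine ⟨U.ι ''ᵁ W ⊓ W', inf_le_left, ⟨hx, hxW'⟩, ?_⟩
  rw [map_zero, ← app_res]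
  exact hW' _ inf_le_right _

theorem mem_basicOpen_of_sub_one_mem (J : X.IdealSheafData) (V : X.affineOpens) (s : Γ(X, V.1))
    (hs : s - 1 ∈ J.ideal V) {x : X} (hxV : x ∈ V.1) (hx : x ∈ J.support) :
    x ∈ X.basicOpen s := by
  rw [Scheme.IdealSheafData.mem_support_iff_of_mem hxV, Scheme.mem_zeroLocus_iff] at hx
  have h1 := hx _ hs
  rw [Scheme.mem_basicOpen _ _ _ hxV] at h1 ⊢
  rcases IsLocalRing.isUnit_or_isUnit_one_sub_self (X.presheaf.germ V.1 x hxV s) with h | h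
  · exact h
  · exfalso
    apply h1
    rw [map_sub, map_one]
    have : X.presheaf.germ V.1 x hxV s - 1 = -(1 - X.presheaf.germ V.1 x hxV s) := by ring
    rw [this]
    exact h.neg

/-- local annihilators in `1 + J` give vanishing on a neighbourhood of the support of `J` -/
theorem exists_open_restrict_map_eq_zero {F G : X.Modules} [F.IsQuasicoherent] (φ : F ⟶ G)
    (J : X.IdealSheafData)
    (h : ∀ V : X.affineOpens, ∃ s : Γ(X, V.1), s - 1 ∈ J.ideal V ∧
      ∀ m : Γ(F, V.1), s • (φ.app V.1).hom m = 0) :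
    ∃ U : X.Opens, (J.support : Set X) ⊆ U ∧
      (Scheme.Modules.restrictFunctor U.ι).map φ = 0 := by
  choose s hs1 hs2 using h
  refine ⟨⨆ V : X.affineOpens, X.basicOpen (s V), ?_, ?_⟩
  · intro x hx
    obtain ⟨_, ⟨V, hV : IsAffineOpen V, rfl⟩, hxV, -⟩ :=
      (X.isBasis_affineOpens).exists_subset_of_mem_open (Set.mem_univ x) isOpen_univ
    exact Opens.mem_iSup.2 ⟨⟨V, hV⟩, mem_basicOpen_of_sub_one_mem J ⟨V, hV⟩ _ (hs1 _) hxV hx⟩
  · apply restrict_map_eq_zero
    intro x hx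
    obtain ⟨V, hxV⟩ := Opens.mem_iSup.1 hx
    exact ⟨X.basicOpen (s V), hxV, fun W hW t =>
      app_eq_zero_of_smul_eq_zero φ V.2 (s V) (hs2 V) hW t⟩

end Groth.Agent.Lib.Helper40.ClPull
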