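import Mathlib

set_option autoImplicit false
universe u
open TensorProduct

namespace Groth.Agent.Lib.Helper40.TildeTensor

section Alg
variable {R : Type u} [CommRing R] (S : Submonoid R) (M N : Type u) [AddCommGroup M] [Module R M]
  [AddCommGroup N] [Module R N]

noncomputable def locTensorEquiv :
    LocalizedModule S M ⊗[R] LocalizedModule S N ≃ₗ[R] LocalizedModule S (M ⊗[R] N) :=
  IsLocalizedModule.linearEquiv S
    (TensorProduct.map (LocalizedModule.mkLinearMap S M) (LocalizedModule.mkLinearMap S N))
    (LocalizedModule.mkLinearMap S (M ⊗[R] N))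

noncomputable def mu :
    LocalizedModule S M →ₗ[R] LocalizedModule S N →ₗ[R] LocalizedModule S (M ⊗[R] N) :=
  (TensorProduct.mk R _ _).compr₂ (locTensorEquiv S M N).toLinearMap

theorem mu_mk_one (m : M) (n : N) :
    mu S M N (LocalizedModule.mk m 1) (LocalizedModule.mk n 1) = LocalizedModule.mk (m ⊗ₜ[R] n) 1 := by
  have := IsLocalizedModule.linearEquiv_apply S
    (TensorProduct.map (LocalizedModule.mkLinearMap S M) (LocalizedModule.mkLinearMap S N))
    (LocalizedModule.mkLinearMap S (M ⊗[R] N)) (m ⊗ₜ[R] n)
  simpa [mu, locTensorEquiv] using this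

theorem mu_mk (m : M) (s : S) (n : N) (t : S) :
    mu S M N (LocalizedModule.mk m s) (LocalizedModule.mk n t) =
      LocalizedModule.mk (m ⊗ₜ[R] n) (s * t) := by
  have h1 : (s : R) • LocalizedModule.mk m s = (LocalizedModule.mk m 1 : LocalizedModule S M) := by
    rw [LocalizedModule.smul'_mk]; exact LocalizedModule.mk_cancel s m
  have h2 : (t : R) • LocalizedModule.mk n t = (LocalizedModule.mk n 1 : LocalizedModule S N) := by
    rw [LocalizedModule.smul'_mk]; exact LocalizedModule.mk_cancel t n
  have h3 : ((s * t : S) : R) • mu S M N (LocalizedModule.mk m s) (LocalizedModule.mk n t) =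
      LocalizedModule.mk (m ⊗ₜ[R] n) 1 := by
    rw [← mu_mk_one, ← h1, ← h2, map_smul, map_smul, LinearMap.smul_apply, smul_smul,
      Submonoid.coe_mul, mul_comm]
  rw [LocalizedModule.smul_eq_iff_of_mem (hr := (s * t).2)] at h3
  rw [h3, LocalizedModule.mk_smul_mk, one_smul, mul_one]

theorem mu_smul_left (a : Localization S) (x : LocalizedModule S M) (y : LocalizedModule S N) :
    mu S M N (a • x) y = a • mu S M N x y := by
  induction x using LocalizedModule.induction_on with | _ m s => _
  induction y using LocalizedModule.induction_on with | _ n t => _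
  induction a using Localization.induction_on with | _ p => _
  obtain ⟨r, v⟩ := p
  rw [LocalizedModule.mk_smul_mk, mu_mk, mu_mk, LocalizedModule.mk_smul_mk, smul_tmul', mul_assoc]

theorem mu_smul_right (a : Localization S) (x : LocalizedModule S M) (y : LocalizedModule S N) :
    mu S M N x (a • y) = a • mu S M N x y := by
  induction x using LocalizedModule.induction_on with | _ m s => _
  induction y using LocalizedModule.induction_on with | _ n t => _
  induction a using Localization.induction_on with | _ p => _
  obtain ⟨r, v⟩ := p
  rw [LocalizedModule.mk_smul_mk, mu_mk, mu_mk, LocalizedModule.mk_smul_mk, tmul_smul,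
    mul_left_comm]

end Alg

end Groth.Agent.Lib.Helper40.TildeTensor
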