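import Mathlib
import Groth.Agent.Lib.Helper60.TensorMod
import Groth.Agent.Lib.Helper40.TildeTensor1

set_option autoImplicit false
universe u
open TensorProduct AlgebraicGeometry StructureSheaf TopologicalSpace Opposite CategoryTheory

namespace Groth.Agent.Lib.Helper40.TildeTensor
set_option backward.isDefEq.respectTransparency.types false

section Sh
variable (R : Type u) [CommRing R] (M N : Type u) [AddCommGroup M] [Module R M]
  [AddCommGroup N] [Module R N]

noncomputable def pairFun {U : Opens (PrimeSpectrum.Top R)}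
    (s : (structureSheafInType R M).obj.obj (op U)) (t : (structureSheafInType R N).obj.obj (op U)) :
    (structureSheafInType R (M ⊗[R] N)).obj.obj (op U) :=
  ⟨fun x => mu x.1.asIdeal.primeCompl M N (s.1 x) (t.1 x), by
    intro x
    obtain ⟨Va, ma, ia, ra, sa, wa⟩ := s.2 x
    obtain ⟨Vb, mb, ib, rb, sb, wb⟩ := t.2 x
    refine ⟨Va ⊓ Vb, ⟨ma, mb⟩, Opens.infLELeft _ _ ≫ ia, ra ⊗ₜ[R] rb, sa * sb, fun y => ?_⟩
    obtain ⟨hsay, hsa⟩ := wa ⟨y.1, y.2.1⟩
    obtain ⟨hsby, hsb⟩ := wb ⟨y.1, y.2.2⟩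
    refine ⟨y.1.asIdeal.primeCompl.mul_mem hsay hsby, ?_⟩
    have := mu_mk y.1.asIdeal.primeCompl M N ra ⟨sa, hsay⟩ rb ⟨sb, hsby⟩
    rw [← hsa, ← hsb] at this
    exact this⟩

theorem pairFun_apply {U : Opens (PrimeSpectrum.Top R)}
    (s : (structureSheafInType R M).obj.obj (op U)) (t : (structureSheafInType R N).obj.obj (op U))
    (x : U) : (pairFun R M N s t).1 x = mu x.1.asIdeal.primeCompl M N (s.1 x) (t.1 x) := rfl

end Sh

end Groth.Agent.Lib.Helper40.TildeTensor

namespace Groth.Agent.Lib.Helper40.TildeTensor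
set_option backward.isDefEq.respectTransparency.types false

section B
variable (R : CommRingCat.{u}) (M N : ModuleCat.{u} R)

noncomputable def bU (U : (Spec R).Opens) :
    Γ(tilde M, U) →ₗ[Γ(Spec R, U)] Γ(tilde N, U) →ₗ[Γ(Spec R, U)]
        Γ(tilde (ModuleCat.of R (M ⊗[R] N)), U) :=
  LinearMap.mk₂ _ (fun s t => pairFun R M N (U := U) s t)
    (fun s s' t => Subtype.ext (funext fun x => by
      show mu _ M N (s.1 x + s'.1 x) (t.1 x) = mu _ M N (s.1 x) (t.1 x) + mu _ M N (s'.1 x) (t.1 x)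
      rw [map_add, LinearMap.add_apply]))
    (fun r s t => Subtype.ext (funext fun x => by
      show mu _ M N (r.1 x • s.1 x) (t.1 x) = r.1 x • mu _ M N (s.1 x) (t.1 x)
      exact mu_smul_left _ M N _ _ _))
    (fun s t t' => Subtype.ext (funext fun x => by
      show mu _ M N (s.1 x) (t.1 x + t'.1 x) = mu _ M N (s.1 x) (t.1 x) + mu _ M N (s.1 x) (t'.1 x)
      rw [map_add]))
    (fun r s t => Subtype.ext (funext fun x => by
      show mu _ M N (s.1 x) (r.1 x • t.1 x) = r.1 x • mu _ M N (s.1 x) (t.1 x)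
      exact mu_smul_right _ M N _ _ _))

theorem bU_apply (U : (Spec R).Opens) (s : Γ(tilde M, U)) (t : Γ(tilde N, U)) :
    bU R M N U s t = pairFun R M N (U := U) s t := rfl

theorem bU_natural {U V : (Spec R).Opens} (i : V ⟶ U) (s : Γ(tilde M, U)) (t : Γ(tilde N, U)) :
    (tilde (ModuleCat.of R (M ⊗[R] N))).presheaf.map i.op (bU R M N U s t) =
      bU R M N V ((tilde M).presheaf.map i.op s) ((tilde N).presheaf.map i.op t) := rfl

/-- the `R`-bilinear version of `bU` -/
noncomputable def bUA (U : (Spec R).Opens) :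
    Γ(tilde M, U) →ₗ[R] Γ(tilde N, U) →ₗ[R] Γ(tilde (ModuleCat.of R (M ⊗[R] N)), U) :=
  LinearMap.mk₂ R (fun s t => bU R M N U s t)
    (fun s s' t => by rw [map_add, LinearMap.add_apply])
    (fun r s t => by
      rw [Scheme.Modules.smul_Spec_def, Scheme.Modules.smul_Spec_def, map_smul, LinearMap.smul_apply])
    (fun s t t' => by rw [map_add])
    (fun r s t => by
      rw [Scheme.Modules.smul_Spec_def, Scheme.Modules.smul_Spec_def, map_smul])

theorem bUA_apply (U : (Spec R).Opens) (s : Γ(tilde M, U)) (t : Γ(tilde N, U)) :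
    bUA R M N U s t = bU R M N U s t := rfl

theorem bUA_toOpen (U : (Spec R).Opens) (m : M) (n : N) :
    bUA R M N U ((tilde.toOpen M U).hom m) ((tilde.toOpen N U).hom n) =
    (tilde.toOpen (ModuleCat.of R (M ⊗[R] N)) U).hom (m ⊗ₜ[R] n) := by
  refine Subtype.ext (funext fun x => ?_)
  have := mu_mk x.1.asIdeal.primeCompl M N m 1 n 1
  rw [mul_one] at this
  exact this


/-- the `R`-linear lift of `bUA` is bijective on basic opens. -/
theorem lift_bUA_bijective (f : R) :
    Function.Bijective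
      (TensorProduct.lift (bUA R M N (PrimeSpectrum.basicOpen f))) := by
  let φM := (tilde.toOpen M (PrimeSpectrum.basicOpen f)).hom
  let φN := (tilde.toOpen N (PrimeSpectrum.basicOpen f)).hom
  let φK := (tilde.toOpen (ModuleCat.of R (M ⊗[R] N)) (PrimeSpectrum.basicOpen f)).hom
  haveI : IsLocalizedModule (.powers f) φM := inferInstance
  haveI : IsLocalizedModule (.powers f) φN := inferInstance
  haveI : IsLocalizedModule (.powers f) φK :=
    tilde.instAwayCarrierCarrierObjOppositeOpensCarrierCarrierCommRingCatSpecModuleCatPresheafModulesSheafModulesSpecToSheafOpBasicOpenHomToOpen (ModuleCat.of R (M ⊗[R] N)) f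
  let g := TensorProduct.map φM φN
  haveI : IsLocalizedModule (.powers f) g := inferInstance
  have h : TensorProduct.lift (bUA R M N (PrimeSpectrum.basicOpen f)) =
      (IsLocalizedModule.linearEquiv (.powers f) g φK).toLinearMap := by
    refine IsLocalizedModule.linearMap_ext (.powers f) g φK ?_
    refine TensorProduct.ext' fun m n => ?_
    simp only [LinearMap.comp_apply, LinearEquiv.coe_coe, IsLocalizedModule.linearEquiv_apply]
    exact bUA_toOpen R M N _ m n
  rw [h]
  exact (IsLocalizedModule.linearEquiv (.powers f) g φK).bijective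


/-- comparison from the tensor product over `R` to the tensor product over `Γ(Spec R, U)`. -/
noncomputable def cmpAdd (U : (Spec R).Opens) :
    Γ(tilde M, U) ⊗[R] Γ(tilde N, U) →+ Γ(tilde M, U) ⊗[Γ(Spec R, U)] Γ(tilde N, U) :=
  TensorProduct.liftAddHom
    { toFun := fun p =>
        { toFun := fun q => p ⊗ₜ[Γ(Spec R, U)] q
          map_zero' := tmul_zero _ _
          map_add' := tmul_add _ }
      map_zero' := by ext q; exact zero_tmul _ _
      map_add' := fun p p' => by ext q; exact add_tmul _ _ _ }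
    (fun r p q => by
      show (r • p) ⊗ₜ[Γ(Spec R, U)] q = p ⊗ₜ[Γ(Spec R, U)] (r • q)
      rw [Scheme.Modules.smul_Spec_def, Scheme.Modules.smul_Spec_def, smul_tmul])

theorem cmpAdd_tmul (U : (Spec R).Opens) (p : Γ(tilde M, U)) (q : Γ(tilde N, U)) :
    cmpAdd R M N U (p ⊗ₜ[R] q) = p ⊗ₜ[Γ(Spec R, U)] q := rfl

theorem cmpAdd_surjective (U : (Spec R).Opens) : Function.Surjective (cmpAdd R M N U) := by
  intro t
  induction t using TensorProduct.induction_on with
  | zero => exact ⟨0, map_zero _⟩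
  | tmul p q => exact ⟨p ⊗ₜ[R] q, rfl⟩
  | add x y hx hy =>
    obtain ⟨a, rfl⟩ := hx
    obtain ⟨b, rfl⟩ := hy
    exact ⟨a + b, map_add _ _ _⟩

theorem lift_bU_cmpAdd (U : (Spec R).Opens) (x : Γ(tilde M, U) ⊗[R] Γ(tilde N, U)) :
    TensorProduct.lift (bU R M N U) (cmpAdd R M N U x) = TensorProduct.lift (bUA R M N U) x := by
  induction x using TensorProduct.induction_on with
  | zero => simp
  | tmul p q => rfl
  | add x y hx hy => rw [map_add, map_add, map_add, hx, hy]

theorem lift_bU_bijective (f : R) :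
    Function.Bijective (TensorProduct.lift (bU R M N (PrimeSpectrum.basicOpen f))) := by
  have hψ := lift_bUA_bijective R M N f
  have hc := cmpAdd_surjective R M N (PrimeSpectrum.basicOpen f)
  have hL := lift_bU_cmpAdd R M N (PrimeSpectrum.basicOpen f)
  constructor
  · intro t t' htt
    obtain ⟨x, rfl⟩ := hc t
    obtain ⟨x', rfl⟩ := hc t'
    rw [hL, hL] at htt
    rw [hψ.1 htt]
  · intro k
    obtain ⟨x, hx⟩ := hψ.2 k
    exact ⟨cmpAdd R M N _ x, (hL x).trans hx⟩

end B
end Groth.Agent.Lib.Helper40.TildeTensor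

namespace Groth.Agent.Lib.Helper40.TildeTensor
set_option backward.isDefEq.respectTransparency.types false

open Groth.Agent.Lib.Helper60.TensorLib

section Crit
variable {X : Scheme.{u}}

theorem isLocallyInjective_of_basis (P : X.PresheafOfModules) (K : X.Modules) (β : P ⟶ K.val)
    (hloc : ∀ (x : X) (V : X.Opens), x ∈ V → ∃ W : X.Opens, W ≤ V ∧ x ∈ W ∧
      Function.Injective (β.app (op W))) :
    Presheaf.IsLocallyInjective (Opens.grothendieckTopology X)
      ((PresheafOfModules.toPresheaf _).map β) := by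
  constructor
  intro V s t hst x hx
  obtain ⟨W, hWV, hxW, hW⟩ := hloc x V.unop hx
  refine ⟨W, homOfLE hWV, ?_, hxW⟩
  apply hW
  have := congrArg (K.val.map (homOfLE hWV).op) hst
  have n1 := PresheafOfModules.naturality_apply β (homOfLE hWV).op s
  have n2 := PresheafOfModules.naturality_apply β (homOfLE hWV).op t
  exact n1.trans (this.trans n2.symm)

theorem isLocallySurjective_of_basis (P : X.PresheafOfModules) (K : X.Modules) (β : P ⟶ K.val)
    (hloc : ∀ (x : X) (V : X.Opens), x ∈ V → ∃ W : X.Opens, W ≤ V ∧ x ∈ W ∧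
      Function.Surjective (β.app (op W))) :
    Presheaf.IsLocallySurjective (Opens.grothendieckTopology X)
      ((PresheafOfModules.toPresheaf _).map β) := by
  refine (TopCat.Presheaf.isLocallySurjective_iff (X := X.toTopCat) _).mpr ?_
  intro V t x hx
  obtain ⟨W, hWV, hxW, hW⟩ := hloc x V hx
  refine ⟨W, hWV, ?_, hxW⟩
  obtain ⟨s, hs⟩ := hW (K.val.map (homOfLE hWV).op t)
  exact ⟨s, hs⟩

theorem nonempty_tensorMod_iso_of_basis (M N K : X.Modules)
    (b : ∀ U : X.Opens, Γ(M, U) →ₗ[Γ(X, U)] Γ(N, U) →ₗ[Γ(X, U)] Γ(K, U))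
    (hb : ∀ {U V : X.Opens} (i : V ⟶ U) (m : Γ(M, U)) (n : Γ(N, U)),
      K.presheaf.map i.op (b U m n) = b V (M.presheaf.map i.op m) (N.presheaf.map i.op n))
    (hloc : ∀ (x : X) (V : X.Opens), x ∈ V → ∃ W : X.Opens, W ≤ V ∧ x ∈ W ∧
      Function.Bijective (TensorProduct.lift (b W))) :
    Nonempty (CohB1.tensorMod M N ≅ K) := by
  let β : (show X.PresheafOfModules from CohB1.tensorPre M N) ⟶ K.val := tensorPreHom M N K b hb
  have := isLocallyInjective_of_basis _ K β (fun x V hx => by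
    obtain ⟨W, hWV, hxW, hW⟩ := hloc x V hx
    exact ⟨W, hWV, hxW, hW.1⟩)
  have := isLocallySurjective_of_basis _ K β (fun x V hx => by
    obtain ⟨W, hWV, hxW, hW⟩ := hloc x V hx
    exact ⟨W, hWV, hxW, hW.2⟩)
  have h3 : IsIso (liftHom (CohB1.tensorPre M N) K β) := isIso_liftHom _ K β
  exact ⟨@asIso _ _ _ _ (liftHom (CohB1.tensorPre M N) K β) h3⟩

end Crit

/-- **`(M ⊗ N)^~ ≅ M^~ ⊗ N^~`** on `Spec R`. -/
theorem nonempty_tensorMod_tilde_iso (R : CommRingCat.{u}) (M N : ModuleCat.{u} R) :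
    Nonempty (CohB1.tensorMod (tilde M) (tilde N) ≅ tilde (ModuleCat.of R (M ⊗[R] N))) := by
  refine nonempty_tensorMod_iso_of_basis (tilde M) (tilde N) (tilde (ModuleCat.of R (M ⊗[R] N)))
    (bU R M N) (fun i s t => bU_natural R M N i s t) ?_
  intro x V hx
  obtain ⟨_, ⟨f, rfl⟩, hxf, hfV⟩ :=
    (PrimeSpectrum.isTopologicalBasis_basic_opens (R := R)).exists_subset_of_mem_open hx V.2
  exact ⟨PrimeSpectrum.basicOpen f, hfV, hxf, lift_bU_bijective R M N f⟩

end Groth.Agent.Lib.Helper40.TildeTensor
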