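import Groth.Prelude.Def_W4c4lgringredgrpLG
import Mathlib.RingTheory.Spectrum.Prime.FreeLocus
import Mathlib.LinearAlgebra.Matrix.ToLin
import Mathlib.LinearAlgebra.Matrix.NonsingularInverse
import Mathlib.Algebra.MvPolynomial.Rename
import Mathlib.Algebra.Module.Projective
import Mathlib.LinearAlgebra.Determinant
import Mathlib.RingTheory.Finiteness.Projective
import Mathlib.RingTheory.TensorProduct.Basic

set_option autoImplicit false
universe u v₁ v₂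
open MvPolynomial

namespace Groth.Agent.Lib.Helper40.LG

theorem exists_isUnit_eval {R : Type u} [CommRing R] (hR : LGRing.IsLGRing R) {σ : Type*} [Finite σ]
    (f : MvPolynomial σ R)
    (h : ∀ (m : Ideal R) [m.IsMaximal], ∃ r : σ → R, MvPolynomial.eval r f ∉ m) :
    ∃ r : σ → R, IsUnit (MvPolynomial.eval r f) := by
  obtain ⟨n, ⟨eqv⟩⟩ := Finite.exists_equiv_fin σ
  have key := hR n (MvPolynomial.rename eqv f) (by
    intro m hm
    obtain ⟨r, hr⟩ := h m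
    refine ⟨fun j => Ideal.Quotient.mk m (r (eqv.symm j)), ?_⟩
    have h1 : MvPolynomial.aeval (fun j => Ideal.Quotient.mk m (r (eqv.symm j)))
        (MvPolynomial.rename eqv f) = Ideal.Quotient.mk m (MvPolynomial.eval r f) := by
      rw [MvPolynomial.aeval_rename]
      have : (fun j => Ideal.Quotient.mk m (r (eqv.symm j))) ∘ eqv =
          (algebraMap R (R ⧸ m)) ∘ r := by
        funext i; simp
      rw [this, MvPolynomial.aeval_def, ← MvPolynomial.eval₂_id, MvPolynomial.eval₂_comp_left]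
      rfl
    rw [h1]
    let _ := Ideal.Quotient.field m
    rw [isUnit_iff_ne_zero, Ne, Ideal.Quotient.eq_zero_iff_mem]
    exact hr)
  obtain ⟨s, hs⟩ := key
  refine ⟨s ∘ eqv, ?_⟩
  rw [MvPolynomial.aeval_rename] at hs
  simpa [MvPolynomial.aeval_eq_eval] using hs

section Lin

variable {R : Type*} [CommRing R] {M N : Type*} [AddCommGroup M] [Module R M]
  [AddCommGroup N] [Module R N]

lemma bijective_of_bijective_conj (i : M →ₗ[R] N) (π : N →ₗ[R] M) (hπi : π ∘ₗ i = LinearMap.id)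
    (w : M →ₗ[R] M)
    (hT : Function.Bijective ((i ∘ₗ w ∘ₗ π + (LinearMap.id - i ∘ₗ π) : N →ₗ[R] N) : N → N)) :
    Function.Bijective w := by
  have hπi' : ∀ m, π (i m) = m := fun m => LinearMap.congr_fun hπi m
  constructor
  · rw [injective_iff_map_eq_zero]
    intro m hm
    have h1 : (i ∘ₗ w ∘ₗ π + (LinearMap.id - i ∘ₗ π) : N →ₗ[R] N) (i m) = 0 := by
      simp [hπi', hm]
    have h2 : i m = 0 := by
      apply hT.1
      rw [h1, map_zero]
    rw [← hπi' m, h2, map_zero]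
  · intro m
    obtain ⟨z, hz⟩ := hT.2 (i m)
    refine ⟨π z, ?_⟩
    have h1 := congrArg π hz
    simp only [LinearMap.add_apply, LinearMap.comp_apply, LinearMap.sub_apply, LinearMap.id_apply,
      map_add, map_sub, hπi'] at h1
    simpa using h1

end Lin

section Mat

variable {S : Type*} [CommRing S] {a b : ℕ}

def Gfun (e₁ : Matrix (Fin a) (Fin a) S) (e₂ : Matrix (Fin b) (Fin b) S)
    (x : Matrix (Fin b) (Fin a) S) (y : Matrix (Fin a) (Fin b) S) : S :=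
  (e₁ * y * e₂ * x * e₁ + 1 - e₁).det * (e₂ * x * e₁ * y * e₂ + 1 - e₂).det

lemma map_Gfun {T : Type*} [CommRing T] (φ : S →+* T) (e₁ : Matrix (Fin a) (Fin a) S)
    (e₂ : Matrix (Fin b) (Fin b) S) (x : Matrix (Fin b) (Fin a) S) (y : Matrix (Fin a) (Fin b) S) :
    φ (Gfun e₁ e₂ x y) = Gfun (e₁.map φ) (e₂.map φ) (x.map φ) (y.map φ) := by
  unfold Gfun
  rw [map_mul, RingHom.map_det, RingHom.map_det, RingHom.mapMatrix_apply, RingHom.mapMatrix_apply]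
  simp [Matrix.map_mul, Matrix.map_add, Matrix.map_sub]

end Mat

section Proj

open Module

variable {R : Type u} [CommRing R] {M₁ : Type v₁} {M₂ : Type v₂} [AddCommGroup M₁] [Module R M₁]
  [AddCommGroup M₂] [Module R M₂]

lemma finrank_quot_tensor_eq_rankAtStalk (m : Ideal R) [hm : m.IsMaximal]
    (M : Type*) [AddCommGroup M] [Module R M] [Module.Finite R M] [Module.Projective R M] :
    letI : Field (R ⧸ m) := Ideal.Quotient.field m
    finrank (R ⧸ m) (TensorProduct R (R ⧸ m) M) = rankAtStalk M ⟨m, hm.isPrime⟩ := by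
  let k := R ⧸ m
  let _ : Field k := Ideal.Quotient.field m
  let p : PrimeSpectrum k := ⟨⊥, Ideal.isPrime_bot⟩
  have hp : p.comap (algebraMap R k) = ⟨m, hm.isPrime⟩ := by
    apply PrimeSpectrum.ext
    change Ideal.comap (algebraMap R k) ⊥ = m
    rw [← RingHom.ker_eq_comap_bot]
    exact Ideal.mk_ker
  change finrank k (TensorProduct R k M) = _
  rw [← hp, ← rankAtStalk_baseChange, rankAtStalk_eq_finrank_of_free]
  rfl

lemma mem_of_mk_tmul_eq_zero (m : Ideal R) {M : Type*} [AddCommGroup M] [Module R M]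
    (l : M →ₗ[R] R) (t : M) (ht : TensorProduct.mk R (R ⧸ m) M 1 t = 0) : l t ∈ m := by
  have h1 := congrArg ((TensorProduct.rid R (R ⧸ m)).toLinearMap ∘ₗ
    (LinearMap.lTensor (R ⧸ m) l)) ht
  simp only [LinearMap.comp_apply, TensorProduct.mk_apply, LinearMap.lTensor_tmul,
    LinearEquiv.coe_coe, TensorProduct.rid_tmul, map_zero] at h1
  rw [← Ideal.Quotient.eq_zero_iff_mem]
  rw [← h1, Algebra.smul_def, mul_one]
  rfl

lemma exists_lifts_mod (m : Ideal R) [hm : m.IsMaximal]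
    [Module.Finite R M₁] [Module.Projective R M₁] [Module.Finite R M₂] [Module.Projective R M₂]
    (hrank : rankAtStalk M₁ ⟨m, hm.isPrime⟩ = rankAtStalk M₂ ⟨m, hm.isPrime⟩) :
    ∃ (u : M₁ →ₗ[R] M₂) (v : M₂ →ₗ[R] M₁),
      (∀ (l : M₁ →ₗ[R] R) (z : M₁), l (v (u z) - z) ∈ m) ∧
      (∀ (l : M₂ →ₗ[R] R) (z : M₂), l (u (v z) - z) ∈ m) := by
  let k := R ⧸ m
  let _ : Field k := Ideal.Quotient.field m
  have hfr : finrank k (TensorProduct R k M₁) = finrank k (TensorProduct R k M₂) := by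
    have h1 := finrank_quot_tensor_eq_rankAtStalk m M₁
    have h2 := finrank_quot_tensor_eq_rankAtStalk m M₂
    rw [h1, h2, hrank]
  let θ : TensorProduct R k M₁ ≃ₗ[k] TensorProduct R k M₂ := LinearEquiv.ofFinrankEq _ _ hfr
  let q₁ : M₁ →ₗ[R] TensorProduct R k M₁ := TensorProduct.mk R k M₁ 1
  let q₂ : M₂ →ₗ[R] TensorProduct R k M₂ := TensorProduct.mk R k M₂ 1
  have hs : Function.Surjective (algebraMap R k) := Ideal.Quotient.mk_surjective
  have hq₁ : Function.Surjective q₁ := TensorProduct.mk_surjective R M₁ k hs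
  have hq₂ : Function.Surjective q₂ := TensorProduct.mk_surjective R M₂ k hs
  obtain ⟨u, hu⟩ := Module.projective_lifting_property q₂
    ((θ.toLinearMap.restrictScalars R) ∘ₗ q₁) hq₂
  obtain ⟨v, hv⟩ := Module.projective_lifting_property q₁
    ((θ.symm.toLinearMap.restrictScalars R) ∘ₗ q₂) hq₁
  have hu' : ∀ z, q₂ (u z) = θ (q₁ z) := fun z => LinearMap.congr_fun hu z
  have hv' : ∀ z, q₁ (v z) = θ.symm (q₂ z) := fun z => LinearMap.congr_fun hv z
  refine ⟨u, v, fun l z => mem_of_mk_tmul_eq_zero m l _ ?_,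
    fun l z => mem_of_mk_tmul_eq_zero m l _ ?_⟩
  · change q₁ (v (u z) - z) = 0
    rw [map_sub, hv', hu', LinearEquiv.symm_apply_apply, sub_self]
  · change q₂ (u (v z) - z) = 0
    rw [map_sub, hu', hv', LinearEquiv.apply_symm_apply, sub_self]

end Proj

section Main

open Module

variable {R : Type u} [CommRing R] {M₁ : Type v₁} {M₂ : Type v₂} [AddCommGroup M₁] [Module R M₁]
  [AddCommGroup M₂] [Module R M₂] {a b : ℕ}
  (i₁ : M₁ →ₗ[R] (Fin a → R)) (π₁ : (Fin a → R) →ₗ[R] M₁)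
  (i₂ : M₂ →ₗ[R] (Fin b → R)) (π₂ : (Fin b → R) →ₗ[R] M₂)

lemma A_eq (X : (Fin a → R) →ₗ[R] (Fin b → R)) (Y : (Fin b → R) →ₗ[R] (Fin a → R)) :
    LinearMap.toMatrix' (i₁ ∘ₗ π₁) * LinearMap.toMatrix' Y * LinearMap.toMatrix' (i₂ ∘ₗ π₂) *
      LinearMap.toMatrix' X * LinearMap.toMatrix' (i₁ ∘ₗ π₁) + 1 - LinearMap.toMatrix' (i₁ ∘ₗ π₁) =
    LinearMap.toMatrix' (i₁ ∘ₗ ((π₁ ∘ₗ Y ∘ₗ i₂) ∘ₗ (π₂ ∘ₗ X ∘ₗ i₁)) ∘ₗ π₁ +
      (LinearMap.id - i₁ ∘ₗ π₁)) := by
  have h : i₁ ∘ₗ ((π₁ ∘ₗ Y ∘ₗ i₂) ∘ₗ (π₂ ∘ₗ X ∘ₗ i₁)) ∘ₗ π₁ =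
      ((((i₁ ∘ₗ π₁) ∘ₗ Y) ∘ₗ (i₂ ∘ₗ π₂)) ∘ₗ X) ∘ₗ (i₁ ∘ₗ π₁) := rfl
  rw [h, map_add, map_sub, LinearMap.toMatrix'_id, LinearMap.toMatrix'_comp,
    LinearMap.toMatrix'_comp, LinearMap.toMatrix'_comp, LinearMap.toMatrix'_comp, add_sub_assoc]

include i₁ π₁ i₂ π₂ in
lemma A_map_eq_one (m : Ideal R) (h₁ : π₁ ∘ₗ i₁ = LinearMap.id) (h₂ : π₂ ∘ₗ i₂ = LinearMap.id)
    (u : M₁ →ₗ[R] M₂) (v : M₂ →ₗ[R] M₁)
    (huv : ∀ (l : M₁ →ₗ[R] R) (z : M₁), l (v (u z) - z) ∈ m) :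
    (LinearMap.toMatrix' (i₁ ∘ₗ π₁) * LinearMap.toMatrix' (i₁ ∘ₗ v ∘ₗ π₂) *
      LinearMap.toMatrix' (i₂ ∘ₗ π₂) * LinearMap.toMatrix' (i₂ ∘ₗ u ∘ₗ π₁) *
      LinearMap.toMatrix' (i₁ ∘ₗ π₁) + 1 - LinearMap.toMatrix' (i₁ ∘ₗ π₁)).map
        (Ideal.Quotient.mk m) = 1 := by
  have h₁' : ∀ z, π₁ (i₁ z) = z := fun z => LinearMap.congr_fun h₁ z
  have h₂' : ∀ z, π₂ (i₂ z) = z := fun z => LinearMap.congr_fun h₂ z
  rw [A_eq]
  ext j l
  rw [Matrix.map_apply, LinearMap.toMatrix'_apply]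
  simp only [LinearMap.add_apply, LinearMap.comp_apply, LinearMap.sub_apply, LinearMap.id_apply,
    h₁', h₂', Pi.add_apply, Pi.sub_apply]
  have hmem := huv ((LinearMap.proj j) ∘ₗ i₁) (π₁ (Pi.single l 1))
  simp only [LinearMap.comp_apply, LinearMap.proj_apply, map_sub] at hmem
  have e : i₁ (v (u (π₁ (Pi.single l 1)))) j + ((Pi.single l 1 : Fin a → R) j -
      i₁ (π₁ (Pi.single l 1)) j) = (i₁ (v (u (π₁ (Pi.single l 1)))) j -
      i₁ (π₁ (Pi.single l 1)) j) + (Pi.single l 1 : Fin a → R) j := by ring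
  rw [e, map_add, Ideal.Quotient.eq_zero_iff_mem.mpr hmem, zero_add, Matrix.one_apply]
  by_cases hjl : j = l
  · subst hjl; simp
  · rw [if_neg hjl, Pi.single_eq_of_ne hjl, map_zero]

omit i₁ π₁ i₂ π₂ in
theorem nonempty_linearEquiv_of_rankAtStalk_eq (hR : LGRing.IsLGRing R)
    [Module.Finite R M₁] [Projective R M₁] [Module.Finite R M₂] [Projective R M₂]
    (h : ∀ (m : Ideal R) [hm : m.IsMaximal],
      rankAtStalk M₁ ⟨m, hm.isPrime⟩ = rankAtStalk M₂ ⟨m, hm.isPrime⟩) :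
    Nonempty (M₁ ≃ₗ[R] M₂) := by
  obtain ⟨a, π₁, i₁, -, -, h₁⟩ := Module.Finite.exists_comp_eq_id_of_projective R M₁
  obtain ⟨b, π₂, i₂, -, -, h₂⟩ := Module.Finite.exists_comp_eq_id_of_projective R M₂
  set e₁ := LinearMap.toMatrix' (i₁ ∘ₗ π₁) with he₁
  set e₂ := LinearMap.toMatrix' (i₂ ∘ₗ π₂) with he₂
  let σ := (Fin b × Fin a) ⊕ (Fin a × Fin b)
  let XX : Matrix (Fin b) (Fin a) (MvPolynomial σ R) := Matrix.of fun i j => X (Sum.inl (i, j))
  let YY : Matrix (Fin a) (Fin b) (MvPolynomial σ R) := Matrix.of fun i j => X (Sum.inr (i, j))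
  let F : MvPolynomial σ R := Gfun (e₁.map C) (e₂.map C) XX YY
  have hF : ∀ r : σ → R, eval r F = Gfun e₁ e₂ (Matrix.of fun i j => r (Sum.inl (i, j)))
      (Matrix.of fun i j => r (Sum.inr (i, j))) := by
    intro r
    change eval r (Gfun (e₁.map C) (e₂.map C) XX YY) = _
    rw [map_Gfun]
    congr 1 <;> ext i j <;> simp [XX, YY]
  obtain ⟨r, hr⟩ := exists_isUnit_eval hR F (by
    intro m hm
    obtain ⟨u, v, huv, hvu⟩ := exists_lifts_mod m (h m)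
    refine ⟨Sum.elim (fun p => LinearMap.toMatrix' (i₂ ∘ₗ u ∘ₗ π₁) p.1 p.2)
      (fun p => LinearMap.toMatrix' (i₁ ∘ₗ v ∘ₗ π₂) p.1 p.2), ?_⟩
    rw [hF, ← Ideal.Quotient.eq_zero_iff_mem]
    have hx : (Matrix.of fun i j => (Sum.elim (fun p => LinearMap.toMatrix' (i₂ ∘ₗ u ∘ₗ π₁) p.1 p.2)
      (fun p => LinearMap.toMatrix' (i₁ ∘ₗ v ∘ₗ π₂) p.1 p.2) : σ → R) (Sum.inl (i, j))) =
        LinearMap.toMatrix' (i₂ ∘ₗ u ∘ₗ π₁) := by ext i j; rfl
    have hy : (Matrix.of fun i j => (Sum.elim (fun p => LinearMap.toMatrix' (i₂ ∘ₗ u ∘ₗ π₁) p.1 p.2)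
      (fun p => LinearMap.toMatrix' (i₁ ∘ₗ v ∘ₗ π₂) p.1 p.2) : σ → R) (Sum.inr (i, j))) =
        LinearMap.toMatrix' (i₁ ∘ₗ v ∘ₗ π₂) := by ext i j; rfl
    rw [hx, hy]
    unfold Gfun
    rw [map_mul, RingHom.map_det, RingHom.map_det, RingHom.mapMatrix_apply,
      RingHom.mapMatrix_apply, A_map_eq_one i₁ π₁ i₂ π₂ m h₁ h₂ u v huv,
      A_map_eq_one i₂ π₂ i₁ π₁ m h₂ h₁ v u hvu]
    simp)
  rw [hF] at hr
  set x : Matrix (Fin b) (Fin a) R := Matrix.of fun i j => r (Sum.inl (i, j)) with hx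
  set y : Matrix (Fin a) (Fin b) R := Matrix.of fun i j => r (Sum.inr (i, j)) with hy
  unfold Gfun at hr
  rw [IsUnit.mul_iff] at hr
  obtain ⟨hA, hB⟩ := hr
  let u : M₁ →ₗ[R] M₂ := π₂ ∘ₗ Matrix.toLin' x ∘ₗ i₁
  let v : M₂ →ₗ[R] M₁ := π₁ ∘ₗ Matrix.toLin' y ∘ₗ i₂
  have hxx : x = LinearMap.toMatrix' (Matrix.toLin' x) := (LinearMap.toMatrix'_toLin' x).symm
  have hyy : y = LinearMap.toMatrix' (Matrix.toLin' y) := (LinearMap.toMatrix'_toLin' y).symm
  have hvu : Function.Bijective (v ∘ₗ u) := by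
    apply bijective_of_bijective_conj i₁ π₁ h₁
    rw [← Module.End.isUnit_iff, LinearMap.isUnit_iff_isUnit_det, ← LinearMap.det_toMatrix',
      ← A_eq]
    rw [hxx, hyy] at hA
    exact hA
  have huv : Function.Bijective (u ∘ₗ v) := by
    apply bijective_of_bijective_conj i₂ π₂ h₂
    rw [← Module.End.isUnit_iff, LinearMap.isUnit_iff_isUnit_det, ← LinearMap.det_toMatrix',
      ← A_eq]
    rw [hxx, hyy] at hB
    exact hB
  have hu : Function.Bijective u := by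
    constructor
    · have := hvu.1
      rw [LinearMap.coe_comp] at this
      exact Function.Injective.of_comp this
    · have := huv.2
      rw [LinearMap.coe_comp] at this
      exact Function.Surjective.of_comp this
  exact ⟨LinearEquiv.ofBijective u hu⟩

end Main

end Groth.Agent.Lib.Helper40.LG
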