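import Groth.Prelude.Def_FlatMod2
import Groth.Prelude.Def_Coh
import Groth.Agent.Lib.Helper22.FlatBC
import Groth.Agent.Lib.Helper29.RcA
import Groth.Agent.Lib.Helper21.CohPullback

set_option autoImplicit false
universe u
open AlgebraicGeometry CategoryTheory Limits

namespace Groth.Agent.Lib.Helper40.AdicFamRED

theorem flat_fromSpecStalk (Y : Scheme.{u}) (y : Y) : Flat (Y.fromSpecStalk y) := by
  obtain ⟨U, hU, hyU, -⟩ := exists_isAffineOpen_mem_and_subset (x := y) (U := (⊤ : Y.Opens)) trivial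
  rw [← hU.fromSpecStalk_eq_fromSpecStalk hyU]
  unfold IsAffineOpen.fromSpecStalk
  have : Flat (Spec.map (Y.presheaf.germ U y hyU)) := by
    rw [Flat.SpecMap_iff]
    let _ := Y.presheaf.algebra_section_stalk ⟨y, hyU⟩
    have := hU.isLocalization_stalk ⟨y, hyU⟩
    exact IsLocalization.flat (Y.presheaf.stalk y) (hU.primeIdealOf ⟨y, hyU⟩).asIdeal.primeCompl
  infer_instance

/-- transport of flatness along `pullbackComp` (helper55's `isFlatOverAt_pullback_of_comp`). -/
theorem isFlatOverAt_pullback_of_comp {X S X' S' X₁ : Scheme.{u}} (f₁ : X₁ ⟶ S) (f' : X' ⟶ S')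
    (g' : X' ⟶ X₁) (g : S' ⟶ S) (hc : IsPullback g' f' f₁ g) (p : X₁ ⟶ X) (q : X' ⟶ X)
    (hq : g' ≫ p = q) (F : X.Modules) [F.IsQuasicoherent] (x' : X')
    (h : FlatMod.IsFlatOverAt f₁ ((Scheme.Modules.pullback p).obj F) (g' x')) :
    FlatMod.IsFlatOverAt f' ((Scheme.Modules.pullback q).obj F) x' := by
  have h1 := Groth.Agent.Lib.Helper22.FlatBC.isFlatOverAt_pullback f₁ f' g' g hc
    ((Scheme.Modules.pullback p).obj F) inferInstance x' h
  subst hq
  exact Groth.Agent.Lib.Helper29.Rc.isFlatOverAt_of_iso f'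
    ((Scheme.Modules.pullbackComp g' p).app F) x' h1

open CategoryTheory.Limits in
theorem result_of_SL
    (SL : ∀ (O : Type u) [CommRing O] [IsLocalRing O] [IsNoetherianRing O]
      (X : Scheme.{u}) (f : X ⟶ Spec (CommRingCat.of O)) [LocallyOfFiniteType f] (F : X.Modules)
      (_ : Coh.IsCoh F) (x : X) (_ : f x = IsLocalRing.closedPoint O)
      (ι : Type u) (A' : ι → Type u) [∀ i, CommRing (A' i)] [∀ i, IsLocalRing (A' i)]
      (u : ∀ i, O →+* A' i) [∀ i, IsLocalHom (u i)]
      (_ : ∀ N : ℕ, ∃ s : Finset (ι × ℕ),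
        ⨅ p ∈ s, Ideal.comap (u p.1) (IsLocalRing.maximalIdeal (A' p.1) ^ p.2) ≤
          IsLocalRing.maximalIdeal O ^ N)
      (_ : ∀ (i : ι) (x' : ↥(pullback f (Spec.map (CommRingCat.ofHom (u i))))),
        pullback.fst f (Spec.map (CommRingCat.ofHom (u i))) x' = x →
        pullback.snd f (Spec.map (CommRingCat.ofHom (u i))) x' = IsLocalRing.closedPoint (A' i) →
        FlatMod.IsFlatOverAt (pullback.snd f (Spec.map (CommRingCat.ofHom (u i))))
          ((Scheme.Modules.pullback (pullback.fst f (Spec.map (CommRingCat.ofHom (u i))))).obj F) x'),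
      FlatMod.IsFlatOverAt f F x)
    {X Y : Scheme.{u}} [IsLocallyNoetherian Y]
    (f : X ⟶ Y) [LocallyOfFiniteType f] (F : X.Modules) (hF : Coh.IsCoh F) (x : X)
    {ι : Type u} (A : ι → Type u) [∀ i, CommRing (A i)] [∀ i, IsLocalRing (A i)]
    (φ : ∀ i, (Y.presheaf.stalk (f x) : Type u) →+* A i) [∀ i, IsLocalHom (φ i)]
    (htop : ∀ N : ℕ, ∃ s : Finset (ι × ℕ),
      ⨅ p ∈ s, Ideal.comap (φ p.1) (IsLocalRing.maximalIdeal (A p.1) ^ p.2) ≤
        IsLocalRing.maximalIdeal ↑(Y.presheaf.stalk (f x)) ^ N) :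
    letI g : ∀ i, Spec (CommRingCat.of (A i)) ⟶ Y :=
      fun i => Spec.map (CommRingCat.ofHom (φ i)) ≫ Y.fromSpecStalk (f x)
    (∀ (i : ι) (x' : ↥(pullback f (g i))), pullback.fst f (g i) x' = x →
      pullback.snd f (g i) x' = IsLocalRing.closedPoint (A i) →
      FlatMod.IsFlatOverAt (pullback.snd f (g i)) ((Scheme.Modules.pullback (pullback.fst f (g i))).obj F) x') →
    FlatMod.IsFlatOverAt f F x := by
  intro hflat
  beta_reduce at hflat
  haveI : F.IsQuasicoherent := hF.1
  haveI : Flat (Y.fromSpecStalk (f x)) := flat_fromSpecStalk Y (f x)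
  obtain ⟨xO, hxO1, hxO2⟩ := Scheme.Pullback.exists_preimage_pullback
    (f := f) (g := Y.fromSpecStalk (f x)) x (IsLocalRing.closedPoint (Y.presheaf.stalk (f x)))
    (Scheme.fromSpecStalk_closedPoint.symm)
  have hg : ((Y.fromSpecStalk (f x)).stalkMap
      (pullback.snd f (Y.fromSpecStalk (f x)) xO)).hom.Flat :=
    Flat.stalkMap (Y.fromSpecStalk (f x)) _
  have hcohO : Coh.IsCoh ((Scheme.Modules.pullback (pullback.fst f (Y.fromSpecStalk (f x)))).obj F) :=
    ⟨inferInstance, Groth.Agent.Lib.Helper21.CohPullback.isFiniteType_pullback _ F hF.2⟩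
  have key : FlatMod.IsFlatOverAt (pullback.snd f (Y.fromSpecStalk (f x)))
      ((Scheme.Modules.pullback (pullback.fst f (Y.fromSpecStalk (f x)))).obj F) xO := by
    haveI iL : IsLocalRing ↑(Y.presheaf.stalk (f x)) := inferInstance
    haveI iN : IsNoetherianRing ↑(Y.presheaf.stalk (f x)) := inferInstance
    refine @SL
      ↑(Y.presheaf.stalk (f x)) _ iL iN _ (pullback.snd f (Y.fromSpecStalk (f x)))
      _ ((Scheme.Modules.pullback (pullback.fst f (Y.fromSpecStalk (f x)))).obj F) hcohO xO hxO2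
      _ A _ _ φ _ htop ?_
    intro i x'' h1 h2
    have hmfst : (pullbackLeftPullbackSndIso f (Y.fromSpecStalk (f x))
          (Spec.map (CommRingCat.ofHom (φ i)))).hom ≫
        pullback.fst f (Spec.map (CommRingCat.ofHom (φ i)) ≫ Y.fromSpecStalk (f x)) =
        pullback.fst (pullback.snd f (Y.fromSpecStalk (f x))) (Spec.map (CommRingCat.ofHom (φ i))) ≫
          pullback.fst f (Y.fromSpecStalk (f x)) :=
      pullbackLeftPullbackSndIso_hom_fst _ _ _
    have hmsnd : (pullbackLeftPullbackSndIso f (Y.fromSpecStalk (f x))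
          (Spec.map (CommRingCat.ofHom (φ i)))).hom ≫
        pullback.snd f (Spec.map (CommRingCat.ofHom (φ i)) ≫ Y.fromSpecStalk (f x)) =
        pullback.snd (pullback.snd f (Y.fromSpecStalk (f x))) (Spec.map (CommRingCat.ofHom (φ i))) :=
      pullbackLeftPullbackSndIso_hom_snd _ _ _
    have hfst : pullback.fst f (Spec.map (CommRingCat.ofHom (φ i)) ≫ Y.fromSpecStalk (f x))
        ((pullbackLeftPullbackSndIso f (Y.fromSpecStalk (f x))
          (Spec.map (CommRingCat.ofHom (φ i)))).hom x'') = x := by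
      have e := Scheme.Hom.comp_apply (pullbackLeftPullbackSndIso f (Y.fromSpecStalk (f x))
          (Spec.map (CommRingCat.ofHom (φ i)))).hom
        (pullback.fst f (Spec.map (CommRingCat.ofHom (φ i)) ≫ Y.fromSpecStalk (f x))) x''
      have e2 := Scheme.Hom.comp_apply
        (pullback.fst (pullback.snd f (Y.fromSpecStalk (f x))) (Spec.map (CommRingCat.ofHom (φ i))))
        (pullback.fst f (Y.fromSpecStalk (f x))) x''
      refine e.symm.trans (Eq.trans ?_ (e2.trans ((congrArg _ h1).trans hxO1)))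
      rw [hmfst]
      try rfl
    have hsnd : pullback.snd f (Spec.map (CommRingCat.ofHom (φ i)) ≫ Y.fromSpecStalk (f x))
        ((pullbackLeftPullbackSndIso f (Y.fromSpecStalk (f x))
          (Spec.map (CommRingCat.ofHom (φ i)))).hom x'') = IsLocalRing.closedPoint (A i) := by
      have e := Scheme.Hom.comp_apply (pullbackLeftPullbackSndIso f (Y.fromSpecStalk (f x))
          (Spec.map (CommRingCat.ofHom (φ i)))).hom
        (pullback.snd f (Spec.map (CommRingCat.ofHom (φ i)) ≫ Y.fromSpecStalk (f x))) x''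
      refine e.symm.trans (Eq.trans ?_ h2)
      rw [hmsnd]
      try rfl
    have hyp := hflat i _ hfst hsnd
    have hc : IsPullback (pullbackLeftPullbackSndIso f (Y.fromSpecStalk (f x))
          (Spec.map (CommRingCat.ofHom (φ i)))).hom
        (pullback.snd (pullback.snd f (Y.fromSpecStalk (f x))) (Spec.map (CommRingCat.ofHom (φ i))))
        (pullback.snd f (Spec.map (CommRingCat.ofHom (φ i)) ≫ Y.fromSpecStalk (f x)))
        (𝟙 (Spec (CommRingCat.of (A i)))) :=
      IsPullback.of_horiz_isIso ⟨by rw [hmsnd, Category.comp_id]⟩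
    have hb := isFlatOverAt_pullback_of_comp
      (pullback.snd f (Spec.map (CommRingCat.ofHom (φ i)) ≫ Y.fromSpecStalk (f x)))
      (pullback.snd (pullback.snd f (Y.fromSpecStalk (f x))) (Spec.map (CommRingCat.ofHom (φ i))))
      _ (𝟙 _) hc
      (pullback.fst f (Spec.map (CommRingCat.ofHom (φ i)) ≫ Y.fromSpecStalk (f x)))
      (pullback.fst (pullback.snd f (Y.fromSpecStalk (f x))) (Spec.map (CommRingCat.ofHom (φ i))) ≫
          pullback.fst f (Y.fromSpecStalk (f x)))
      hmfst F x'' hyp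
    exact Groth.Agent.Lib.Helper29.Rc.isFlatOverAt_of_iso _
      ((Scheme.Modules.pullbackComp
        (pullback.fst (pullback.snd f (Y.fromSpecStalk (f x))) (Spec.map (CommRingCat.ofHom (φ i))))
        (pullback.fst f (Y.fromSpecStalk (f x)))).app F).symm x'' hb
  have h3 := Groth.Agent.Lib.Helper22.FlatBC.isFlatOverAt_of_pullback f
    (pullback.snd f (Y.fromSpecStalk (f x))) (pullback.fst f (Y.fromSpecStalk (f x)))
    (Y.fromSpecStalk (f x)) (IsPullback.of_hasPullback f (Y.fromSpecStalk (f x))) F hF.1 xO hg key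
  rw [hxO1] at h3
  exact h3

end Groth.Agent.Lib.Helper40.AdicFamRED
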