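import Groth.Agent.Lib.Helper40.AdicSys
import Mathlib.RingTheory.AdicCompletion.Functoriality
import Mathlib.RingTheory.Finiteness.Basic
import Mathlib.LinearAlgebra.Finsupp.LinearCombination

/-!
# Inverse limits of adic systems of modules over a complete ring are finite
-/

set_option autoImplicit false
universe u v

namespace Groth.Agent.Lib.Helper40.AdicLim

open Groth.Agent.Lib.Helper40

variable {A : Type u} [CommRing A] (I : Ideal A)

/-- finite free modules over a precomplete ring are precomplete -/
theorem isPrecomplete_pi [IsPrecomplete I A] (r : ℕ) : IsPrecomplete I (Fin r → A) := by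
  constructor
  intro f hf
  have hcomp : ∀ i : Fin r, ∃ L : A, ∀ n, f n i ≡ L [SMOD (I ^ n • ⊤ : Submodule A A)] := by
    intro i
    apply IsPrecomplete.prec' (fun n => f n i)
    intro m n hmn
    have := (hf hmn)
    rw [SModEq.sub_mem] at this ⊢
    exact AdicSys.map_mem_smul_top (LinearMap.proj i) (I ^ m) _ this
  choose L hL using hcomp
  refine ⟨L, fun n => ?_⟩
  rw [SModEq.sub_mem]
  have h1 : f n - L = ∑ i, Pi.single i ((f n - L) i) := (Finset.univ_sum_single _).symm
  rw [h1]
  refine Submodule.sum_mem _ (fun i _ => ?_)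
  have := hL i n
  rw [SModEq.sub_mem] at this
  exact AdicSys.map_mem_smul_top (LinearMap.single A (fun _ => A) i) (I ^ n) _ this

variable (M : ℕ → Type v) [∀ m, AddCommGroup (M m)] [∀ m, Module A (M m)]
variable (tr : ∀ (m k : ℕ), m ≤ k → (M k →ₗ[A] M m))

/-- the inverse limit of the system -/
def lim : Submodule A (∀ m, M m) where
  carrier := {x | ∀ m k (h : m ≤ k), tr m k h (x k) = x m}
  add_mem' := by
    intro x y hx hy m k h
    simp only [Pi.add_apply, map_add, hx m k h, hy m k h]
  zero_mem' := by
    intro m k h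
    simp
  smul_mem' := by
    intro a x hx m k h
    simp only [Pi.smul_apply, map_smul, hx m k h]

/-- the projections -/
def ev (n : ℕ) : lim M tr →ₗ[A] M n := (LinearMap.proj n).comp (lim M tr).subtype

theorem ev_apply (n : ℕ) (x : lim M tr) : ev M tr n x = x.1 n := rfl

theorem tr_ev (m k : ℕ) (h : m ≤ k) (x : lim M tr) : tr m k h (ev M tr k x) = ev M tr m x :=
  x.2 m k h

variable {M tr}
variable (tr_id : ∀ m (x : M m), tr m m le_rfl x = x)
variable (tr_comp : ∀ m k l (h1 : m ≤ k) (h2 : k ≤ l) (x : M l),
  tr m k h1 (tr k l h2 x) = tr m l (h1.trans h2) x)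
variable (surj : ∀ m, Function.Surjective (tr m (m + 1) (Nat.le_succ m)))

include tr_id tr_comp surj in
theorem ev_surjective (n : ℕ) : Function.Surjective (ev M tr n) := by
  intro z
  obtain ⟨x, hx, hxn⟩ := AdicSys.exists_family tr_id tr_comp surj n z
  exact ⟨⟨x, hx⟩, hxn⟩

variable (kill : ∀ m, ∀ a ∈ I ^ (m + 1), ∀ x : M m, a • x = 0)
variable (ker : ∀ m (x : M (m + 1)), tr m (m + 1) (Nat.le_succ m) x = 0 →
  x ∈ I ^ (m + 1) • (⊤ : Submodule A (M (m + 1))))

include tr_comp surj kill ker in
theorem ker_ev (hI : I.FG) (n : ℕ) :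
    LinearMap.ker (ev M tr n) = I ^ (n + 1) • (⊤ : Submodule A (lim M tr)) := by
  apply le_antisymm
  · intro x hx
    rw [LinearMap.mem_ker] at hx
    obtain ⟨r, g, Y, hg, hY, hsum⟩ :=
      AdicSys.exists_decomp I tr_comp surj kill ker hI n x.1 x.2 hx
    have : x = ∑ j, g j • (⟨Y j, hY j⟩ : lim M tr) := by
      apply Subtype.ext
      funext m
      rw [hsum m]
      simp
    rw [this]
    exact Submodule.sum_mem _ (fun j _ => Submodule.smul_mem_smul (hg j) Submodule.mem_top)
  · intro x hx
    rw [LinearMap.mem_ker]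
    exact AdicSys.eq_zero_of_mem_smul_top I kill n _ le_rfl _
      (AdicSys.map_mem_smul_top (ev M tr n) _ x hx)

include tr_id tr_comp surj kill ker in
theorem finite_lim [IsAdicComplete I A] (hI : I.FG) [Module.Finite A (M 0)] :
    Module.Finite A (lim M tr) := by
  have hker := ker_ev I tr_comp surj kill ker hI
  have hsurj0 := ev_surjective tr_id tr_comp surj 0
  haveI : IsHausdorff I (lim M tr) := by
    constructor
    intro x hx
    apply Subtype.ext
    funext m
    have h1 := hx (m + 1)
    rw [SModEq.sub_mem, sub_zero, ← hker m, LinearMap.mem_ker] at h1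
    exact h1
  obtain ⟨r, g, hg⟩ := Module.Finite.exists_fin (R := A) (M := M 0)
  choose X hX using fun j => hsurj0 (g j)
  haveI : IsPrecomplete I (Fin r → A) := isPrecomplete_pi I r
  let f : (Fin r → A) →ₗ[A] lim M tr := Fintype.linearCombination A X
  have hf : Function.Surjective ((Submodule.mkQ (I • ⊤ : Submodule A (lim M tr))) ∘ₗ f) := by
    intro y
    obtain ⟨x, rfl⟩ := Submodule.mkQ_surjective _ y
    have hx0 : ev M tr 0 x ∈ Submodule.span A (Set.range g) := by rw [hg]; trivial
    obtain ⟨c, hc⟩ := (Submodule.mem_span_range_iff_exists_fun A).mp hx0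
    refine ⟨c, ?_⟩
    change Submodule.mkQ _ (f c) = Submodule.mkQ _ x
    rw [Submodule.mkQ_apply, Submodule.mkQ_apply, Submodule.Quotient.eq]
    have : f c - x ∈ LinearMap.ker (ev M tr 0) := by
      rw [LinearMap.mem_ker, map_sub, sub_eq_zero, ← hc]
      simp [f, Fintype.linearCombination_apply, hX]
    rw [hker 0] at this
    simpa using this
  have := surjective_of_mkQ_comp_surjective (I := I) hf
  exact Module.Finite.of_surjective f this

end Groth.Agent.Lib.Helper40.AdicLim
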