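import Groth.Agent.Lib.Helper40.MLLimit

/-!
# An ML system with adic limit topology is pro-isomorphic to `(M / I^(n+1) M)`
-/

set_option autoImplicit false
universe u
open CategoryTheory CategoryTheory.Limits Opposite

namespace Groth.Agent.Lib.Helper40.AdicPro

open Groth.Agent.Lib.Helper40 Groth.Agent.Lib.Helper55 Groth.Agent.Lib.Helper40.MLLimit

variable {A : Type u} [CommRing A] (I : Ideal A)

theorem pow_smul_top_le' (M : Type u) [AddCommGroup M] [Module A M] {n k : ℕ} (h : n ≤ k) :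
    (I ^ (k + 1) • ⊤ : Submodule A M) ≤ I ^ (n + 1) • ⊤ :=
  Submodule.smul_mono_left (Ideal.pow_le_pow_right (by omega))

/-- the system `n ↦ M / I^(n+1) M` -/
noncomputable def Qsys (M : Type u) [AddCommGroup M] [Module A M] : ℕᵒᵖ ⥤ ModuleCat.{u} A where
  obj n := ModuleCat.of A (M ⧸ (I ^ (n.unop + 1) • ⊤ : Submodule A M))
  map {j k} f := ModuleCat.ofHom (Submodule.factor (pow_smul_top_le' I M (leOfHom f.unop)))
  map_id j := by
    ext x
    simp only [ModuleCat.hom_ofHom, LinearMap.comp_apply, Submodule.factor_mk,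
      ModuleCat.hom_id, LinearMap.id_apply]
  map_comp f g := by
    ext x
    simp only [ModuleCat.hom_ofHom, LinearMap.comp_apply, Submodule.factor_mk,
      ModuleCat.hom_comp]

theorem Qsys_tr_mk (M : Type u) [AddCommGroup M] [Module A M] {n k : ℕ} (h : n ≤ k) (x : M) :
    (ARSys.tr (Qsys I M) h).hom (Submodule.Quotient.mk x) = Submodule.Quotient.mk x :=
  Submodule.factor_mk (pow_smul_top_le' I M h) x


variable (H : ℕᵒᵖ ⥤ ModuleCat.{u} A)

theorem proIso_Qsys
    (hkill : ∀ j, ∀ a ∈ I ^ (j + 1), ∀ y : H.obj (op j), a • y = 0)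
    (hML : ARSys.IsML H)
    (hb : ∀ k : ℕ, ∃ n : ℕ, LinearMap.ker (limit.π H (op n)).hom ≤
      I ^ k • (⊤ : Submodule A ↑(limit H))) :
    Algz.IsProIsomorphic H (Qsys I ↑(limit H)) := by
  let π : ∀ n, ↑(limit H) →ₗ[A] H.obj (op n) := fun n => (limit.π H (op n)).hom
  have hπ : ∀ {l j : ℕ} (h : l ≤ j) (z : ↑(limit H)), trH H h (π j z) = π l z :=
    fun h z => trH_π H h z
  have hker_mono : ∀ {l j : ℕ} (_ : l ≤ j), LinearMap.ker (π j) ≤ LinearMap.ker (π l) := by
    intro l j h z hz
    rw [LinearMap.mem_ker] at hz ⊢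
    rw [← hπ h, hz, map_zero]
  choose c0 hc0 using fun n => hb (n + 1)
  let c : ℕ → ℕ := fun n => (Finset.range (n + 1)).sup c0 + n
  have hc_mono : Monotone c := by
    intro n n' h
    exact Nat.add_le_add (Finset.sup_mono (Finset.range_mono (by omega))) h
  have hc_ge : ∀ n, n ≤ c n := fun n => Nat.le_add_left _ _
  have hc0_le : ∀ n, c0 n ≤ c n := fun n =>
    (Finset.le_sup (f := c0) (Finset.self_mem_range_succ n)).trans (Nat.le_add_right _ _)
  have hc : ∀ n, LinearMap.ker (π (c n)) ≤ I ^ (n + 1) • (⊤ : Submodule A ↑(limit H)) :=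
    fun n => (hker_mono (hc0_le n)).trans (hc0 n)
  choose s hs hrange using fun n => exists_range_le_range_π H hML n
  let m : ℕ → ℕ := fun n => (Finset.range (n + 1)).sup (fun i => s (c i)) + n
  have hm_mono : Monotone m := by
    intro n n' h
    exact Nat.add_le_add (Finset.sup_mono (Finset.range_mono (by omega))) h
  have hm_ge : ∀ n, n ≤ m n := fun n => Nat.le_add_left _ _
  have hsm : ∀ n, s (c n) ≤ m n := fun n =>
    (Finset.le_sup (f := fun i => s (c i)) (Finset.self_mem_range_succ n)).trans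
      (Nat.le_add_right _ _)
  have hcm : ∀ n, c n ≤ m n := fun n => (hs (c n)).trans (hsm n)
  have hrange' : ∀ n, LinearMap.range (trH H (hcm n)) ≤ LinearMap.range (π (c n)) := by
    intro n
    exact le_trans (range_trH_mono H (hs (c n)) (hsm n)) (hrange (c n))
  let t : ∀ n, H.obj (op (m n)) →ₗ[A] LinearMap.range (π (c n)) := fun n =>
    LinearMap.codRestrict _ (trH H (hcm n)) (fun y => hrange' n ⟨y, rfl⟩)
  let a : ∀ n, H.obj (op (m n)) →ₗ[A]
      (↑(limit H) ⧸ (I ^ (n + 1) • ⊤ : Submodule A ↑(limit H))) := fun n =>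
    (Submodule.factor (hc n)).comp (((π (c n)).quotKerEquivRange).symm.toLinearMap.comp (t n))
  have ha : ∀ n (y : H.obj (op (m n))) (x : ↑(limit H)), π (c n) x = trH H (hcm n) y →
      a n y = Submodule.Quotient.mk x := by
    intro n y x hx
    have h1 : t n y = ⟨π (c n) x, ⟨x, rfl⟩⟩ := Subtype.ext hx.symm
    change Submodule.factor (hc n) (((π (c n)).quotKerEquivRange).symm (t n y)) = _
    rw [h1, LinearMap.quotKerEquivRange_symm_apply_image]
    exact Submodule.factor_mk (hc n) x
  have hex : ∀ n (y : H.obj (op (m n))), ∃ x, π (c n) x = trH H (hcm n) y :=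
    fun n y => hrange' n ⟨y, rfl⟩
  have hkillker : ∀ j, (I ^ (j + 1) • ⊤ : Submodule A ↑(limit H)) ≤ LinearMap.ker (π j) := by
    intro j z hz
    rw [LinearMap.mem_ker]
    refine Submodule.smul_induction_on hz ?_ ?_
    · intro r hr w _
      rw [map_smul]
      exact hkill j r hr _
    · intro u v hu hv
      rw [map_add, hu, hv, add_zero]
  refine ProSys.of_data m hm_mono hm_ge (fun n => ModuleCat.ofHom (a n)) ?_ ?_
  · intro j k h
    ext y
    obtain ⟨x, hx⟩ := hex j y
    change (ARSys.tr (Qsys I ↑(limit H)) h).hom (a j y) = a k (trH H (hm_mono h) y)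
    rw [ha j y x hx, Qsys_tr_mk]
    symm
    apply ha k
    rw [← hπ (hc_mono h) x, hx, trH_comp, trH_comp]
  · intro n
    refine ⟨m n, hm_ge n, ModuleCat.ofHom (Submodule.liftQ _ (π (m n)) (hkillker (m n))), ?_, ?_⟩
    · ext y
      obtain ⟨x, hx⟩ := hex (m n) y
      change Submodule.liftQ _ (π (m n)) (hkillker (m n)) (a (m n) y) = trH H (hm_mono (hm_ge n)) y
      rw [ha (m n) y x hx, Submodule.liftQ_apply, ← hπ (hc_ge (m n)) x, hx, trH_comp]
    · ext z
      obtain ⟨z, rfl⟩ := Submodule.Quotient.mk_surjective _ z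
      change a n (Submodule.liftQ _ (π (m n)) (hkillker (m n)) (Submodule.Quotient.mk z)) =
        (ARSys.tr (Qsys I ↑(limit H)) (hm_ge n)).hom (Submodule.Quotient.mk z)
      rw [Submodule.liftQ_apply, Qsys_tr_mk]
      apply ha n
      exact (hπ (hcm n) z).symm

/-- finiteness of the quotients -/
theorem finite_quot
    (hb : ∀ k : ℕ, ∃ n : ℕ, LinearMap.ker (limit.π H (op n)).hom ≤
      I ^ k • (⊤ : Submodule A ↑(limit H)))
    (hc : ∀ n : ℕ, Module.Finite A ↥(LinearMap.range (limit.π H (op n)).hom)) (k : ℕ) :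
    Module.Finite A (↑(limit H) ⧸ (I ^ k • ⊤ : Submodule A ↑(limit H))) := by
  obtain ⟨n, hn⟩ := hb k
  haveI := hc n
  haveI : Module.Finite A (↑(limit H) ⧸ LinearMap.ker (limit.π H (op n)).hom) :=
    Module.Finite.equiv ((limit.π H (op n)).hom.quotKerEquivRange).symm
  exact Module.Finite.of_surjective (Submodule.factor hn) (Submodule.factor_surjective hn)

end Groth.Agent.Lib.Helper40.AdicPro
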