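import Mathlib.RingTheory.Finiteness.Ideal
import Mathlib.RingTheory.Ideal.Operations
import Mathlib.Algebra.Module.Submodule.Pointwise

/-!
# Inverse systems of modules `M_m = M_{m+1} / I^{m+1} M_{m+1}` (Stacks 09B8, kernel part)
-/

set_option autoImplicit false
universe u v

namespace Groth.Agent.Lib.Helper40.AdicSys

variable {A : Type u} [CommRing A] (I : Ideal A)
variable (M : ℕ → Type v) [∀ m, AddCommGroup (M m)] [∀ m, Module A (M m)]
variable (tr : ∀ (m k : ℕ), m ≤ k → (M k →ₗ[A] M m))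

/-- elements of `(span (range g)) • N` are `g`-combinations of elements of `N` -/
theorem exists_sum_of_mem_span_smul {P : Type v} [AddCommGroup P] [Module A P]
    {r : ℕ} (g : Fin r → A) (N : Submodule A P) (z : P)
    (hz : z ∈ Ideal.span (Set.range g) • N) :
    ∃ w : Fin r → P, (∀ j, w j ∈ N) ∧ z = ∑ j, g j • w j := by
  refine Submodule.smul_induction_on hz ?_ ?_
  · intro a ha n hn
    obtain ⟨c, hc⟩ := (Ideal.mem_span_range_iff_exists_fun (R := A)).mp ha
    refine ⟨fun j => c j • n, fun j => N.smul_mem _ hn, ?_⟩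
    rw [← hc, Finset.sum_smul]
    refine Finset.sum_congr rfl (fun j _ => ?_)
    rw [smul_smul, mul_comm]
  · intro x y hx hy
    obtain ⟨w, hw, rfl⟩ := hx
    obtain ⟨w', hw', rfl⟩ := hy
    refine ⟨fun j => w j + w' j, fun j => N.add_mem (hw j) (hw' j), ?_⟩
    rw [← Finset.sum_add_distrib]
    refine Finset.sum_congr rfl (fun j _ => ?_)
    rw [smul_add]

theorem map_mem_smul_top {P Q : Type v} [AddCommGroup P] [Module A P] [AddCommGroup Q] [Module A Q]
    (f : P →ₗ[A] Q) (J : Ideal A) (z : P) (hz : z ∈ J • (⊤ : Submodule A P)) :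
    f z ∈ J • (⊤ : Submodule A Q) := by
  refine Submodule.smul_induction_on hz ?_ ?_
  · intro a ha n hn
    rw [map_smul]
    exact Submodule.smul_mem_smul ha Submodule.mem_top
  · intro x y hx hy
    rw [map_add]
    exact Submodule.add_mem _ hx hy

variable {M tr}
variable (tr_id : ∀ m (x : M m), tr m m le_rfl x = x)
variable (tr_comp : ∀ m k l (h1 : m ≤ k) (h2 : k ≤ l) (x : M l),
  tr m k h1 (tr k l h2 x) = tr m l (h1.trans h2) x)
variable (surj : ∀ m, Function.Surjective (tr m (m + 1) (Nat.le_succ m)))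

include tr_id tr_comp surj in
/-- the projections from the limit of a surjective system are surjective -/
theorem exists_family (n : ℕ) (z : M n) :
    ∃ x : ∀ m, M m, (∀ m k (h : m ≤ k), tr m k h (x k) = x m) ∧ x n = z := by
  -- successive lifts
  have step : ∀ (k : ℕ) (y : M (n + k)), ∃ y' : M (n + (k + 1)),
      tr (n + k) (n + (k + 1)) (Nat.le_succ _) y' = y := fun k y => surj (n + k) y
  let s : ∀ k, M (n + k) := fun k =>
    Nat.rec (motive := fun k => M (n + k)) z (fun k y => (step k y).choose) k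
  have hs : ∀ k, tr (n + k) (n + (k + 1)) (Nat.le_succ _) (s (k + 1)) = s k :=
    fun k => (step k (s k)).choose_spec
  have hs0 : s 0 = z := rfl
  have hs' : ∀ (k l : ℕ) (h : k ≤ l),
      tr (n + k) (n + l) (Nat.add_le_add_left h n) (s l) = s k := by
    intro k l h
    induction l, h using Nat.le_induction with
    | base => exact tr_id _ _
    | succ l hl ih =>
      rw [← ih, ← hs l, tr_comp]
  refine ⟨fun m => tr m (n + m) (Nat.le_add_left m n) (s m), ?_, ?_⟩
  · intro m k h
    change tr m k h (tr k (n + k) _ (s k)) = tr m (n + m) _ (s m)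
    rw [tr_comp, ← hs' m k h, tr_comp]
  · change tr n (n + n) _ (s n) = z
    rw [← hs0, ← hs' 0 n (Nat.zero_le n)]
    rfl

variable (kill : ∀ m, ∀ a ∈ I ^ (m + 1), ∀ x : M m, a • x = 0)
variable (ker : ∀ m (x : M (m + 1)), tr m (m + 1) (Nat.le_succ m) x = 0 →
  x ∈ I ^ (m + 1) • (⊤ : Submodule A (M (m + 1))))

include kill in
theorem eq_zero_of_mem_smul_top (m : ℕ) (J : Ideal A) (hJ : J ≤ I ^ (m + 1)) (z : M m)
    (hz : z ∈ J • (⊤ : Submodule A (M m))) : z = 0 := by
  refine Submodule.smul_induction_on hz ?_ ?_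
  · intro a ha n _
    exact kill m a (hJ ha) n
  · intro x y hx hy
    rw [hx, hy, add_zero]

include tr_comp surj kill ker in
theorem exists_decomp (hI : I.FG) (n : ℕ) (x : ∀ m, M m)
    (hx : ∀ m k (h : m ≤ k), tr m k h (x k) = x m) (hxn : x n = 0) :
    ∃ (r : ℕ) (g : Fin r → A) (Y : Fin r → ∀ m, M m), (∀ j, g j ∈ I ^ (n + 1)) ∧
      (∀ j m k (h : m ≤ k), tr m k h (Y j k) = Y j m) ∧ ∀ m, x m = ∑ j, g j • Y j m := by
  have hfg : (I ^ (n + 1)).FG := Ideal.FG.pow hI
  obtain ⟨r, g, hg⟩ := Submodule.fg_iff_exists_fin_generating_family.mp hfg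
  have hgmem : ∀ j, g j ∈ I ^ (n + 1) := fun j => by
    rw [← hg]; exact Submodule.subset_span (Set.mem_range_self j)
  have hg' : Ideal.span (Set.range g) = I ^ (n + 1) := hg
  let T : ℕ → Type v := fun k => {y : Fin r → M (n + k) // ∑ j, g j • y j = x (n + k)}
  have step : ∀ k (y : T k), ∃ y' : T (k + 1), ∀ j,
      tr (n + k) (n + (k + 1)) (Nat.le_succ _) (y'.1 j) - y.1 j ∈
        I ^ k • (⊤ : Submodule A (M (n + k))) := by
    intro k y
    have hex : ∀ j, ∃ z : M (n + (k + 1)),
        tr (n + k) (n + (k + 1)) (Nat.le_succ _) z = y.1 j := fun j => surj (n + k) (y.1 j)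
    choose yt hyt using hex
    have hd0 : tr (n + k) (n + (k + 1)) (Nat.le_succ _) (x (n + (k + 1)) - ∑ j, g j • yt j) = 0 := by
      rw [map_sub, hx, map_sum]
      simp only [map_smul, hyt]
      rw [y.2, sub_self]
    have hd1 := ker (n + k) _ hd0
    have hpow : I ^ (n + k + 1) = I ^ (n + 1) * I ^ k := by
      rw [← pow_add]; congr 1; omega
    rw [hpow, ← hg', Submodule.mul_smul] at hd1
    obtain ⟨w, hw, hdw⟩ := exists_sum_of_mem_span_smul g _ _ hd1
    refine ⟨⟨fun j => yt j + w j, ?_⟩, ?_⟩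
    · simp only [smul_add, Finset.sum_add_distrib]
      rw [← hdw]; abel
    · intro j
      change tr (n + k) (n + (k + 1)) _ (yt j + w j) - y.1 j ∈ _
      rw [map_add, hyt, add_sub_cancel_left]
      exact map_mem_smul_top _ _ _ (hw j)
  have y0 : T 0 := ⟨fun _ => 0, by
    simp only [smul_zero, Finset.sum_const_zero]
    exact hxn.symm⟩
  let s : ∀ k, T k := fun k =>
    Nat.rec (motive := fun k => T k) y0 (fun k y => (step k y).choose) k
  have hs : ∀ k j, tr (n + k) (n + (k + 1)) (Nat.le_succ _) ((s (k + 1)).1 j) - (s k).1 j ∈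
        I ^ k • (⊤ : Submodule A (M (n + k))) :=
    fun k => (step k (s k)).choose_spec
  let Y : Fin r → ∀ m, M m := fun j m => tr m (n + (m + 1)) (by omega) ((s (m + 1)).1 j)
  have stab : ∀ (m k : ℕ) (h : m + 1 ≤ k) (j : Fin r),
      tr m (n + k) (by omega) ((s k).1 j) = Y j m := by
    intro m k h j
    induction k, h using Nat.le_induction with
    | base => rfl
    | succ k hk ih =>
      rw [← ih]
      have h1 : tr m (n + (k + 1)) (by omega) ((s (k + 1)).1 j) =
          tr m (n + k) (by omega) (tr (n + k) (n + (k + 1)) (Nat.le_succ _) ((s (k + 1)).1 j)) :=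
        (tr_comp _ _ _ _ _ _).symm
      rw [h1, ← sub_eq_zero, ← map_sub]
      apply eq_zero_of_mem_smul_top I kill m (I ^ k) (Ideal.pow_le_pow_right hk)
      exact map_mem_smul_top _ _ _ (hs k j)
  refine ⟨r, g, Y, hgmem, ?_, ?_⟩
  · intro j m k h
    change tr m k h (tr k (n + (k + 1)) _ ((s (k + 1)).1 j)) = _
    rw [tr_comp]
    exact stab m (k + 1) (by omega) j
  · intro m
    change x m = ∑ j, g j • tr m (n + (m + 1)) _ ((s (m + 1)).1 j)
    simp only [← map_smul]
    rw [← map_sum, (s (m + 1)).2, hx]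

end Groth.Agent.Lib.Helper40.AdicSys
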