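import Groth.Agent.Lib.Helper40.AffBC1

/-!
# Helper40: the base change map `g^* f_* M ⟶ f'_* g'^* M` and its values on pulled-back sections
-/

set_option autoImplicit false
universe u

open AlgebraicGeometry CategoryTheory Opposite TopologicalSpace TensorProduct

namespace Groth.Agent.Lib.Helper40.AffBC

open Scheme.Modules Groth.Agent.Lib.Helper48.OmegaAff

variable {X S X' S' : Scheme.{u}} (f : X ⟶ S) (g : S' ⟶ S) (g' : X' ⟶ X) (f' : X' ⟶ S')
  (w : g' ≫ f = f' ≫ g)

/-- `f_* g'_* ≅ g_* f'_*` for a commutative square. -/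
noncomputable def pushSquareIso :
    pushforward g' ⋙ pushforward f ≅ pushforward f' ⋙ pushforward g :=
  pushforwardComp g' f ≪≫ pushforwardCongr w ≪≫ (pushforwardComp f' g).symm

include w in
theorem preimage_square (V : S.Opens) : g' ⁻¹ᵁ (f ⁻¹ᵁ V) = f' ⁻¹ᵁ (g ⁻¹ᵁ V) := by
  rw [← Scheme.Hom.comp_preimage, ← Scheme.Hom.comp_preimage, w]

theorem pushSquareIso_hom_app_app (T : X'.Modules) (V : S.Opens) :
    ((pushSquareIso f g g' f' w).hom.app T).app V =
      T.presheaf.map (eqToHom (preimage_square f g g' f' w V).symm).op := by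
  simp only [pushSquareIso, Iso.trans_hom, Iso.symm_hom, NatTrans.comp_app, Hom.comp_app,
    pushforwardComp_hom_app_app, pushforwardComp_inv_app_app, pushforwardCongr_hom_app_app]
  erw [Category.id_comp, Category.comp_id]
  rfl

/-- The base change map `g^* f_* M ⟶ f'_* g'^* M`. -/
noncomputable def baseChangeMap (M : X.Modules) :
    (pullback g).obj ((pushforward f).obj M) ⟶ (pushforward f').obj ((pullback g').obj M) :=
  ((pullbackPushforwardAdjunction g).homEquiv _ _).symm
    ((pushforward f).map ((pullbackPushforwardAdjunction g').unit.app M) ≫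
      (pushSquareIso f g g' f' w).hom.app _)

theorem baseChangeMap_unit (M : X.Modules) (V : S.Opens) (m : Γ(M, f ⁻¹ᵁ V)) :
    (baseChangeMap f g g' f' w M).app (g ⁻¹ᵁ V)
      (((pullbackPushforwardAdjunction g).unit.app ((pushforward f).obj M)).app V m) =
    ((pullback g').obj M).presheaf.map (eqToHom (preimage_square f g g' f' w V).symm).op
      (((pullbackPushforwardAdjunction g').unit.app M).app (f ⁻¹ᵁ V) m) := by
  have h1 := pullbackAdj_homEquiv_app g ((pushforward f).obj M)
    ((pushforward f').obj ((pullback g').obj M)) (baseChangeMap f g g' f' w M) V m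
  rw [← h1]
  unfold baseChangeMap
  rw [Equiv.apply_symm_apply, Hom.comp_app, ConcreteCategory.comp_apply,
    pushSquareIso_hom_app_app]
  rfl

variable {f g g' f'}

include w in
theorem preimage_le_of_le {V : S.Opens} {V' : S'.Opens} (e : V' ≤ g ⁻¹ᵁ V) :
    f' ⁻¹ᵁ V' ≤ g' ⁻¹ᵁ (f ⁻¹ᵁ V) := by
  rw [preimage_square f g g' f' w]
  exact f'.preimage_mono e

/-- The base change map sends the pulled-back section of `m` to the pulled-back section of `m`. -/
theorem baseChangeMap_pullRes (M : X.Modules) {V : S.Opens} {V' : S'.Opens} (e : V' ≤ g ⁻¹ᵁ V)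
    (m : Γ(M, f ⁻¹ᵁ V)) :
    (baseChangeMap f g g' f' w M).app V' (pullRes g ((pushforward f).obj M) e m) =
      pullRes g' M (preimage_le_of_le w e) m := by
  rw [pullRes_apply, pullRes_apply]
  have nat := congr($((baseChangeMap f g g' f' w M).mapPresheaf.naturality (homOfLE e).op)
    (((pullbackPushforwardAdjunction g).unit.app ((pushforward f).obj M)).app V m))
  change (baseChangeMap f g g' f' w M).app V' (((pullback g).obj ((pushforward f).obj M)).presheaf.map
    (homOfLE e).op _) = ((pushforward f').obj ((pullback g').obj M)).presheaf.map (homOfLE e).op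
      ((baseChangeMap f g g' f' w M).app (g ⁻¹ᵁ V) _) at nat
  rw [nat, baseChangeMap_unit, pushforward_obj_presheaf_map]
  exact Groth.Agent.Lib.Lead.QCohAff.res_res ((pullback g').obj M)
    (preimage_square f g g' f' w V).ge (f'.preimage_mono e) _

end Groth.Agent.Lib.Helper40.AffBC
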