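import Groth.Agent.Lib.Helper40.AffBC2
import Groth.Agent.S2249
import Mathlib.AlgebraicGeometry.Morphisms.Flat

/-!
# Helper40: affine base change `g^* f_* M ≅ f'_* g'^* M`
-/

set_option autoImplicit false
universe u

open AlgebraicGeometry CategoryTheory Opposite TopologicalSpace TensorProduct

namespace Groth.Agent.Lib.Helper40.AffBC

noncomputable section

open Scheme.Modules Groth.Agent.Lib.Helper48.OmegaAff

variable {X S X' S' : Scheme.{u}} {f : X ⟶ S} {g : S' ⟶ S} {g' : X' ⟶ X} {f' : X' ⟶ S'}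

theorem appLE_congr_hom {A B : Scheme.{u}} {φ ψ : A ⟶ B} (hφψ : φ = ψ) (V : B.Opens) (U : A.Opens)
    (e1 : U ≤ φ ⁻¹ᵁ V) (e2 : U ≤ ψ ⁻¹ᵁ V) : φ.appLE V U e1 = ψ.appLE V U e2 := by
  subst hφψ; rfl

/-- The ring-level pushout square of sections. -/
theorem isPushout_sections (h : IsPullback g' f' f g) {V : S.Opens} {V' : S'.Opens}
    (hV : IsAffineOpen V) (hV' : IsAffineOpen V') (e : V' ≤ g ⁻¹ᵁ V)
    (hU : IsAffineOpen (f ⁻¹ᵁ V)) :
    IsPushout (f.app V) (g.appLE V V' e)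
      (g'.appLE (f ⁻¹ᵁ V) (f' ⁻¹ᵁ V') (preimage_le_of_le h.w e)) (f'.app V') := by
  have hUY : f' ⁻¹ᵁ V' = g' ⁻¹ᵁ (f ⁻¹ᵁ V) ⊓ f' ⁻¹ᵁ V' :=
    (inf_eq_right.2 (preimage_le_of_le h.w e)).symm
  have h1 := (isIso_pushoutSection_iff h e (le_refl (f ⁻¹ᵁ V)) hUY).1
    (isIso_pushoutSection_of_isAffineOpen h e (le_refl (f ⁻¹ᵁ V)) hUY hV hV' hU)
  rw [Scheme.Hom.app_eq_appLE, Scheme.Hom.app_eq_appLE (f := f')]
  exact h1


/-- The base change map is bijective on sections over an affine open `V'` of `S'` mapping into an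
affine open `V` of `S`. -/
theorem baseChangeMap_app_bijective (h : IsPullback g' f' f g) [IsAffineHom f] (M : X.Modules)
    [M.IsQuasicoherent] {V : S.Opens} {V' : S'.Opens}
    (hV : IsAffineOpen V) (hV' : IsAffineOpen V') (e : V' ≤ g ⁻¹ᵁ V) :
    Function.Bijective ((baseChangeMap f g g' f' h.w M).app V') := by
  have hU : IsAffineOpen (f ⁻¹ᵁ V) := hV.preimage f
  haveI : IsAffineHom f' := MorphismProperty.of_isPullback h inferInstance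
  have hU' : IsAffineOpen (f' ⁻¹ᵁ V') := hV'.preimage f'
  have e' : f' ⁻¹ᵁ V' ≤ g' ⁻¹ᵁ (f ⁻¹ᵁ V) := preimage_le_of_le h.w e
  haveI : ((pushforward f).obj M).IsQuasicoherent :=
    Groth.Agent.S2249.isQuasicoherent_pushforward_of_qcqs f M
  have hpo := isPushout_sections h hV hV' e hU
  -- algebra structures
  letI algAA' : Algebra Γ(S, V) Γ(S', V') := (g.appLE V V' e).hom.toAlgebra
  letI algBB' : Algebra Γ(X, f ⁻¹ᵁ V) Γ(X', f' ⁻¹ᵁ V') := (g'.appLE _ _ e').hom.toAlgebra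
  letI algAB : Algebra Γ(S, V) Γ(X, f ⁻¹ᵁ V) := (f.app V).hom.toAlgebra
  letI algA'B' : Algebra Γ(S', V') Γ(X', f' ⁻¹ᵁ V') := (f'.app V').hom.toAlgebra
  letI algAB' : Algebra Γ(S, V) Γ(X', f' ⁻¹ᵁ V') :=
    (f.app V ≫ g'.appLE _ _ e').hom.toAlgebra
  haveI t1 : IsScalarTower Γ(S, V) Γ(X, f ⁻¹ᵁ V) Γ(X', f' ⁻¹ᵁ V') :=
    .of_algebraMap_eq fun _ => rfl
  haveI t2 : IsScalarTower Γ(S, V) Γ(S', V') Γ(X', f' ⁻¹ᵁ V') :=
    .of_algebraMap_eq fun a => congr($(hpo.w) a)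
  haveI hP : Algebra.IsPushout Γ(S, V) Γ(S', V') Γ(X, f ⁻¹ᵁ V) Γ(X', f' ⁻¹ᵁ V') := by
    have h2 : Algebra.IsPushout Γ(S, V) Γ(X, f ⁻¹ᵁ V) Γ(S', V') Γ(X', f' ⁻¹ᵁ V') :=
      CommRingCat.isPushout_iff_isPushout.1 hpo
    exact h2.symm
  -- module structures on `N = Γ(M, f⁻¹V)`
  letI modAN : Module Γ(S, V) Γ(M, f ⁻¹ᵁ V) :=
    inferInstanceAs (Module Γ(S, V) Γ((pushforward f).obj M, V))
  haveI t3 : IsScalarTower Γ(S, V) Γ(X, f ⁻¹ᵁ V) Γ(M, f ⁻¹ᵁ V) :=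
    .of_algebraMap_smul fun _ _ => rfl
  let c := Algebra.IsPushout.cancelBaseChange Γ(S, V) Γ(S', V') Γ(X, f ⁻¹ᵁ V) Γ(X', f' ⁻¹ᵁ V')
    Γ(M, f ⁻¹ᵁ V)
  let τ1 : Γ(S', V') ⊗[Γ(S, V)] Γ(M, f ⁻¹ᵁ V) →ₗ[Γ(S', V')]
      Γ((pullback g).obj ((pushforward f).obj M), V') := pullTensorHom g ((pushforward f).obj M) e
  let τ2 : Γ(X', f' ⁻¹ᵁ V') ⊗[Γ(X, f ⁻¹ᵁ V)] Γ(M, f ⁻¹ᵁ V) →ₗ[Γ(X', f' ⁻¹ᵁ V')]
      Γ((pullback g').obj M, f' ⁻¹ᵁ V') := pullTensorHom g' M e'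
  have hτ1 : Function.Bijective τ1 :=
    pullTensorHom_bijective g ((pushforward f).obj M) hV' hV e
  have hτ2 : Function.Bijective τ2 := pullTensorHom_bijective g' M hU' hU e'
  have key : ∀ x : Γ(S', V') ⊗[Γ(S, V)] Γ(M, f ⁻¹ᵁ V),
      (baseChangeMap f g g' f' h.w M).app V' (τ1 x) = τ2 (c.symm x) := by
    intro x
    induction x using TensorProduct.induction_on with
    | zero =>
      rw [map_zero, map_zero, map_zero, map_zero]
      rfl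
    | tmul a n =>
      have e1 : τ1 (a ⊗ₜ n) = a • pullRes g ((pushforward f).obj M) e n :=
        pullTensorHom_tmul g ((pushforward f).obj M) e a n
      have e2 : c.symm (a ⊗ₜ n) = (f'.app V' a) ⊗ₜ n :=
        Algebra.IsPushout.cancelBaseChange_symm_tmul _ _ _ _ _ a n
      have e3 : τ2 ((f'.app V' a) ⊗ₜ n) = (f'.app V' a) • pullRes g' M e' n :=
        pullTensorHom_tmul g' M e' _ n
      rw [e1, e2, e3, Hom.app_smul, baseChangeMap_pullRes h.w M e n]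
      rfl
    | add x y hx hy =>
      rw [map_add, map_add, hx, hy, map_add, map_add]
      rfl
  constructor
  · intro p q hpq
    obtain ⟨x, rfl⟩ := hτ1.2 p
    obtain ⟨y, rfl⟩ := hτ1.2 q
    rw [key, key] at hpq
    rw [c.symm.injective (hτ2.1 hpq)]
  · intro t
    obtain ⟨z, rfl⟩ := hτ2.2 t
    obtain ⟨x, rfl⟩ := c.symm.surjective z
    exact ⟨τ1 x, key x⟩

/-- **Affine base change**: the base change map is an isomorphism for `f` affine and `M`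
quasi-coherent. -/
theorem isIso_baseChangeMap (h : IsPullback g' f' f g) [IsAffineHom f] (M : X.Modules)
    [M.IsQuasicoherent] : IsIso (baseChangeMap f g g' f' h.w M) := by
  let B : Set S'.Opens := {V' | IsAffineOpen V' ∧ ∃ V : S.Opens, IsAffineOpen V ∧ V' ≤ g ⁻¹ᵁ V}
  have hB : Opens.IsBasis B := by
    rw [Opens.isBasis_iff_nbhd]
    intro U x hxU
    obtain ⟨_, ⟨V, hV : IsAffineOpen V, rfl⟩, hxV, -⟩ :=
      (S.isBasis_affineOpens).exists_subset_of_mem_open (Set.mem_univ (g x)) isOpen_univ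
    obtain ⟨_, ⟨V', hV' : IsAffineOpen V', rfl⟩, hxV', hV'U⟩ :=
      (S'.isBasis_affineOpens).exists_subset_of_mem_open
        (show x ∈ U ⊓ g ⁻¹ᵁ V from ⟨hxU, hxV⟩) (U ⊓ g ⁻¹ᵁ V).2
    exact ⟨V', ⟨hV', V, hV, fun y hy => (hV'U hy).2⟩, hxV', fun y hy => (hV'U hy).1⟩
  refine isIso_of_app_bijective_of_basis B hB _ ?_
  rintro V' ⟨hV', V, hV, e⟩
  exact baseChangeMap_app_bijective h M hV hV' e

end

end Groth.Agent.Lib.Helper40.AffBC
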