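import Mathlib.RingTheory.Flat.FaithfullyFlat.Algebra
import Mathlib.RingTheory.TensorProduct.Basic

set_option autoImplicit false
universe u
open TensorProduct

namespace Groth.Agent.Lib.Helper40.Amitsur

section aux

variable (A A' : Type u) [CommRing A] [CommRing A'] [Algebra A A']
variable (N : Type u) [AddCommGroup N] [Module A N]

noncomputable def dmap : A' ⊗[A] N →ₗ[A] (A' ⊗[A] A') ⊗[A] N :=
  LinearMap.rTensor N (Algebra.TensorProduct.includeLeft : A' →ₐ[A] A' ⊗[A] A').toLinearMap -
    LinearMap.rTensor N (Algebra.TensorProduct.includeRight : A' →ₐ[A] A' ⊗[A] A').toLinearMap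

noncomputable def tmap : A' ⊗[A] (A' ⊗[A] N) →ₗ[A] A' ⊗[A] N :=
  (LinearMap.rTensor N (LinearMap.mul' A A')) ∘ₗ (TensorProduct.assoc A A' A' N).symm.toLinearMap

noncomputable def smap : A' ⊗[A] ((A' ⊗[A] A') ⊗[A] N) →ₗ[A] A' ⊗[A] (A' ⊗[A] N) :=
  (TensorProduct.assoc A A' A' N).toLinearMap ∘ₗ
    (LinearMap.rTensor N
      ((LinearMap.rTensor A' (LinearMap.mul' A A')) ∘ₗ
        (TensorProduct.assoc A A' A' A').symm.toLinearMap)) ∘ₗ
    (TensorProduct.assoc A A' (A' ⊗[A] A') N).symm.toLinearMap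

lemma smap_dmap :
    (smap A A' N) ∘ₗ (LinearMap.lTensor A' (dmap A A' N)) =
      (LinearMap.lTensor A' (TensorProduct.mk A A' N 1)) ∘ₗ (tmap A A' N) - LinearMap.id := by
  apply TensorProduct.ext'
  intro b y
  induction y using TensorProduct.induction_on with
  | zero => simp
  | tmul a n =>
    simp [smap, dmap, tmap]
  | add y z hy hz =>
    simp only [TensorProduct.tmul_add, map_add, hy, hz]

lemma exact_mk_dmap [Module.FaithfullyFlat A A'] :
    Function.Exact (TensorProduct.mk A A' N 1) (dmap A A' N) := by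
  apply Module.FaithfullyFlat.lTensor_reflects_exact A A'
  intro y
  constructor
  · intro hy
    have h := congrArg (fun g => g y) (smap_dmap A A' N)
    simp only [LinearMap.comp_apply, hy, map_zero, LinearMap.sub_apply, LinearMap.id_apply] at h
    refine ⟨tmap A A' N y, ?_⟩
    exact (sub_eq_zero.mp h.symm)
  · rintro ⟨x, rfl⟩
    induction x using TensorProduct.induction_on with
    | zero => simp
    | tmul b n => simp [dmap]
    | add x z hx hz => simp only [map_add, hx, hz, add_zero]

end aux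

lemma exists_algebraMap_eq_of_tmul_eq (S R : Type u) [CommRing S] [CommRing R] [Algebra S R]
    [Module.FaithfullyFlat S R] (r : R)
    (h : (r ⊗ₜ[S] (1 : R) : R ⊗[S] R) = (1 : R) ⊗ₜ[S] r) : ∃ s : S, algebraMap S R s = r := by
  have hd : dmap S R S (r ⊗ₜ[S] (1 : S)) = 0 := by
    simp only [dmap, LinearMap.sub_apply, LinearMap.rTensor_tmul, AlgHom.toLinearMap_apply,
      Algebra.TensorProduct.includeLeft_apply, Algebra.TensorProduct.includeRight_apply]
    rw [h, sub_self]
  obtain ⟨n, hn⟩ := (exact_mk_dmap S R S (r ⊗ₜ[S] (1 : S))).mp hd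
  refine ⟨n, ?_⟩
  have h2 := congrArg (TensorProduct.rid S R) hn
  simp only [TensorProduct.mk_apply, TensorProduct.rid_tmul, one_smul] at h2
  rw [Algebra.algebraMap_eq_smul_one]
  exact h2

end Groth.Agent.Lib.Helper40.Amitsur
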