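import Mathlib.LinearAlgebra.TensorProduct.Quotient
import Mathlib.RingTheory.Filtration
import Mathlib.RingTheory.Finiteness.Nakayama
import Mathlib.RingTheory.Ideal.Quotient.Operations

set_option autoImplicit false
universe u
open TensorProduct

namespace Groth.Agent.Lib.Helper40.ClPull

section Alg

variable {A B : Type*} [CommRing A] [CommRing B] [Algebra A B]
  {N : Type*} [AddCommGroup N] [Module A N]

/-- if `A → B` is surjective with kernel `I` and `1 ⊗ n = 0` in `B ⊗ N` then `n ∈ I N` -/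
theorem mem_ker_smul_of_one_tmul_eq_zero (hsurj : Function.Surjective (algebraMap A B)) (n : N)
    (h : (1 : B) ⊗ₜ[A] n = 0) :
    n ∈ (RingHom.ker (algebraMap A B)) • (⊤ : Submodule A N) := by
  let I := RingHom.ker (algebraMap A B)
  let f : A →ₐ[A] B := Algebra.ofId A B
  have hf : Function.Surjective f := hsurj
  let e : (A ⧸ RingHom.ker f) ≃ₐ[A] B := Ideal.quotientKerAlgEquivOfSurjective hf
  let E : (A ⧸ RingHom.ker f) ⊗[A] N ≃ₗ[A] B ⊗[A] N :=
    TensorProduct.congr e.toLinearEquiv (LinearEquiv.refl A N)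
  have h1 : E ((1 : A ⧸ RingHom.ker f) ⊗ₜ[A] n) = (1 : B) ⊗ₜ[A] n := by
    change (e (1 : A ⧸ RingHom.ker f)) ⊗ₜ[A] n = _
    rw [map_one]
  have h2 : (1 : A ⧸ RingHom.ker f) ⊗ₜ[A] n = 0 := by
    apply E.injective
    rw [h1, h, map_zero]
  have h3 := congrArg (TensorProduct.quotTensorEquivQuotSMul N (RingHom.ker f)) h2
  rw [TensorProduct.quotTensorEquivQuotSMul_mk_one_tmul, map_zero,
    Submodule.Quotient.mk_eq_zero] at h3
  exact h3

/-- Krull: a finitely generated submodule inside all `I^n M` is killed by some `s ∈ 1 + I` -/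
theorem exists_smul_eq_zero_of_le_iInf_pow [IsNoetherianRing A] {M : Type*} [AddCommGroup M]
    [Module A M] [Module.Finite A M] (I : Ideal A) (P : Submodule A M)
    (hP : ∀ n : ℕ, P ≤ I ^ n • (⊤ : Submodule A M)) :
    ∃ s : A, s - 1 ∈ I ∧ ∀ x ∈ P, s • x = 0 := by
  let N' : Submodule A M := ⨅ i : ℕ, I ^ i • (⊤ : Submodule A M)
  have hfg : N'.FG := IsNoetherian.noetherian N'
  have hle : N' ≤ I • N' := fun x hx => by
    obtain ⟨r, hr⟩ := (I.mem_iInf_smul_pow_eq_bot_iff x).1 hx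
    rw [← hr]
    exact Submodule.smul_mem_smul r.2 hx
  obtain ⟨s, hs, hs'⟩ :=
    Submodule.exists_sub_one_mem_and_smul_eq_zero_of_fg_of_le_smul I N' hfg hle
  exact ⟨s, hs, fun x hx => hs' x ((Submodule.mem_iInf _).2 (fun n => hP n hx))⟩

end Alg

end Groth.Agent.Lib.Helper40.ClPull
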