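import Groth.Agent.Lib.Helper2.FinLocFreeAff
import Groth.Agent.Lib.Helper2.FinPresAff
import Groth.Agent.Lib.Helper2.KerSec
import Groth.Agent.Lib.Helper21.CohPullback
import Groth.Agent.Lib.Helper21.CohNoeth
import Groth.Agent.Lib.Helper21.QCohKernel

set_option autoImplicit false
universe u

open AlgebraicGeometry CategoryTheory CategoryTheory.Limits TensorProduct Opposite

namespace Groth.Agent.Lib.Helper40.FPKer

open Scheme.Modules Groth.Agent.Lib.Lead.QCohAff Groth.Agent.Lib.Lead.PullbackAff
  Groth.Agent.Lib.Lead.CohAff Groth.Agent.Lib.Helper21.QCohSections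

/-- The pullback of a finitely presented quasi-coherent module is finitely presented. -/
theorem isFinitePresentation_pullback {X Y : Scheme.{u}} (f : X ⟶ Y) (G : Y.Modules)
    [G.IsQuasicoherent] (hG : SheafOfModules.IsFinitePresentation (R := Y.ringCatSheaf) G) :
    SheafOfModules.IsFinitePresentation (R := X.ringCatSheaf)
      ((Scheme.Modules.pullback f).obj G) := by
  apply Groth.Agent.Lib.Helper2.FinLocFreeAff.isFinitePresentation_of_sections
  intro x
  obtain ⟨V, U, hV, hU, hxU, hUV⟩ := exists_affines f x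
  refine ⟨U, hU, hxU, ?_⟩
  haveI := hG
  haveI : Module.FinitePresentation Γ(Y, V) Γ(G, V) :=
    Groth.Agent.Lib.Helper2.FinTypeAff.finitePresentation_sections G hV
  letI := (f.appLE V U hUV).hom.toAlgebra
  exact Module.FinitePresentation.of_equiv (sectionsPullbackEquiv f G hU hV hUV).symm

/-- The kernel of an epimorphism from a finite type quasi-coherent module onto a finitely
presented one is of finite type. -/
theorem isFiniteType_kernel_of_epi {X : Scheme.{u}} {M N : X.Modules} [M.IsQuasicoherent]
    [N.IsQuasicoherent] (φ : M ⟶ N) [Epi φ]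
    (hM : SheafOfModules.IsFiniteType (R := X.ringCatSheaf) M)
    (hN : SheafOfModules.IsFinitePresentation (R := X.ringCatSheaf) N) :
    SheafOfModules.IsFiniteType (R := X.ringCatSheaf) (kernel φ) := by
  haveI : (kernel φ).IsQuasicoherent := Groth.Agent.Lib.Helper21.QCohKernel.isQuasicoherent_kernel φ
  refine (isFiniteType_iff_finite_sections (kernel φ)).2 ?_
  intro U hU
  haveI := hN
  haveI : Module.Finite Γ(X, U) Γ(M, U) := finite_sections_of_isFiniteType M hM hU
  haveI : Module.FinitePresentation Γ(X, U) Γ(N, U) :=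
    Groth.Agent.Lib.Helper2.FinTypeAff.finitePresentation_sections N hU
  have hsurj : Function.Surjective (appL φ U) := app_surjective_of_epi φ hU
  have hfg : (LinearMap.ker (appL φ U)).FG := Module.FinitePresentation.fg_ker (appL φ U) hsurj
  haveI : Module.Finite Γ(X, U) ↥(LinearMap.ker (appL φ U)) := Module.Finite.of_fg hfg
  -- `Γ(kernel φ, U) ≃ ker`
  let ψ : Γ(kernel φ, U) →ₗ[Γ(X, U)] ↥(LinearMap.ker (appL φ U)) :=
    LinearMap.codRestrict _ (appL (kernel.ι φ) U) (fun t => by
      rw [LinearMap.mem_ker, appL_apply, appL_apply]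
      exact Groth.Agent.Lib.Helper2.KerSec.app_kernelι_comp φ U t)
  have hψi : Function.Injective ψ := by
    intro s t hst
    apply Groth.Agent.Lib.Helper2.KerSec.app_kernelι_injective φ U
    exact congrArg Subtype.val hst
  have hψs : Function.Surjective ψ := by
    rintro ⟨s, hs⟩
    obtain ⟨t, ht⟩ := Groth.Agent.Lib.Helper2.KerSec.exists_of_app_eq_zero φ U s
      (by simpa using hs)
    exact ⟨t, Subtype.ext ht⟩
  exact Module.Finite.equiv (LinearEquiv.ofBijective ψ ⟨hψi, hψs⟩).symm

end Groth.Agent.Lib.Helper40.FPKer
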