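import Groth.Agent.Lib.Helper40.SubSh9

/-!
# Sums of quasi-coherent subsheaves of finite type
-/

set_option autoImplicit false
universe u

open AlgebraicGeometry CategoryTheory Opposite TopologicalSpace Limits

namespace Groth.Agent.Lib.Helper40.SSh

open Groth.Agent.Lib.Lead.QCohAff Groth.Agent.Lib.Lead.CohAff

set_option backward.isDefEq.respectTransparency.types false

variable {X : Scheme.{u}} {F : X.Modules}

open SubSh in
/-- the sum of two quasi-coherent subsheaves of finite type -/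
theorem exists_sup [F.IsQuasicoherent] {G1 G2 : X.Modules} (i1 : G1 ⟶ F) (i2 : G2 ⟶ F)
    [Mono i1] [Mono i2] [G1.IsQuasicoherent] [G2.IsQuasicoherent]
    (h1 : SheafOfModules.IsFiniteType (R := X.ringCatSheaf) G1)
    (h2 : SheafOfModules.IsFiniteType (R := X.ringCatSheaf) G2) :
    ∃ (E : X.Modules) (j : E ⟶ F), Mono j ∧ E.IsQuasicoherent ∧
      SheafOfModules.IsFiniteType (R := X.ringCatSheaf) E ∧
      (∀ (T : X.Opens) (a : Γ(G1, T)), ∃ e : Γ(E, T), j.app T e = i1.app T a) ∧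
      (∀ (T : X.Opens) (a : Γ(G2, T)), ∃ e : Γ(E, T), j.app T e = i2.app T a) := by
  let N : SubSh F := lsup (ofHom i1) (ofHom i2)
  have hloc : N.IsLocal := isLocal_lsup _ _
  have hQ1 : ∀ V : X.Opens, IsAffineOpen V → (ofHom i1).QCOn V := fun V hV => qcOn_ofHom i1 hV
  have hQ2 : ∀ V : X.Opens, IsAffineOpen V → (ofHom i2).QCOn V := fun V hV => qcOn_ofHom i2 hV
  have haff : ∀ x : X, ∃ (V : X.Opens) (_ : IsAffineOpen V), x ∈ V := by
    intro x
    obtain ⟨_, ⟨V, hV : IsAffineOpen V, rfl⟩, hxV, -⟩ :=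
      (X.isBasis_affineOpens).exists_subset_of_mem_open (Set.mem_univ x) isOpen_univ
    exact ⟨V, hV, hxV⟩
  haveI hq : (N.toMod hloc).IsQuasicoherent := by
    apply isQuasicoherent_toMod N hloc
    intro x
    obtain ⟨V, hV, hxV⟩ := haff x
    exact ⟨V, hV, hxV, qcOn_lsup _ _ hQ1 hQ2 hV⟩
  have hft : SheafOfModules.IsFiniteType (R := X.ringCatSheaf) (N.toMod hloc) := by
    apply isFiniteType_toMod N hloc
    intro x
    obtain ⟨V, hV, hxV⟩ := haff x
    exact ⟨V, hV, hxV, fg_lsup _ _ hQ1 hQ2 hV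
      (fg_ofHom i1 (finite_sections_of_isFiniteType G1 h1 hV))
      (fg_ofHom i2 (finite_sections_of_isFiniteType G2 h2 hV))⟩
  refine ⟨N.toMod hloc, N.ι hloc, inferInstance, hq, hft, ?_, ?_⟩
  · intro T a
    exact ⟨N.sec hloc ⟨i1.app T a, left_le_lsup _ _ T ⟨a, rfl⟩⟩, rfl⟩
  · intro T a
    exact ⟨N.sec hloc ⟨i2.app T a, right_le_lsup _ _ T ⟨a, rfl⟩⟩, rfl⟩

/-- finite sums of quasi-coherent subsheaves of finite type (on a qcqs scheme, to have a
subsheaf to start from). -/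
theorem exists_finsup [CompactSpace X] [QuasiSeparatedSpace X] [F.IsQuasicoherent] :
    ∀ (n : ℕ) (G : Fin n → X.Modules) (i : ∀ k, G k ⟶ F), (∀ k, Mono (i k)) →
      (∀ k, (G k).IsQuasicoherent) →
      (∀ k, SheafOfModules.IsFiniteType (R := X.ringCatSheaf) (G k)) →
    ∃ (E : X.Modules) (j : E ⟶ F), Mono j ∧ E.IsQuasicoherent ∧
      SheafOfModules.IsFiniteType (R := X.ringCatSheaf) E ∧
      ∀ (k : Fin n) (T : X.Opens) (a : Γ(G k, T)), ∃ e : Γ(E, T), j.app T e = (i k).app T a := by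
  intro n
  induction n with
  | zero =>
    intro G i _ _ _
    obtain ⟨E, j, hm, hq, hft, -⟩ := exists_ft_sub_of_fg_qcqs F (isAffineOpen_bot X) ⊥
      Submodule.fg_bot
    exact ⟨E, j, hm, hq, hft, fun k => k.elim0⟩
  | succ n ih =>
    intro G i hmono hq hft
    obtain ⟨E0, j0, hm0, hq0, hft0, h0⟩ := ih (fun k => G k.castSucc) (fun k => i k.castSucc)
      (fun k => hmono _) (fun k => hq _) (fun k => hft _)
    haveI := hm0
    haveI := hq0
    haveI := hmono (Fin.last n)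
    haveI := hq (Fin.last n)
    obtain ⟨E, j, hm, hqE, hftE, hA, hB⟩ := exists_sup j0 (i (Fin.last n)) hft0 (hft (Fin.last n))
    refine ⟨E, j, hm, hqE, hftE, ?_⟩
    intro k
    induction k using Fin.lastCases with
    | last => exact hB
    | cast k =>
      intro T a
      obtain ⟨e0, he0⟩ := h0 k T a
      obtain ⟨e, he⟩ := hA T e0
      exact ⟨e, he.trans he0⟩

end Groth.Agent.Lib.Helper40.SSh
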