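import Groth.Agent.Lib.Helper40.HomColim5
import Groth.Agent.Lib.Helper40.FPKer
import Groth.Agent.Lib.Helper48.Conormal1
import Groth.Agent.Lib.Helper35.AbSheaf
import Groth.Agent.Lib.Helper40.SubSh10
import Groth.Agent.Lib.Helper2.QCohLim
import Groth.Agent.Lib.Helper2.FinPresAff
import Groth.Agent.Lib.Helper2.FinLocFreeAff

set_option autoImplicit false
universe u

open AlgebraicGeometry CategoryTheory CategoryTheory.Limits Opposite TopologicalSpace

/-!
# Extension of finitely presented modules (EGA I 9.4.8), preliminaries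
-/

namespace Groth.Agent.Lib.Helper40.ExtFP

open Scheme.Modules Groth.Agent.Lib.Lead.QCohAff Groth.Agent.Lib.Lead.CohAff
  Groth.Agent.Lib.Helper21.QCohSections

variable {X : Scheme.{u}}


/-- the cokernel of a map from a finite type module to a finitely presented one is finitely
presented -/
theorem isFinitePresentation_cokernel {E P : X.Modules} [E.IsQuasicoherent] [P.IsQuasicoherent]
    (i : E ⟶ P) (hE : SheafOfModules.IsFiniteType (R := X.ringCatSheaf) E)
    (hP : SheafOfModules.IsFinitePresentation (R := X.ringCatSheaf) P) :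
    SheafOfModules.IsFinitePresentation (R := X.ringCatSheaf) (cokernel i : X.Modules) := by
  haveI : (cokernel i : X.Modules).IsQuasicoherent :=
    Groth.Agent.Lib.Helper21.QCohKernel.isQuasicoherent_cokernel i
  haveI : (Abelian.image i : X.Modules).IsQuasicoherent :=
    Groth.Agent.Lib.Helper21.QCohKernel.isQuasicoherent_kernel (cokernel.π i)
  have hk : SheafOfModules.IsFiniteType (R := X.ringCatSheaf) (Abelian.image i : X.Modules) :=
    Groth.Agent.Lib.Helper21.CohNoeth.isFiniteType_of_epi (Abelian.factorThruImage i) hE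
  apply Groth.Agent.Lib.Helper2.FinLocFreeAff.isFinitePresentation_of_sections
  intro x
  obtain ⟨_, ⟨U, hU : IsAffineOpen U, rfl⟩, hxU, -⟩ :=
    (X.isBasis_affineOpens).exists_subset_of_mem_open (Set.mem_univ x) isOpen_univ
  refine ⟨U, hU, hxU, ?_⟩
  haveI := hP
  haveI : Module.FinitePresentation Γ(X, U) Γ(P, U) :=
    Groth.Agent.Lib.Helper2.FinTypeAff.finitePresentation_sections P hU
  haveI : Module.Finite Γ(X, U) Γ((Abelian.image i : X.Modules), U) :=
    finite_sections_of_isFiniteType _ hk hU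
  have hsurj : Function.Surjective (appL (cokernel.π i) U) := app_surjective_of_epi _ hU
  refine Module.finitePresentation_of_surjective (appL (cokernel.π i) U) hsurj ?_
  have hker : LinearMap.ker (appL (cokernel.π i) U) =
      LinearMap.range (appL (Abelian.image.ι i) U) := by
    ext s
    rw [LinearMap.mem_ker, LinearMap.mem_range]
    constructor
    · intro hs
      obtain ⟨t, ht⟩ := Groth.Agent.Lib.Helper2.KerSec.exists_of_app_eq_zero (cokernel.π i) U s hs
      exact ⟨t, ht⟩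
    · rintro ⟨t, rfl⟩
      exact Groth.Agent.Lib.Helper2.KerSec.app_kernelι_comp (cokernel.π i) U t
  rw [hker, LinearMap.range_eq_map]
  exact Submodule.FG.map _ (Module.Finite.fg_top)

/-- a map to a quasi-coherent module which is surjective on sections over the members of an
affine open cover is an epimorphism -/
theorem epi_of_affine_cover {A B : X.Modules} [B.IsQuasicoherent] (ψ : A ⟶ B)
    (𝒰 : Set X.Opens) (h𝒰 : ∀ U ∈ 𝒰, IsAffineOpen U) (hcov : ∀ x : X, ∃ U ∈ 𝒰, x ∈ U)
    (h : ∀ U ∈ 𝒰, Function.Surjective (ψ.app U)) : Epi ψ := by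
  apply Groth.Agent.Lib.Helper48.Conormal.epi_of_locally_surjective
  intro U t x hx
  obtain ⟨Ua, hUa, hxa⟩ := hcov x
  have hAff := h𝒰 Ua hUa
  obtain ⟨f, hfU, hxf⟩ := hAff.exists_basicOpen_le (V := U) ⟨x, hx⟩ hxa
  refine ⟨X.basicOpen f, hfU, hxf, ?_⟩
  obtain ⟨n, s, hs⟩ := (LocOn.of_isQuasicoherent B hAff).2 f
    (B.presheaf.map (homOfLE hfU).op t)
  obtain ⟨a, rfl⟩ := h Ua hUa s
  have hu : IsUnit ((X.presheaf.map (homOfLE (X.basicOpen_le f)).op f) ^ n) :=
    (isUnit_res_basicOpen f).pow n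
  obtain ⟨v, hv⟩ := hu.exists_left_inv
  refine ⟨v • A.presheaf.map (homOfLE (X.basicOpen_le f)).op a, ?_⟩
  have h1 := (appL ψ (X.basicOpen f)).map_smul v
    (A.presheaf.map (homOfLE (X.basicOpen_le f)).op a)
  have h2 := Groth.Agent.Lib.Helper2.KerSec.naturality_apply ψ (homOfLE (X.basicOpen_le f)) a
  change (ψ.app (X.basicOpen f)) (v • _) = _
  erw [h1]
  erw [h2, hs, smul_smul, hv, one_smul]


open Groth.Agent.Lib.Helper35.AbSheaf in
/-- a map of modules which is bijective on sections over all affine opens inside `T` is bijective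
on sections over `T` -/
theorem bijective_of_affine {A B : X.Modules} (φ : A ⟶ B) (T : X.Opens)
    (h : ∀ W : X.Opens, IsAffineOpen W → W ≤ T → Function.Bijective (φ.app W)) :
    Function.Bijective (φ.app T) := by
  have hnat : ∀ {U V : X.Opens} (hUV : U ≤ V) (s : Γ(A, V)),
      φ.app U (res A.presheaf hUV s) = res B.presheaf hUV (φ.app V s) := fun hUV s =>
    Groth.Agent.Lib.Helper2.KerSec.naturality_apply φ (homOfLE hUV) s
  have hcovT : ∀ T' : X.Opens, T' ≤ T → T' ≤ ⨆ W : {W : X.Opens // IsAffineOpen W ∧ W ≤ T'}, W.1 := by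
    intro T' _ x hx
    obtain ⟨_, ⟨W, hW : IsAffineOpen W, rfl⟩, hxW, hWT⟩ :=
      (X.isBasis_affineOpens).exists_subset_of_mem_open hx T'.isOpen
    exact Opens.mem_iSup.mpr ⟨⟨W, hW, hWT⟩, hxW⟩
  have hinj : ∀ T' : X.Opens, T' ≤ T → Function.Injective (φ.app T') := by
    intro T' hT' s s' hss
    refine ext_cover A.presheaf A.isSheaf (fun W : {W : X.Opens // IsAffineOpen W ∧ W ≤ T'} => W.1)
      (fun W => W.2.2) (hcovT T' hT') s s' (fun W => ?_)
    apply (h W.1 W.2.1 (W.2.2.trans hT')).1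
    rw [hnat, hnat, hss]
  refine ⟨hinj T le_rfl, ?_⟩
  intro b
  have hex : ∀ W : {W : X.Opens // IsAffineOpen W ∧ W ≤ T}, ∃ a : Γ(A, W.1),
      φ.app W.1 a = res B.presheaf W.2.2 b := fun W => (h W.1 W.2.1 W.2.2).2 _
  choose a ha using hex
  obtain ⟨s, hs⟩ := glue' A.presheaf A.isSheaf
    (fun W : {W : X.Opens // IsAffineOpen W ∧ W ≤ T} => W.1) (fun W => W.2.2) (hcovT T le_rfl) a (by
      intro W W'
      apply hinj (W.1 ⊓ W'.1) (inf_le_left.trans W.2.2)
      rw [hnat, hnat, ha, ha, Groth.Agent.Lib.Helper35.AbSheaf.res_res,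
        Groth.Agent.Lib.Helper35.AbSheaf.res_res])
  refine ⟨s, ?_⟩
  refine ext_cover B.presheaf B.isSheaf (fun W : {W : X.Opens // IsAffineOpen W ∧ W ≤ T} => W.1)
    (fun W => W.2.2) (hcovT T le_rfl) _ _ (fun W => ?_)
  rw [← hnat, hs, ha]

/-- finite presentation of the sections near every point of an open -/
def FPOn (H : X.Modules) (U : X.Opens) : Prop :=
  ∀ x ∈ U, ∃ W : X.Opens, IsAffineOpen W ∧ x ∈ W ∧ Module.FinitePresentation Γ(X, W) Γ(H, W)

theorem FPOn.sup {H : X.Modules} {U V : X.Opens} (hU : FPOn H U) (hV : FPOn H V) :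
    FPOn H (U ⊔ V) := by
  rintro x (hx | hx)
  · exact hU x hx
  · exact hV x hx

theorem FPOn.mono {H : X.Modules} {U V : X.Opens} (h : V ≤ U) (hU : FPOn H U) : FPOn H V :=
  fun x hx => hU x (h hx)

open Groth.Agent.Lib.Helper21.RelFPSch Groth.Agent.Lib.Helper2.FinTypeAff in
theorem FPOn.affine {H : X.Modules} [H.IsQuasicoherent] {U : X.Opens} (hH : FPOn H U)
    {W : X.Opens} (hW : IsAffineOpen W) (hWU : W ≤ U) :
    Module.FinitePresentation Γ(X, W) Γ(H, W) := by
  let s : Set Γ(X, W) :=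
    {a | Module.FinitePresentation Γ(X, X.basicOpen a) Γ(H, X.basicOpen a)}
  refine finitePresentation_of_basicOpen_cover H hW s ?_ (fun a ha => ha)
  rw [← hW.self_le_iSup_basicOpen_iff]
  intro x hx
  obtain ⟨V, hV, hxV, hfp⟩ := hH x (hWU hx)
  obtain ⟨a₀, a₁, ha, hxa, -⟩ := exists_common_basicOpen hW hV ⊤ x hx hxV trivial
  rw [Opens.mem_iSup]
  refine ⟨⟨a₀, ?_⟩, hxa⟩
  exact finitePresentation_congr H ha.symm (finitePresentation_basicOpen H hV a₁ hfp)

theorem FPOn.isFinitePresentation {H : X.Modules} [H.IsQuasicoherent] (hH : FPOn H ⊤) :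
    SheafOfModules.IsFinitePresentation (R := X.ringCatSheaf) H := by
  apply Groth.Agent.Lib.Helper2.FinLocFreeAff.isFinitePresentation_of_sections
  intro x
  obtain ⟨W, hW, hxW, hfp⟩ := hH x trivial
  exact ⟨W, hW, hxW, hfp⟩

theorem FPOn.of_isFinitePresentation {H : X.Modules}
    (hH : SheafOfModules.IsFinitePresentation (R := X.ringCatSheaf) H) (U : X.Opens) :
    FPOn H U := by
  intro x _
  obtain ⟨_, ⟨W, hW : IsAffineOpen W, rfl⟩, hxW, -⟩ :=
    (X.isBasis_affineOpens).exists_subset_of_mem_open (Set.mem_univ x) isOpen_univ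
  haveI := hH
  exact ⟨W, hW, hxW, Groth.Agent.Lib.Helper2.FinTypeAff.finitePresentation_sections H hW⟩

/-- transfer along a map bijective on sections over all opens inside `U` -/
theorem FPOn.of_bijective {H H' : X.Modules} [H.IsQuasicoherent] (p : H' ⟶ H) {U : X.Opens}
    (hp : ∀ W : X.Opens, W ≤ U → Function.Bijective (p.app W)) (hH : FPOn H U) : FPOn H' U := by
  intro x hx
  obtain ⟨_, ⟨W, hW : IsAffineOpen W, rfl⟩, hxW, hWU⟩ :=
    (X.isBasis_affineOpens).exists_subset_of_mem_open hx U.isOpen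
  haveI := hH.affine hW hWU
  refine ⟨W, hW, hxW, ?_⟩
  exact Module.FinitePresentation.of_equiv
    (LinearEquiv.ofBijective (appL p W) (hp W hWU)).symm

/-- a binary biproduct of finitely presented quasi-coherent modules is finitely presented -/
theorem isFinitePresentation_biprod (A B : X.Modules) [A.IsQuasicoherent] [B.IsQuasicoherent]
    (hA : SheafOfModules.IsFinitePresentation (R := X.ringCatSheaf) A)
    (hB : SheafOfModules.IsFinitePresentation (R := X.ringCatSheaf) B) :
    SheafOfModules.IsFinitePresentation (R := X.ringCatSheaf) (A ⊞ B : X.Modules) := by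
  haveI : (A ⊞ B).IsQuasicoherent := Groth.Agent.Lib.Helper2.KerSec.isQuasicoherent_biprod A B
  rw [Groth.Agent.Lib.Helper2.FinLocFreeAff.isFinitePresentation_iff_sections]
  intro U hU
  haveI := hA
  haveI := hB
  haveI : Module.FinitePresentation Γ(X, U) Γ(A, U) :=
    Groth.Agent.Lib.Helper2.FinTypeAff.finitePresentation_sections A hU
  haveI : Module.FinitePresentation Γ(X, U) Γ(B, U) :=
    Groth.Agent.Lib.Helper2.FinTypeAff.finitePresentation_sections B hU
  let f : (Γ(A, U) × Γ(B, U)) →ₗ[Γ(X, U)] Γ(A ⊞ B, U) :=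
    (appL (biprod.inl : A ⟶ A ⊞ B) U).coprod (appL (biprod.inr : B ⟶ A ⊞ B) U)
  have hsurj : Function.Surjective f := by
    intro s
    refine ⟨((biprod.fst : A ⊞ B ⟶ A).app U s, (biprod.snd : A ⊞ B ⟶ B).app U s), ?_⟩
    simp only [f, LinearMap.coprod_apply, appL_apply]
    exact Groth.Agent.Lib.Helper2.KerSec.biprod_total_apply A B U s
  have hinj : Function.Injective f := by
    intro ⟨a, b⟩ ⟨a', b'⟩ h
    simp only [f, LinearMap.coprod_apply, appL_apply] at h
    have h1 := congrArg (fun z => (biprod.fst : A ⊞ B ⟶ A).app U z) h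
    have h2 := congrArg (fun z => (biprod.snd : A ⊞ B ⟶ B).app U z) h
    simp only [map_add] at h1 h2
    have e1 : ∀ a : Γ(A, U), (biprod.fst : A ⊞ B ⟶ A).app U ((biprod.inl : A ⟶ A ⊞ B).app U a) = a :=
      fun a => congr($(congrArg (fun φ : A ⟶ A => φ.app U) (biprod.inl_fst (X := A) (Y := B))) a)
    have e2 : ∀ b : Γ(B, U), (biprod.fst : A ⊞ B ⟶ A).app U ((biprod.inr : B ⟶ A ⊞ B).app U b) = 0 :=
      fun b => congr($(congrArg (fun φ : B ⟶ A => φ.app U) (biprod.inr_fst (X := A) (Y := B))) b)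
    have e3 : ∀ a : Γ(A, U), (biprod.snd : A ⊞ B ⟶ B).app U ((biprod.inl : A ⟶ A ⊞ B).app U a) = 0 :=
      fun a => congr($(congrArg (fun φ : A ⟶ B => φ.app U) (biprod.inl_snd (X := A) (Y := B))) a)
    have e4 : ∀ b : Γ(B, U), (biprod.snd : A ⊞ B ⟶ B).app U ((biprod.inr : B ⟶ A ⊞ B).app U b) = b :=
      fun b => congr($(congrArg (fun φ : B ⟶ B => φ.app U) (biprod.inr_snd (X := A) (Y := B))) b)
    rw [e1, e1, e2, e2, add_zero, add_zero] at h1
    rw [e3, e3, e4, e4, zero_add, zero_add] at h2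
    rw [h1, h2]
  exact Module.FinitePresentation.of_equiv (LinearEquiv.ofBijective f ⟨hinj, hsurj⟩)

open Groth.Agent.Lib.Helper40.SSh Groth.Agent.Lib.Helper40.SSh.SubSh in
/-- restrictions of generators generate, for quasi-coherent modules and affine opens -/
theorem span_res_eq_top (F : X.Modules) [F.IsQuasicoherent] {V W : X.Opens} (hV : IsAffineOpen V)
    (hW : IsAffineOpen W) (h : W ≤ V) (S : Set Γ(F, V)) (hS : Submodule.span Γ(X, V) S = ⊤) :
    Groth.Agent.Lib.Helper40.SSh.ext S W h = ⊤ := by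
  rw [eq_top_iff]
  intro t _
  have ht : t ∈ (gen V S).obj W := by
    intro x hxW hxV
    obtain ⟨g, hgW, hxg⟩ := hV.exists_basicOpen_le (V := W) ⟨x, hxW⟩ hxV
    refine ⟨X.basicOpen g, hgW, X.basicOpen_le g, hxg, ?_⟩
    obtain ⟨n, m, hm⟩ := (LocOn.of_isQuasicoherent F hV).2 g (F.presheaf.map (homOfLE hgW).op t)
    have hu : IsUnit ((X.presheaf.map (homOfLE (X.basicOpen_le g)).op g) ^ n) :=
      (isUnit_res_basicOpen g).pow n
    obtain ⟨v, hv⟩ := hu.exists_left_inv
    have hmS : m ∈ Submodule.span Γ(X, V) S := hS ▸ Submodule.mem_top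
    have h1 := res_mem_span (X.basicOpen_le g) S hmS
    rw [hm] at h1
    have h2 := Submodule.smul_mem _ v h1
    rwa [smul_smul, hv, one_smul] at h2
  rw [gen_eq_gen_ext V S h le_rfl, gen_obj_self hW] at ht
  exact ht

theorem quasiCompact_ι_of_isCompact [QuasiSeparatedSpace X] (U : X.Opens)
    (hU : IsCompact (U : Set X)) : QuasiCompact U.ι := by
  constructor
  intro K hK hKc
  have h1 : IsCompact ((U : Set X) ∩ K) :=
    QuasiSeparatedSpace.inter_isCompact _ _ U.isOpen hU hK hKc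
  have h2 : (U.ι : U.toScheme → X) ⁻¹' K = (U.ι : U.toScheme → X) ⁻¹' ((U : Set X) ∩ K) := by
    ext y
    simp only [Set.mem_preimage, Set.mem_inter_iff, SetLike.mem_coe]
    constructor
    · intro hy
      exact ⟨y.2, hy⟩
    · exact fun hy => hy.2
  rw [h2]
  refine (U.ι.isOpenEmbedding.isInducing.isCompact_preimage_iff ?_).2 h1
  intro x hx
  exact ⟨⟨x, hx.1⟩, rfl⟩

open Groth.Agent.Lib.Helper40.SSh Groth.Agent.Lib.Helper40.SSh.SubSh in
/-- **EGA I 9.4.7 variant**: a quasi-coherent submodule of finite type which is everything over a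
quasi-compact open `U` (where `F` is of finite type) and contains given sections over an affine. -/
theorem exists_ft_sub [CompactSpace X] [QuasiSeparatedSpace X] (F : X.Modules) [F.IsQuasicoherent]
    (U : X.Opens) (hU : IsCompact (U : Set X))
    (hF : ∀ W : X.Opens, IsAffineOpen W → W ≤ U → Module.Finite Γ(X, W) Γ(F, W))
    {V : X.Opens} (hV : IsAffineOpen V) (M : Submodule Γ(X, V) Γ(F, V)) (hM : M.FG) :
    ∃ (G : X.Modules) (i : G ⟶ F), Mono i ∧ G.IsQuasicoherent ∧
      SheafOfModules.IsFiniteType (R := X.ringCatSheaf) G ∧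
      (∀ T : X.Opens, T ≤ U → Function.Surjective (i.app T)) ∧
      ∀ s ∈ M, ∃ g : Γ(G, V), i.app V g = s := by
  obtain ⟨n, Vc, hVc, hcov, hW⟩ := exists_fin_cover_qcqs X U hU
  let N0 : SubSh F := { obj := fun _ => ⊤, res_mem := fun _ _ _ => Submodule.mem_top }
  obtain ⟨G1, i1, hm1, hq1, hft1, hmem1⟩ := exists_extension_subSh Vc hVc hcov U hW F N0
    (fun _ _ _ => Submodule.mem_top) (fun _ _ _ => Submodule.mem_top)
    (fun V' hV'a hV' => ⟨fun f t _ => by
        obtain ⟨k, s, hs⟩ := (LocOn.of_isQuasicoherent F hV'a).2 f t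
        exact ⟨k, s, Submodule.mem_top, hs⟩,
      (hF V' hV'a hV').fg_top⟩)
  obtain ⟨G2, i2, hm2, hq2, hft2, hmem2⟩ := exists_ft_sub_of_fg_qcqs F hV M hM
  haveI := hm1
  haveI := hm2
  haveI := hq1
  haveI := hq2
  obtain ⟨E, j, hm, hq, hft, hA, hB⟩ := exists_sup i1 i2 hft1 hft2
  refine ⟨E, j, hm, hq, hft, ?_, ?_⟩
  · intro T hT s
    obtain ⟨g, hg⟩ := (hmem1 T hT s).1 Submodule.mem_top
    obtain ⟨e, he⟩ := hA T g
    exact ⟨e, he.trans hg⟩
  · intro s hs
    obtain ⟨g, hg⟩ := hmem2 s hs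
    obtain ⟨e, he⟩ := hB V g
    exact ⟨e, he.trans hg⟩

end Groth.Agent.Lib.Helper40.ExtFP
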