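import Groth.Agent.Lib.Helper40.ExtFP1
import Groth.Agent.Lib.Helper26.ModMV
import Groth.Agent.Lib.Helper35.GlobGen
import Groth.Agent.Lib.Helper2.LocFreeAff
import Groth.Agent.Lib.Helper40.QCohLim

set_option autoImplicit false
universe u

open AlgebraicGeometry CategoryTheory CategoryTheory.Limits Opposite TopologicalSpace

namespace Groth.Agent.Lib.Helper40.ExtFP

open Scheme.Modules Groth.Agent.Lib.Lead.QCohAff Groth.Agent.Lib.Lead.CohAff
  Groth.Agent.Lib.Helper21.QCohSections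

variable {X : Scheme.{u}}

/-- `M ↦ j_* j^* M` for the inclusion of the open `V₁` -/
noncomputable abbrev HV (V₁ : X.Opens) : X.Modules ⥤ X.Modules :=
  Groth.Agent.Lib.Helper26.ModMV.H V₁

/-- the unit `M ⟶ j_* j^* M` -/
noncomputable abbrev ηV (V₁ : X.Opens) (M : X.Modules) : M ⟶ (HV V₁).obj M :=
  (restrictAdjunction V₁.ι).unit.app M

theorem ηV_app (V₁ : X.Opens) (M : X.Modules) (T : X.Opens) :
    (ηV V₁ M).app T = M.presheaf.map (homOfLE (V₁.ι.image_preimage_le T)).op := rfl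

theorem HV_map_app (V₁ : X.Opens) {A B : X.Modules} (φ : A ⟶ B) (T : X.Opens) :
    ((HV V₁).map φ).app T = φ.app (V₁.ι ''ᵁ (V₁.ι ⁻¹ᵁ T)) := rfl

theorem ηV_naturality (V₁ : X.Opens) {A B : X.Modules} (φ : A ⟶ B) :
    ηV V₁ A ≫ (HV V₁).map φ = φ ≫ ηV V₁ B :=
  ((restrictAdjunction V₁.ι).unit.naturality φ).symm

theorem FW_eq_of_le (V₁ : X.Opens) {T : X.Opens} (hT : T ≤ V₁) :
    V₁.ι ''ᵁ (V₁.ι ⁻¹ᵁ T) = T := by
  ext x
  rw [SetLike.mem_coe, Groth.Agent.Lib.Helper26.ModMV.mem_FW]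
  exact ⟨fun h => h.2, fun h => ⟨hT h, h⟩⟩

theorem FW_le_inf (V₁ T : X.Opens) : V₁.ι ''ᵁ (V₁.ι ⁻¹ᵁ T) ≤ T ⊓ V₁ := by
  intro x hx
  have := (Groth.Agent.Lib.Helper26.ModMV.mem_FW V₁ T x).1 hx
  exact ⟨this.2, this.1⟩

theorem res_bijective_of_eq (M : X.Modules) {T T' : X.Opens} (h : T' = T) (hle : T' ≤ T) :
    Function.Bijective (M.presheaf.map (homOfLE hle).op) := by
  subst h
  have : (homOfLE hle).op = 𝟙 (op T') := rfl
  rw [this, M.presheaf.map_id]
  exact Function.bijective_id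

theorem ηV_app_bijective (V₁ : X.Opens) (M : X.Modules) {T : X.Opens} (hT : T ≤ V₁) :
    Function.Bijective ((ηV V₁ M).app T) := by
  rw [ηV_app]
  exact res_bijective_of_eq M (FW_eq_of_le V₁ hT) _

theorem isQuasicoherent_HV [QuasiSeparatedSpace X] (V₁ : X.Opens) (hV₁ : IsCompact (V₁ : Set X))
    (M : X.Modules) [M.IsQuasicoherent] : ((HV V₁).obj M).IsQuasicoherent := by
  haveI := quasiCompact_ι_of_isCompact V₁ hV₁
  exact Groth.Agent.Lib.Helper2.KerSec.isQuasicoherent_pushforward_of_qcqs V₁.ι _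

section PB

open Groth.Agent.Lib.Helper40.QCohLim

variable {P A B C : X.Modules} {p1 : P ⟶ A} {p2 : P ⟶ B} {f : A ⟶ C} {g : B ⟶ C}

theorem pb_fst_bijective (h : IsPullback p1 p2 f g) (W : X.Opens)
    (hg : Function.Bijective (g.app W)) : Function.Bijective (p1.app W) := by
  constructor
  · intro s s' hs
    refine pb_ext h W s s' hs (hg.1 ?_)
    have e : ∀ z : Γ(P, W), g.app W (p2.app W z) = f.app W (p1.app W z) := fun z =>
      (congr($(congrArg (fun φ : P ⟶ C => φ.app W) h.w) z)).symm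
    rw [e, e, hs]
  · intro a
    obtain ⟨b, hb⟩ := hg.2 (f.app W a)
    obtain ⟨s, hs, -⟩ := pb_exists h W a b hb.symm
    exact ⟨s, hs⟩

theorem pb_snd_bijective (h : IsPullback p1 p2 f g) (W : X.Opens)
    (hf : Function.Bijective (f.app W)) : Function.Bijective (p2.app W) :=
  pb_fst_bijective h.flip W hf

end PB

theorem isFinitePresentation_freeMod (X : Scheme.{u}) (n : ℕ) :
    SheafOfModules.IsFinitePresentation (R := X.ringCatSheaf) (FlatMod.freeMod X n) := by
  haveI := Groth.Agent.Lib.Helper2.LocFreeAff.freeMod_isQuasicoherent X n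
  rw [Groth.Agent.Lib.Helper2.FinLocFreeAff.isFinitePresentation_iff_sections]
  intro U hU
  obtain ⟨e⟩ := Groth.Agent.Lib.Helper2.LocFreeAff.nonempty_sections_freeMod_equiv X n hU
  exact Module.FinitePresentation.of_equiv e.symm

open Groth.Agent.Lib.Helper35.GlobGen Groth.Agent.Lib.Helper2.KerSec in
/-- **Local presentation lemma.** -/
theorem exists_fp_to [CompactSpace X] [QuasiSeparatedSpace X] (N : X.Modules) [N.IsQuasicoherent]
    (U' : X.Opens) (hU' : IsCompact (U' : Set X)) {V₁ : X.Opens} (hV₁ : IsAffineOpen V₁)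
    (hUV : U' ≤ V₁)
    (h1 : ∀ W : X.Opens, IsAffineOpen W → W ≤ U' → Module.FinitePresentation Γ(X, W) Γ(N, W))
    (h3 : Function.Surjective (N.presheaf.map (homOfLE (le_top : V₁ ≤ ⊤)).op))
    (M₀ : Submodule Γ(X, V₁) Γ(N, V₁)) (hM₀ : M₀.FG) :
    ∃ (Q : X.Modules) (ρ : Q ⟶ N), Q.IsQuasicoherent ∧
      SheafOfModules.IsFinitePresentation (R := X.ringCatSheaf) Q ∧
      (∀ T : X.Opens, T ≤ U' → Function.Bijective (ρ.app T)) ∧
      ∀ s ∈ M₀, ∃ q : Γ(Q, V₁), ρ.app V₁ q = s := by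
  obtain ⟨N', i', hmono, hq', hft', hsurj', hM'⟩ := exists_ft_sub N U' hU'
    (fun W hW hWU => by haveI := h1 W hW hWU; infer_instance) hV₁ M₀ hM₀
  haveI := hq'
  haveI : Module.Finite Γ(X, V₁) Γ(N', V₁) := finite_sections_of_isFiniteType N' hft' hV₁
  obtain ⟨r, g, hg⟩ := Module.Finite.exists_fin (R := Γ(X, V₁)) (M := Γ(N', V₁))
  have hex : ∀ l : Fin r, ∃ nl : Γ(N, ⊤),
      N.presheaf.map (homOfLE (le_top : V₁ ≤ ⊤)).op nl = i'.app V₁ (g l) := fun l => h3 _
  choose nt hnt using hex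
  let Fr : X.Modules := FlatMod.freeMod X r
  haveI hFq : Fr.IsQuasicoherent := Groth.Agent.Lib.Helper2.LocFreeAff.freeMod_isQuasicoherent X r
  have hFfp : SheafOfModules.IsFinitePresentation (R := X.ringCatSheaf) Fr :=
    isFinitePresentation_freeMod X r
  let α : Fr ⟶ N := Sigma.desc (fun l : Fin r => secHom N (nt l))
  have hα : ∀ (W : X.Opens) (l : Fin r), ∃ e : Γ(Fr, W),
      α.app W e = N.presheaf.map (homOfLE (le_top : W ≤ ⊤)).op (nt l) := by
    intro W l
    refine ⟨(Sigma.ι (fun _ : Fin r => Coh.structureModule X) l).app W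
      (show Γ(Coh.structureModule X, W) from (1 : Γ(X, W))), ?_⟩
    have e1 : Sigma.ι (fun _ : Fin r => Coh.structureModule X) l ≫ α = secHom N (nt l) :=
      Sigma.ι_desc _ _
    have e2 := congrArg (fun φ : Coh.structureModule X ⟶ N =>
      (Scheme.Modules.Hom.app φ W).hom (show Γ(Coh.structureModule X, W) from (1 : Γ(X, W)))) e1
    exact e2.trans (secHom_app_one N (nt l) W)
  have hIm : ∀ W : X.Opens, IsAffineOpen W → W ≤ V₁ → ∀ n' : Γ(N', W),
      ∃ e : Γ(Fr, W), α.app W e = i'.app W n' := by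
    intro W hWa hW n'
    have hspan := span_res_eq_top N' hV₁ hWa hW (Set.range g) hg
    have hn' : n' ∈ Groth.Agent.Lib.Helper40.SSh.ext (Set.range g) W hW :=
      hspan ▸ Submodule.mem_top
    unfold Groth.Agent.Lib.Helper40.SSh.ext at hn'
    induction hn' using Submodule.span_induction with
    | mem z hz =>
      obtain ⟨_, ⟨l, rfl⟩, rfl⟩ := hz
      obtain ⟨e, he⟩ := hα W l
      refine ⟨e, he.trans ?_⟩
      have := naturality_apply i' (homOfLE hW) (g l)
      erw [this, ← hnt l, res_res]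
    | zero => exact ⟨0, by rw [map_zero, map_zero]⟩
    | add a b _ _ ha hb =>
      obtain ⟨ea, hea⟩ := ha
      obtain ⟨eb, heb⟩ := hb
      exact ⟨ea + eb, by rw [map_add, map_add, hea, heb]⟩
    | smul c a _ ha =>
      obtain ⟨ea, hea⟩ := ha
      refine ⟨c • ea, ?_⟩
      have e1 := (appL α W).map_smul c ea
      have e2 := (appL i' W).map_smul c a
      simp only [appL_apply] at e1 e2
      rw [e1, e2, hea]
  -- the kernel
  let K : X.Modules := kernel α
  haveI hKq : K.IsQuasicoherent :=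
    Groth.Agent.Lib.Helper21.QCohKernel.isQuasicoherent_kernel α
  have hαsurj : ∀ W : X.Opens, IsAffineOpen W → W ≤ U' → Function.Surjective (α.app W) := by
    intro W hWa hWU n
    obtain ⟨n', hn'⟩ := hsurj' W hWU n
    obtain ⟨e, he⟩ := hIm W hWa (hWU.trans hUV) n'
    exact ⟨e, he.trans hn'⟩
  have hKfin : ∀ W : X.Opens, IsAffineOpen W → W ≤ U' → Module.Finite Γ(X, W) Γ(K, W) := by
    intro W hWa hWU
    haveI := h1 W hWa hWU
    haveI := hFfp
    haveI : Module.FinitePresentation Γ(X, W) Γ(Fr, W) :=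
      Groth.Agent.Lib.Helper2.FinTypeAff.finitePresentation_sections Fr hWa
    have hker : (LinearMap.ker (appL α W)).FG :=
      Module.FinitePresentation.fg_ker (appL α W) (hαsurj W hWa hWU)
    rw [Module.finite_def]
    apply Submodule.fg_of_fg_map_injective (appL (kernel.ι α) W) (app_kernelι_injective α W)
    have : Submodule.map (appL (kernel.ι α) W) ⊤ = LinearMap.ker (appL α W) := by
      ext s
      simp only [Submodule.map_top, LinearMap.mem_range, LinearMap.mem_ker, appL_apply]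
      constructor
      · rintro ⟨t, rfl⟩
        exact app_kernelι_comp α W t
      · intro hs
        exact exists_of_app_eq_zero α W s hs
    rw [this]
    exact hker
  obtain ⟨K', κ', hmonoK, hqK', hftK', hsurjK', -⟩ := exists_ft_sub K U' hU' hKfin
    (isAffineOpen_bot X) ⊥ Submodule.fg_bot
  haveI := hqK'
  let i₀ : K' ⟶ Fr := κ' ≫ kernel.ι α
  let Q : X.Modules := cokernel i₀
  haveI hQq : Q.IsQuasicoherent :=
    Groth.Agent.Lib.Helper21.QCohKernel.isQuasicoherent_cokernel i₀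
  have hQfp : SheafOfModules.IsFinitePresentation (R := X.ringCatSheaf) Q :=
    isFinitePresentation_cokernel i₀ hftK' hFfp
  have hi₀α : i₀ ≫ α = 0 := by
    simp only [i₀, Category.assoc, kernel.condition, comp_zero]
  let ρ : Q ⟶ N := cokernel.desc i₀ α hi₀α
  have hπρ : cokernel.π i₀ ≫ ρ = α := cokernel.π_desc _ _ _
  have hπρ' : ∀ (W : X.Opens) (e : Γ(Fr, W)), ρ.app W ((cokernel.π i₀).app W e) = α.app W e :=
    fun W e => congr($(congrArg (fun φ : Fr ⟶ N => φ.app W) hπρ) e)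
  refine ⟨Q, ρ, hQq, hQfp, ?_, ?_⟩
  · intro T hT
    apply bijective_of_affine
    intro W hWa hWT
    have hWU := hWT.trans hT
    have hπsurj : Function.Surjective ((cokernel.π i₀).app W) :=
      app_surjective_of_epi (cokernel.π i₀) hWa
    constructor
    · rw [injective_iff_map_eq_zero]
      intro q hq
      obtain ⟨e, rfl⟩ := hπsurj q
      rw [hπρ'] at hq
      obtain ⟨k, hk⟩ := exists_of_app_eq_zero α W e hq
      obtain ⟨k', hk'⟩ := hsurjK' W hWU k
      have h5 : i₀.app W k' = e := by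
        change (kernel.ι α).app W (κ'.app W k') = e
        rw [hk', hk]
      rw [← h5]
      exact congr($(congrArg (fun φ : K' ⟶ Q => φ.app W) (cokernel.condition i₀)) k')
    · intro n
      obtain ⟨e, he⟩ := hαsurj W hWa hWU n
      exact ⟨(cokernel.π i₀).app W e, (hπρ' W e).trans he⟩
  · intro s hs
    obtain ⟨n', hn'⟩ := hM' s hs
    obtain ⟨e, he⟩ := hIm V₁ hV₁ le_rfl n'
    exact ⟨(cokernel.π i₀).app V₁ e, (hπρ' V₁ e).trans (he.trans hn')⟩

open Groth.Agent.Lib.Helper40.QCohLim in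
/-- **Extension step**: make `Hm` finitely presented over one more affine open, without changing
it over `X'`. -/
theorem exists_step [CompactSpace X] [QuasiSeparatedSpace X] (Hm : X.Modules) [Hm.IsQuasicoherent]
    (X' : X.Opens) (hX' : IsCompact (X' : Set X)) (hfp : FPOn Hm X') {V₁ : X.Opens}
    (hV₁ : IsAffineOpen V₁) (M : Submodule Γ(X, V₁) Γ(Hm, V₁)) (hM : M.FG) :
    ∃ (H₂ : X.Modules) (p : H₂ ⟶ Hm), H₂.IsQuasicoherent ∧
      (∀ W : X.Opens, W ≤ X' → Function.Bijective (p.app W)) ∧ FPOn H₂ (X' ⊔ V₁) ∧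
      ∀ s ∈ M, ∃ t : Γ(H₂, V₁), p.app V₁ t = s := by
  let N : X.Modules := (HV V₁).obj Hm
  haveI hNq : N.IsQuasicoherent := isQuasicoherent_HV V₁ hV₁.isCompact Hm
  let U' : X.Opens := X' ⊓ V₁
  have hU' : IsCompact (U' : Set X) :=
    QuasiSeparatedSpace.inter_isCompact _ _ X'.isOpen hX' V₁.isOpen hV₁.isCompact
  have h1 : ∀ W : X.Opens, IsAffineOpen W → W ≤ U' →
      Module.FinitePresentation Γ(X, W) Γ(N, W) := by
    intro W hWa hWU
    haveI := hfp.affine hWa (hWU.trans inf_le_left)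
    exact Module.FinitePresentation.of_equiv (LinearEquiv.ofBijective (appL (ηV V₁ Hm) W)
      (ηV_app_bijective V₁ Hm (hWU.trans inf_le_right)))
  have hFWtop : V₁.ι ''ᵁ (V₁.ι ⁻¹ᵁ V₁) = V₁.ι ''ᵁ (V₁.ι ⁻¹ᵁ ⊤) := by
    ext x
    rw [SetLike.mem_coe, SetLike.mem_coe, Groth.Agent.Lib.Helper26.ModMV.mem_FW,
      Groth.Agent.Lib.Helper26.ModMV.mem_FW]
    exact ⟨fun h => ⟨h.1, trivial⟩, fun h => ⟨h.1, h.1⟩⟩
  have h3 : Function.Surjective (N.presheaf.map (homOfLE (le_top : V₁ ≤ ⊤)).op) :=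
    (res_bijective_of_eq Hm hFWtop
      (Groth.Agent.Lib.Helper26.ModMV.le_FW le_rfl _ |>.trans
        (V₁.ι.image_mono (V₁.ι.preimage_mono le_top)))).2
  obtain ⟨Q, ρ, hQq, hQfp, hρbij, hρM⟩ := exists_fp_to N U' hU' hV₁ inf_le_right h1 h3
    (M.map (appL (ηV V₁ Hm) V₁)) (hM.map _)
  haveI := hQq
  let NN : X.Modules := (HV V₁).obj N
  let QQ : X.Modules := (HV V₁).obj Q
  haveI : NN.IsQuasicoherent := isQuasicoherent_HV V₁ hV₁.isCompact N
  haveI : QQ.IsQuasicoherent := isQuasicoherent_HV V₁ hV₁.isCompact Q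
  let ζ : Hm ⟶ NN := ηV V₁ Hm ≫ ηV V₁ N
  let ρt : QQ ⟶ NN := (HV V₁).map ρ
  have hpb : IsPullback (pullback.fst ζ ρt) (pullback.snd ζ ρt) ζ ρt := IsPullback.of_hasPullback _ _
  haveI hH₂q : (pullback ζ ρt).IsQuasicoherent := isQuasicoherent_of_isPullback hpb
  have ha : ∀ W : X.Opens, W ≤ X' → Function.Bijective ((pullback.fst ζ ρt).app W) := by
    intro W hW
    apply pb_fst_bijective hpb W
    rw [HV_map_app]
    exact hρbij _ ((FW_le_inf V₁ W).trans (inf_le_inf_right _ hW))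
  have hζ : Function.Bijective (ζ.app V₁) := by
    have : ζ.app V₁ = (ηV V₁ Hm).app V₁ ≫ (ηV V₁ N).app V₁ := rfl
    rw [this]
    exact (ηV_app_bijective V₁ N le_rfl).comp (ηV_app_bijective V₁ Hm le_rfl)
  refine ⟨pullback ζ ρt, pullback.fst ζ ρt, hH₂q, ha, ?_, ?_⟩
  · refine (FPOn.of_bijective (pullback.fst ζ ρt) ha hfp).sup ?_
    intro x hx
    refine ⟨V₁, hV₁, hx, ?_⟩
    have h2 : Function.Bijective ((pullback.snd ζ ρt).app V₁) := pb_snd_bijective hpb V₁ hζ
    have h4 : Function.Bijective ((ηV V₁ Q).app V₁) := ηV_app_bijective V₁ Q le_rfl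
    haveI := hQfp
    haveI : Module.FinitePresentation Γ(X, V₁) Γ(Q, V₁) :=
      Groth.Agent.Lib.Helper2.FinTypeAff.finitePresentation_sections Q hV₁
    haveI : Module.FinitePresentation Γ(X, V₁) Γ(QQ, V₁) :=
      Module.FinitePresentation.of_equiv (LinearEquiv.ofBijective (appL (ηV V₁ Q) V₁) h4)
    exact Module.FinitePresentation.of_equiv
      (LinearEquiv.ofBijective (appL (pullback.snd ζ ρt) V₁) h2).symm
  · intro s hs
    obtain ⟨q, hq⟩ := hρM _ (Submodule.mem_map_of_mem hs)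
    have hnat := ηV_naturality V₁ ρ
    have hab : ζ.app V₁ s = ρt.app V₁ ((ηV V₁ Q).app V₁ q) := by
      have e1 : ρt.app V₁ ((ηV V₁ Q).app V₁ q) = (ηV V₁ N).app V₁ (ρ.app V₁ q) :=
        congr($(congrArg (fun φ : Q ⟶ NN => φ.app V₁) hnat) q)
      rw [e1, hq]
      rfl
    obtain ⟨t, ht, -⟩ := pb_exists hpb V₁ s _ hab
    exact ⟨t, ht⟩

end Groth.Agent.Lib.Helper40.ExtFP
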