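import Groth.Agent.Lib.Helper40.ExtFP2

set_option autoImplicit false
universe u

open AlgebraicGeometry CategoryTheory CategoryTheory.Limits Opposite TopologicalSpace

namespace Groth.Agent.Lib.Helper40.ExtFP

open Scheme.Modules Groth.Agent.Lib.Lead.QCohAff Groth.Agent.Lib.Lead.CohAff
  Groth.Agent.Lib.Helper21.QCohSections

variable {X : Scheme.{u}}

/-- iterate the extension step over a list of affine opens -/
theorem exists_fp_over_list [CompactSpace X] [QuasiSeparatedSpace X] :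
    ∀ (L : List X.affineOpens) (X' : X.Opens) (_ : IsCompact (X' : Set X)) (Hm : X.Modules)
      (_ : Hm.IsQuasicoherent) (_ : FPOn Hm X'),
    ∃ (H₂ : X.Modules) (p : H₂ ⟶ Hm), H₂.IsQuasicoherent ∧
      (∀ W : X.Opens, W ≤ X' → Function.Bijective (p.app W)) ∧
      ∀ Y : X.Opens, (∀ x ∈ Y, x ∈ X' ∨ ∃ V ∈ L, x ∈ V.1) → FPOn H₂ Y := by
  intro L
  induction L with
  | nil =>
    intro X' _ Hm hq hfp
    refine ⟨Hm, 𝟙 Hm, hq, fun W _ => ?_, fun Y hY => ?_⟩
    · rw [Hom.id_app]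
      exact Function.bijective_id
    · refine hfp.mono ?_
      intro x hx
      rcases hY x hx with h | ⟨V, hV, -⟩
      · exact h
      · simp at hV
  | cons V L ih =>
    intro X' hX' Hm hq hfp
    haveI := hq
    obtain ⟨H₁, p₁, hq₁, hb₁, hfp₁, -⟩ := exists_step Hm X' hX' hfp V.2 ⊥ Submodule.fg_bot
    have hX'' : IsCompact ((X' ⊔ V.1 : X.Opens) : Set X) := by
      rw [Opens.coe_sup]
      exact hX'.union V.2.isCompact
    obtain ⟨H₂, p₂, hq₂, hb₂, hfp₂⟩ := ih (X' ⊔ V.1) hX'' H₁ hq₁ hfp₁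
    refine ⟨H₂, p₂ ≫ p₁, hq₂, fun W hW => ?_, fun Y hY => ?_⟩
    · rw [Hom.comp_app]
      exact (hb₁ W hW).comp (hb₂ W (hW.trans le_sup_left))
    · apply hfp₂ Y
      intro x hx
      rcases hY x hx with h | ⟨V', hV', hxV'⟩
      · exact Or.inl (Or.inl h)
      · rcases List.mem_cons.1 hV' with rfl | h
        · exact Or.inl (Or.inr hxV')
        · exact Or.inr ⟨V', h, hxV'⟩

/-- **Extension lemma.** On a qcqs scheme, finitely many sections of a quasi-coherent module over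
an affine open are hit by a map from a finitely presented quasi-coherent module. -/
theorem exists_fp_hitting [CompactSpace X] [QuasiSeparatedSpace X] (F : X.Modules)
    [F.IsQuasicoherent] {V : X.Opens} (hV : IsAffineOpen V) (M : Submodule Γ(X, V) Γ(F, V))
    (hM : M.FG) :
    ∃ (P : X.Modules) (φ : P ⟶ F), P.IsQuasicoherent ∧
      SheafOfModules.IsFinitePresentation (R := X.ringCatSheaf) P ∧
      ∀ s ∈ M, ∃ t : Γ(P, V), φ.app V t = s := by
  have hbot : IsCompact ((⊥ : X.Opens) : Set X) := by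
    rw [Opens.coe_bot]
    exact isCompact_empty
  obtain ⟨H₁, p₁, hq₁, -, hfp₁, hs₁⟩ := exists_step F ⊥ hbot (fun x hx => hx.elim) hV M hM
  have hX'' : IsCompact ((⊥ ⊔ V : X.Opens) : Set X) := by
    rw [Opens.coe_sup]
    exact hbot.union hV.isCompact
  obtain ⟨s, hsfin, hs⟩ := (isCompact_iff_finite_and_eq_biUnion_affineOpens (U := (⊤ : X.Opens))).1
    (by rw [Opens.coe_top]; exact isCompact_univ)
  obtain ⟨H₂, p₂, hq₂, hb₂, hfp₂⟩ := exists_fp_over_list hsfin.toFinset.toList (⊥ ⊔ V) hX'' H₁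
    hq₁ hfp₁
  haveI := hq₂
  refine ⟨H₂, p₂ ≫ p₁, hq₂, ?_, ?_⟩
  · apply FPOn.isFinitePresentation
    apply hfp₂ ⊤
    intro x _
    have hx : x ∈ (⊤ : X.Opens) := trivial
    rw [hs] at hx
    simp only [Opens.mem_iSup] at hx
    obtain ⟨W, hWs, hxW⟩ := hx
    exact Or.inr ⟨W, by simpa using hWs, hxW⟩
  · intro s' hs'
    obtain ⟨t₁, ht₁⟩ := hs₁ s' hs'
    obtain ⟨t₂, ht₂⟩ := (hb₂ V le_sup_right).2 t₁
    refine ⟨t₂, ?_⟩
    rw [Hom.comp_app]
    change p₁.app V (p₂.app V t₂) = s'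
    rw [ht₂, ht₁]

/-- the extension lemma for finitely many sections over various affine opens -/
theorem exists_fp_hitting_finset [CompactSpace X] [QuasiSeparatedSpace X] (F : X.Modules)
    [F.IsQuasicoherent] (S : Finset (Σ V : X.affineOpens, Γ(F, V.1))) :
    ∃ (P : X.Modules) (φ : P ⟶ F), P.IsQuasicoherent ∧
      SheafOfModules.IsFinitePresentation (R := X.ringCatSheaf) P ∧
      ∀ a ∈ S, ∃ t : Γ(P, a.1.1), φ.app a.1.1 t = a.2 := by
  classical
  induction S using Finset.induction_on with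
  | empty =>
    obtain ⟨P, φ, hq, hfp, -⟩ := exists_fp_hitting F (isAffineOpen_bot X) ⊥ Submodule.fg_bot
    exact ⟨P, φ, hq, hfp, fun a ha => by simp at ha⟩
  | insert a S ha ih =>
    obtain ⟨P, φ, hq, hfp, h⟩ := ih
    obtain ⟨P', φ', hq', hfp', h'⟩ := exists_fp_hitting F a.1.2
      (Submodule.span Γ(X, a.1.1) {a.2}) (Submodule.fg_span_singleton _)
    haveI := hq
    haveI := hq'
    refine ⟨(P ⊞ P' : X.Modules), biprod.desc φ φ',
      Groth.Agent.Lib.Helper2.KerSec.isQuasicoherent_biprod P P',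
      isFinitePresentation_biprod P P' hfp hfp', ?_⟩
    intro b hb
    rcases Finset.mem_insert.1 hb with rfl | hb
    · obtain ⟨t', ht'⟩ := h' b.2 (Submodule.subset_span rfl)
      refine ⟨(biprod.inr : P' ⟶ P ⊞ P').app b.1.1 t', ?_⟩
      have e : (biprod.inr : P' ⟶ P ⊞ P') ≫ biprod.desc φ φ' = φ' := biprod.inr_desc _ _
      exact (congr($(congrArg (fun ψ : P' ⟶ F => ψ.app b.1.1) e) t')).trans ht'
    · obtain ⟨t, ht⟩ := h b hb
      refine ⟨(biprod.inl : P ⟶ P ⊞ P').app b.1.1 t, ?_⟩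
      have e : (biprod.inl : P ⟶ P ⊞ P') ≫ biprod.desc φ φ' = φ := biprod.inl_desc _ _
      exact (congr($(congrArg (fun ψ : P ⟶ F => ψ.app b.1.1) e) t)).trans ht

/-- **EGA I 9.4.? (KL)**: on a qcqs scheme a quasi-coherent module of finite type is a quotient of
a finitely presented one; relative form for an affine morphism to a qcqs scheme. -/
theorem exists_fp_pullback_epi {S S₀ : Scheme.{u}} (f : S ⟶ S₀) [IsAffineHom f]
    [CompactSpace S₀] [QuasiSeparatedSpace S₀] (K : S.Modules) [K.IsQuasicoherent]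
    (hK : SheafOfModules.IsFiniteType (R := S.ringCatSheaf) K) :
    ∃ (F₁ : S₀.Modules) (ψ : (Scheme.Modules.pullback f).obj F₁ ⟶ K), F₁.IsQuasicoherent ∧
      SheafOfModules.IsFinitePresentation (R := S₀.ringCatSheaf) F₁ ∧ Epi ψ := by
  classical
  let N : S₀.Modules := (pushforward f).obj K
  haveI : N.IsQuasicoherent := inferInstance
  obtain ⟨s, hsfin, hs⟩ := (isCompact_iff_finite_and_eq_biUnion_affineOpens
    (U := (⊤ : S₀.Opens))).1 (by rw [Opens.coe_top]; exact isCompact_univ)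
  have hex : ∀ V : S₀.affineOpens, ∃ G : Finset Γ(K, f ⁻¹ᵁ V.1),
      Submodule.span Γ(S, f ⁻¹ᵁ V.1) (G : Set Γ(K, f ⁻¹ᵁ V.1)) = ⊤ := fun V =>
    (finite_sections_of_isFiniteType K hK (V.2.preimage f)).fg_top
  choose G hG using hex
  let G' : ∀ V : S₀.affineOpens, Finset Γ(N, V.1) := G
  let Sf : Finset (Σ V : S₀.affineOpens, Γ(N, V.1)) :=
    hsfin.toFinset.biUnion (fun V => (G' V).image (fun g => ⟨V, g⟩))
  obtain ⟨F₁, φ, hq, hfp, h⟩ := exists_fp_hitting_finset N Sf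
  let adj := pullbackPushforwardAdjunction f
  let ψ : (Scheme.Modules.pullback f).obj F₁ ⟶ K := (adj.homEquiv F₁ K).symm φ
  have hφ : φ = adj.unit.app F₁ ≫ (pushforward f).map ψ := by
    have := (adj.homEquiv F₁ K).apply_symm_apply φ
    rw [Adjunction.homEquiv_unit] at this
    exact this.symm
  refine ⟨F₁, ψ, hq, hfp, ?_⟩
  apply epi_of_affine_cover ψ {W | ∃ V ∈ s, W = f ⁻¹ᵁ (V : S₀.affineOpens).1}
  · rintro _ ⟨V, _, rfl⟩
    exact V.2.preimage f
  · intro x
    have hx : f x ∈ (⊤ : S₀.Opens) := trivial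
    rw [hs] at hx
    simp only [Opens.mem_iSup] at hx
    obtain ⟨W, hWs, hxW⟩ := hx
    exact ⟨f ⁻¹ᵁ W.1, ⟨W, hWs, rfl⟩, hxW⟩
  · rintro _ ⟨V, hV, rfl⟩
    have hle : (⊤ : Submodule Γ(S, f ⁻¹ᵁ V.1) Γ(K, f ⁻¹ᵁ V.1)) ≤
        LinearMap.range (appL ψ (f ⁻¹ᵁ V.1)) := by
      rw [← hG V, Submodule.span_le]
      intro g hg
      have hmem : (⟨V, g⟩ : Σ V : S₀.affineOpens, Γ(N, V.1)) ∈ Sf := by
        rw [Finset.mem_biUnion]
        exact ⟨V, by simpa using hV, Finset.mem_image.2 ⟨g, hg, rfl⟩⟩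
      obtain ⟨t, ht⟩ := h _ hmem
      refine ⟨(adj.unit.app F₁).app V.1 t, ?_⟩
      have := congr($(congrArg (fun χ : F₁ ⟶ N => χ.app V.1) hφ) t)
      exact this.symm.trans ht
    intro k
    obtain ⟨t, ht⟩ := hle (Submodule.mem_top (x := k))
    exact ⟨t, ht⟩

/-- **KL**: on a qcqs scheme a quasi-coherent module of finite type is a quotient of a finitely
presented quasi-coherent module. -/
theorem exists_fp_epi [CompactSpace X] [QuasiSeparatedSpace X] (F : X.Modules)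
    [F.IsQuasicoherent] (hF : SheafOfModules.IsFiniteType (R := X.ringCatSheaf) F) :
    ∃ (P : X.Modules) (φ : P ⟶ F), P.IsQuasicoherent ∧
      SheafOfModules.IsFinitePresentation (R := X.ringCatSheaf) P ∧ Epi φ := by
  classical
  obtain ⟨s, hsfin, hs⟩ := (isCompact_iff_finite_and_eq_biUnion_affineOpens
    (U := (⊤ : X.Opens))).1 (by rw [Opens.coe_top]; exact isCompact_univ)
  have hex : ∀ V : X.affineOpens, ∃ G : Finset Γ(F, V.1),
      Submodule.span Γ(X, V.1) (G : Set Γ(F, V.1)) = ⊤ := fun V =>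
    (finite_sections_of_isFiniteType F hF V.2).fg_top
  choose G hG using hex
  let Sf : Finset (Σ V : X.affineOpens, Γ(F, V.1)) :=
    hsfin.toFinset.biUnion (fun V => (G V).image (fun g => ⟨V, g⟩))
  obtain ⟨P, φ, hq, hfp, h⟩ := exists_fp_hitting_finset F Sf
  refine ⟨P, φ, hq, hfp, ?_⟩
  apply epi_of_affine_cover φ {W | ∃ V ∈ s, W = (V : X.affineOpens).1}
  · rintro _ ⟨V, _, rfl⟩
    exact V.2
  · intro x
    have hx : x ∈ (⊤ : X.Opens) := trivial
    rw [hs] at hx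
    simp only [Opens.mem_iSup] at hx
    obtain ⟨W, hWs, hxW⟩ := hx
    exact ⟨W.1, ⟨W, hWs, rfl⟩, hxW⟩
  · rintro _ ⟨V, hV, rfl⟩
    have hle : (⊤ : Submodule Γ(X, V.1) Γ(F, V.1)) ≤ LinearMap.range (appL φ V.1) := by
      rw [← hG V, Submodule.span_le]
      intro g hg
      have hmem : (⟨V, g⟩ : Σ V : X.affineOpens, Γ(F, V.1)) ∈ Sf := by
        rw [Finset.mem_biUnion]
        exact ⟨V, by simpa using hV, Finset.mem_image.2 ⟨g, hg, rfl⟩⟩
      obtain ⟨t, ht⟩ := h _ hmem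
      exact ⟨t, ht⟩
    intro k
    obtain ⟨t, ht⟩ := hle (Submodule.mem_top (x := k))
    exact ⟨t, ht⟩

end Groth.Agent.Lib.Helper40.ExtFP
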