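import Groth.Agent.Lib.Helper21.FlatPullMono
import Groth.Agent.Lib.Helper21.Devissage
import Groth.Agent.Lib.Helper21.StalkBiprod
import Groth.Agent.Lib.Helper21.QCohKernel
import Groth.Agent.Lib.Lead.PullbackAff6

set_option autoImplicit false
universe u

open AlgebraicGeometry CategoryTheory CategoryTheory.Limits TensorProduct

namespace Groth.Agent.Lib.Helper40.FFDescent

open Groth.Agent.Lib.Lead

/-- Faithful flatness of a flat morphism at a point: if `h^* K = 0` then `K_{h y'} = 0`. -/
theorem subsingleton_stalk_of_isZero_pullback {Y' Y : Scheme.{u}} (h : Y' ⟶ Y) [Flat h]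
    (K : Y.Modules) [K.IsQuasicoherent] (y' : Y')
    (hz : IsZero ((Scheme.Modules.pullback h).obj K)) :
    Subsingleton (K.presheaf.stalk (h y')) := by
  letI := (h.stalkMap y').hom.toAlgebra
  obtain ⟨e⟩ := PullbackAff.nonempty_stalk_pullback_equiv h K y'
  haveI : Subsingleton (((Scheme.Modules.pullback h).obj K).presheaf.stalk y') :=
    Groth.Agent.Lib.Helper21.StalkBiprod.subsingleton_stalk_of_isZero hz y'
  haveI : Subsingleton (Y'.presheaf.stalk y' ⊗[Y.presheaf.stalk (h y')] K.presheaf.stalk (h y')) :=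
    e.symm.toEquiv.subsingleton
  haveI : Module.FaithfullyFlat (Y.presheaf.stalk (h y')) (Y'.presheaf.stalk y') :=
    @Module.FaithfullyFlat.of_flat_of_isLocalHom _ _ _ _ _ _ _
      (Flat.stalkMap h y') (h.toLRSHom.prop y')
  exact Module.FaithfullyFlat.lTensor_reflects_triviality (Y.presheaf.stalk (h y'))
    (Y'.presheaf.stalk y') _

/-- A quasi-coherent module that is killed by a jointly surjective family of flat pullbacks
is zero. -/
theorem isZero_of_flat_cover {Y : Scheme.{u}} (K : Y.Modules) [K.IsQuasicoherent]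
    (hK : ∀ y : Y, ∃ (Y' : Scheme.{u}) (h : Y' ⟶ Y) (_ : Flat h) (y' : Y'), h y' = y ∧
      IsZero ((Scheme.Modules.pullback h).obj K)) : IsZero K := by
  apply Groth.Agent.Lib.Helper21.Devissage.isZero_of_support_eq_empty
  rw [Set.eq_empty_iff_forall_notMem]
  intro y hy
  obtain ⟨Y', h, _, y', rfl, hz⟩ := hK y
  exact hy (subsingleton_stalk_of_isZero_pullback h K y' hz)

section

variable {Y : Scheme.{u}} {F G : Y.Modules} (v : F ⟶ G)

instance preservesEpi_pullback {Y' : Scheme.{u}} (h : Y' ⟶ Y) :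
    (Scheme.Modules.pullback h).PreservesEpimorphisms :=
  Functor.preservesEpimorphisms_of_adjunction (Scheme.Modules.pullbackPushforwardAdjunction h)

theorem isZero_pullback_cokernel_of_epi {Y' : Scheme.{u}} (h : Y' ⟶ Y)
    (hv : Epi ((Scheme.Modules.pullback h).map v)) :
    IsZero ((Scheme.Modules.pullback h).obj (cokernel v)) := by
  have h0 : (Scheme.Modules.pullback h).map v ≫ (Scheme.Modules.pullback h).map (cokernel.π v) = 0 := by
    rw [← Functor.map_comp, cokernel.condition, Functor.map_zero]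
  have h1 : (Scheme.Modules.pullback h).map (cokernel.π v) = 0 := by
    rw [← cancel_epi ((Scheme.Modules.pullback h).map v), h0, comp_zero]
  exact IsZero.of_epi_eq_zero _ h1

theorem isZero_pullback_kernel_of_mono [F.IsQuasicoherent] [G.IsQuasicoherent] {Y' : Scheme.{u}} (h : Y' ⟶ Y) [Flat h]
    (hv : Mono ((Scheme.Modules.pullback h).map v)) :
    IsZero ((Scheme.Modules.pullback h).obj (kernel v)) := by
  haveI : (kernel v).IsQuasicoherent := Groth.Agent.Lib.Helper21.QCohKernel.isQuasicoherent_kernel v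
  haveI : Mono ((Scheme.Modules.pullback h).map (kernel.ι v)) :=
    Groth.Agent.Lib.Helper21.FlatPullMono.mono_pullback_map_of_flat h (kernel.ι v)
  have h0 : (Scheme.Modules.pullback h).map (kernel.ι v) ≫ (Scheme.Modules.pullback h).map v = 0 := by
    rw [← Functor.map_comp, kernel.condition, Functor.map_zero]
  have h1 : (Scheme.Modules.pullback h).map (kernel.ι v) = 0 := by
    rw [← cancel_mono ((Scheme.Modules.pullback h).map v), h0, zero_comp]
  exact IsZero.of_mono_eq_zero _ h1

theorem isZero_pullback_image_of_eq_zero [F.IsQuasicoherent] [G.IsQuasicoherent] {Y' : Scheme.{u}} (h : Y' ⟶ Y) [Flat h]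
    (hv : (Scheme.Modules.pullback h).map v = 0) :
    IsZero ((Scheme.Modules.pullback h).obj (Abelian.image v)) := by
  haveI : (cokernel v).IsQuasicoherent := Groth.Agent.Lib.Helper21.QCohKernel.isQuasicoherent_cokernel v
  haveI : (Abelian.image v).IsQuasicoherent :=
    Groth.Agent.Lib.Helper21.QCohKernel.isQuasicoherent_kernel (cokernel.π v)
  haveI : Mono ((Scheme.Modules.pullback h).map (Abelian.image.ι v)) :=
    Groth.Agent.Lib.Helper21.FlatPullMono.mono_pullback_map_of_flat h (Abelian.image.ι v)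
  have h0 : (Scheme.Modules.pullback h).map (Abelian.factorThruImage v) ≫
      (Scheme.Modules.pullback h).map (Abelian.image.ι v) = 0 := by
    rw [← Functor.map_comp, Abelian.image.fac, hv]
  have h1 : (Scheme.Modules.pullback h).map (Abelian.factorThruImage v) = 0 := by
    rw [← cancel_mono ((Scheme.Modules.pullback h).map (Abelian.image.ι v)), h0, zero_comp]
  exact IsZero.of_epi_eq_zero _ h1

theorem epi_of_flat_cover [F.IsQuasicoherent] [G.IsQuasicoherent]
    (hv : ∀ y : Y, ∃ (Y' : Scheme.{u}) (h : Y' ⟶ Y) (_ : Flat h) (y' : Y'), h y' = y ∧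
      Epi ((Scheme.Modules.pullback h).map v)) : Epi v := by
  haveI : (cokernel v).IsQuasicoherent := Groth.Agent.Lib.Helper21.QCohKernel.isQuasicoherent_cokernel v
  have hz : IsZero (cokernel v) := isZero_of_flat_cover _ (fun y => by
    obtain ⟨Y', h, hf, y', hy, he⟩ := hv y
    exact ⟨Y', h, hf, y', hy, isZero_pullback_cokernel_of_epi v h he⟩)
  exact Preadditive.epi_of_isZero_cokernel v hz

theorem mono_of_flat_cover [F.IsQuasicoherent] [G.IsQuasicoherent]
    (hv : ∀ y : Y, ∃ (Y' : Scheme.{u}) (h : Y' ⟶ Y) (_ : Flat h) (y' : Y'), h y' = y ∧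
      Mono ((Scheme.Modules.pullback h).map v)) : Mono v := by
  haveI : (kernel v).IsQuasicoherent := Groth.Agent.Lib.Helper21.QCohKernel.isQuasicoherent_kernel v
  have hz : IsZero (kernel v) := isZero_of_flat_cover _ (fun y => by
    obtain ⟨Y', h, hf, y', hy, he⟩ := hv y
    exact ⟨Y', h, hf, y', hy, isZero_pullback_kernel_of_mono v h he⟩)
  exact Preadditive.mono_of_isZero_kernel v hz

theorem eq_zero_of_flat_cover [F.IsQuasicoherent] [G.IsQuasicoherent]
    (hv : ∀ y : Y, ∃ (Y' : Scheme.{u}) (h : Y' ⟶ Y) (_ : Flat h) (y' : Y'), h y' = y ∧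
      (Scheme.Modules.pullback h).map v = 0) : v = 0 := by
  haveI : (cokernel v).IsQuasicoherent := Groth.Agent.Lib.Helper21.QCohKernel.isQuasicoherent_cokernel v
  haveI : (Abelian.image v).IsQuasicoherent :=
    Groth.Agent.Lib.Helper21.QCohKernel.isQuasicoherent_kernel (cokernel.π v)
  have hz : IsZero (Abelian.image v) := isZero_of_flat_cover _ (fun y => by
    obtain ⟨Y', h, hf, y', hy, he⟩ := hv y
    exact ⟨Y', h, hf, y', hy, isZero_pullback_image_of_eq_zero v h he⟩)
  rw [← Abelian.image.fac v, hz.eq_of_tgt (Abelian.factorThruImage v) 0, zero_comp]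

theorem isIso_of_flat_cover [F.IsQuasicoherent] [G.IsQuasicoherent]
    (hv : ∀ y : Y, ∃ (Y' : Scheme.{u}) (h : Y' ⟶ Y) (_ : Flat h) (y' : Y'), h y' = y ∧
      IsIso ((Scheme.Modules.pullback h).map v)) : IsIso v := by
  haveI : Mono v := mono_of_flat_cover v (fun y => by
    obtain ⟨Y', h, hf, y', hy, he⟩ := hv y
    exact ⟨Y', h, hf, y', hy, inferInstance⟩)
  haveI : Epi v := epi_of_flat_cover v (fun y => by
    obtain ⟨Y', h, hf, y', hy, he⟩ := hv y
    exact ⟨Y', h, hf, y', hy, inferInstance⟩)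
  exact isIso_of_mono_of_epi v

end

section Transport

variable {C D : Type*} [Category C] [Category D]

theorem mono_map_of_natIso {F₁ F₂ : C ⥤ D} (e : F₁ ≅ F₂) {A B : C} (u : A ⟶ B)
    (h : Mono (F₁.map u)) : Mono (F₂.map u) := by
  have : F₂.map u = e.inv.app _ ≫ F₁.map u ≫ e.hom.app _ := by simp
  rw [this]
  infer_instance

theorem epi_map_of_natIso {F₁ F₂ : C ⥤ D} (e : F₁ ≅ F₂) {A B : C} (u : A ⟶ B)
    (h : Epi (F₁.map u)) : Epi (F₂.map u) := by
  have : F₂.map u = e.inv.app _ ≫ F₁.map u ≫ e.hom.app _ := by simp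
  rw [this]
  infer_instance

theorem isIso_map_of_natIso {F₁ F₂ : C ⥤ D} (e : F₁ ≅ F₂) {A B : C} (u : A ⟶ B)
    (h : IsIso (F₁.map u)) : IsIso (F₂.map u) := by
  have : F₂.map u = e.inv.app _ ≫ F₁.map u ≫ e.hom.app _ := by simp
  rw [this]
  infer_instance

theorem map_eq_zero_of_natIso [Limits.HasZeroMorphisms D] {F₁ F₂ : C ⥤ D} (e : F₁ ≅ F₂) {A B : C}
    (u : A ⟶ B) (h : F₁.map u = 0) : F₂.map u = 0 := by
  have : F₂.map u = e.inv.app _ ≫ F₁.map u ≫ e.hom.app _ := by simp
  rw [this, h, zero_comp, comp_zero]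

end Transport

section Geometry

variable {X S : Scheme.{u}} (f : X ⟶ S) {T T' : Scheme.{u}} (b : T ⟶ S) (a : T' ⟶ S)
  (q : T' ⟶ T) (hq : q ≫ b = a)

/-- The base change map `X ×_S T' ⟶ X ×_S T` induced by `q : T' ⟶ T` over `S`. -/
noncomputable def bc : pullback f a ⟶ pullback f b :=
  pullback.lift (pullback.fst f a) (pullback.snd f a ≫ q)
    (by rw [Category.assoc, hq, pullback.condition])

@[reassoc (attr := simp)]
theorem bc_fst : bc f b a q hq ≫ pullback.fst f b = pullback.fst f a :=
  pullback.lift_fst _ _ _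

@[reassoc (attr := simp)]
theorem bc_snd : bc f b a q hq ≫ pullback.snd f b = pullback.snd f a ≫ q :=
  pullback.lift_snd _ _ _

theorem isPullback_bc : IsPullback (bc f b a q hq) (pullback.snd f a) (pullback.snd f b) q := by
  refine IsPullback.of_right ?_ (bc_snd f b a q hq) (IsPullback.of_hasPullback f b)
  rw [bc_fst, hq]
  exact IsPullback.of_hasPullback f a

theorem flat_bc [Flat q] : Flat (bc f b a q hq) :=
  MorphismProperty.of_isPullback (P := @Flat) (isPullback_bc f b a q hq).flip inferInstance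

theorem exists_bc_eq (y : ↥(pullback f b)) (t' : T') (ht : q t' = pullback.snd f b y) :
    ∃ y' : ↥(pullback f a), bc f b a q hq y' = y := by
  obtain ⟨z, hz1, hz2⟩ := Scheme.Pullback.exists_preimage_pullback (f := pullback.snd f b) (g := q)
    y t' ht.symm
  refine ⟨(isPullback_bc f b a q hq).isoPullback.inv z, ?_⟩
  rw [← Scheme.Hom.comp_apply, IsPullback.isoPullback_inv_fst, hz1]

/-- the pullback functors: `(X_{T'} → X)^* ≅ (X_{T'} → X_T)^* ∘ (X_T → X)^*`. -/
noncomputable def pullbackBcIso :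
    Scheme.Modules.pullback (pullback.fst f b) ⋙ Scheme.Modules.pullback (bc f b a q hq) ≅
      Scheme.Modules.pullback (pullback.fst f a) :=
  Scheme.Modules.pullbackComp (bc f b a q hq) (pullback.fst f b) ≪≫
    Scheme.Modules.pullbackCongr (bc_fst f b a q hq)

end Geometry

end Groth.Agent.Lib.Helper40.FFDescent
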