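import Groth.Agent.Lib.Helper40.FFDescent
import Groth.Prelude.Def_FlatFun

set_option autoImplicit false
universe u

open AlgebraicGeometry CategoryTheory CategoryTheory.Limits TensorProduct

namespace Groth.Agent.Lib.Helper40.FFDescent2

open Groth.Agent.Lib.Lead Groth.Agent.Lib.Helper40.FFDescent

section Cover

variable {X S : Scheme.{u}} (f : X ⟶ S) {T : Scheme.{u}} (b : T ⟶ S)

theorem cover_of_presieve (R : Presieve T) (hR : R ∈ Scheme.fpqcPrecoverage T)
    (y : ↥(pullback f b)) :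
    ∃ (T' : Scheme.{u}) (q : T' ⟶ T) (_ : R q) (_ : Flat q) (y' : ↥(pullback f (q ≫ b))),
      bc f b (q ≫ b) q rfl y' = y := by
  have h2 : R ∈ Scheme.precoverage @Flat T := hR.2
  obtain ⟨T', q, hq, t', ht'⟩ :=
    (Presieve.mem_comap_jointlySurjectivePrecoverage_iff Scheme.forget).1 h2.1
      (pullback.snd f b y)
  have hfl : Flat q := h2.2 hq
  obtain ⟨y', hy'⟩ := exists_bc_eq f b (q ≫ b) q rfl y t' ht'
  exact ⟨T', q, hq, hfl, y', hy'⟩

variable {F G : X.Modules} [F.IsQuasicoherent] [G.IsQuasicoherent] (u : F ⟶ G)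

theorem mono_of_presieve (R : Presieve T) (hR : R ∈ Scheme.fpqcPrecoverage T)
    (h : ∀ (T' : Scheme.{u}) (q : T' ⟶ T), R q →
      Mono ((Scheme.Modules.pullback (pullback.fst f (q ≫ b))).map u)) :
    Mono ((Scheme.Modules.pullback (pullback.fst f b)).map u) := by
  apply mono_of_flat_cover
  intro y
  obtain ⟨T', q, hRq, hfl, y', hy⟩ := cover_of_presieve f b R hR y
  exact ⟨_, bc f b (q ≫ b) q rfl, flat_bc f b (q ≫ b) q rfl, y', hy,
    mono_map_of_natIso (pullbackBcIso f b (q ≫ b) q rfl).symm u (h T' q hRq)⟩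

theorem epi_of_presieve (R : Presieve T) (hR : R ∈ Scheme.fpqcPrecoverage T)
    (h : ∀ (T' : Scheme.{u}) (q : T' ⟶ T), R q →
      Epi ((Scheme.Modules.pullback (pullback.fst f (q ≫ b))).map u)) :
    Epi ((Scheme.Modules.pullback (pullback.fst f b)).map u) := by
  apply epi_of_flat_cover
  intro y
  obtain ⟨T', q, hRq, hfl, y', hy⟩ := cover_of_presieve f b R hR y
  exact ⟨_, bc f b (q ≫ b) q rfl, flat_bc f b (q ≫ b) q rfl, y', hy,
    epi_map_of_natIso (pullbackBcIso f b (q ≫ b) q rfl).symm u (h T' q hRq)⟩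

theorem isIso_of_presieve (R : Presieve T) (hR : R ∈ Scheme.fpqcPrecoverage T)
    (h : ∀ (T' : Scheme.{u}) (q : T' ⟶ T), R q →
      IsIso ((Scheme.Modules.pullback (pullback.fst f (q ≫ b))).map u)) :
    IsIso ((Scheme.Modules.pullback (pullback.fst f b)).map u) := by
  apply isIso_of_flat_cover
  intro y
  obtain ⟨T', q, hRq, hfl, y', hy⟩ := cover_of_presieve f b R hR y
  exact ⟨_, bc f b (q ≫ b) q rfl, flat_bc f b (q ≫ b) q rfl, y', hy,
    isIso_map_of_natIso (pullbackBcIso f b (q ≫ b) q rfl).symm u (h T' q hRq)⟩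

theorem eq_zero_of_presieve (R : Presieve T) (hR : R ∈ Scheme.fpqcPrecoverage T)
    (h : ∀ (T' : Scheme.{u}) (q : T' ⟶ T), R q →
      (Scheme.Modules.pullback (pullback.fst f (q ≫ b))).map u = 0) :
    (Scheme.Modules.pullback (pullback.fst f b)).map u = 0 := by
  apply eq_zero_of_flat_cover
  intro y
  obtain ⟨T', q, hRq, hfl, y', hy⟩ := cover_of_presieve f b R hR y
  exact ⟨_, bc f b (q ≫ b) q rfl, flat_bc f b (q ≫ b) q rfl, y', hy,
    map_eq_zero_of_natIso (pullbackBcIso f b (q ≫ b) q rfl).symm u (h T' q hRq)⟩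

variable {T' : Scheme.{u}} (a : T' ⟶ S) (q : T' ⟶ T) (hq : q ≫ b = a)

include hq in
theorem mono_bc [Flat q] (h : Mono ((Scheme.Modules.pullback (pullback.fst f b)).map u)) :
    Mono ((Scheme.Modules.pullback (pullback.fst f a)).map u) := by
  haveI := flat_bc f b a q hq
  exact mono_map_of_natIso (pullbackBcIso f b a q hq) u
    (Groth.Agent.Lib.Helper21.FlatPullMono.mono_pullback_map_of_flat (bc f b a q hq)
      ((Scheme.Modules.pullback (pullback.fst f b)).map u))

include hq in
omit [F.IsQuasicoherent] [G.IsQuasicoherent] in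
theorem epi_bc (h : Epi ((Scheme.Modules.pullback (pullback.fst f b)).map u)) :
    Epi ((Scheme.Modules.pullback (pullback.fst f a)).map u) :=
  epi_map_of_natIso (pullbackBcIso f b a q hq) u
    (inferInstanceAs (Epi ((Scheme.Modules.pullback (bc f b a q hq)).map
      ((Scheme.Modules.pullback (pullback.fst f b)).map u))))

include hq in
omit [F.IsQuasicoherent] [G.IsQuasicoherent] in
theorem isIso_bc (h : IsIso ((Scheme.Modules.pullback (pullback.fst f b)).map u)) :
    IsIso ((Scheme.Modules.pullback (pullback.fst f a)).map u) :=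
  isIso_map_of_natIso (pullbackBcIso f b a q hq) u
    (inferInstanceAs (IsIso ((Scheme.Modules.pullback (bc f b a q hq)).map
      ((Scheme.Modules.pullback (pullback.fst f b)).map u))))

include hq in
omit [F.IsQuasicoherent] [G.IsQuasicoherent] in
theorem eq_zero_bc (h : (Scheme.Modules.pullback (pullback.fst f b)).map u = 0) :
    (Scheme.Modules.pullback (pullback.fst f a)).map u = 0 :=
  map_eq_zero_of_natIso (pullbackBcIso f b a q hq) u
    (show (Scheme.Modules.pullback (bc f b a q hq)).map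
      ((Scheme.Modules.pullback (pullback.fst f b)).map u) = 0 by rw [h, Functor.map_zero])

end Cover

section Sheaf

variable {S : Scheme.{u}}

theorem isSheaf_genPSp (P : Over S → Prop)
    (hstable : ∀ ⦃T T₀ : Over S⦄ (_ : T ⟶ T₀), P T₀ → P T)
    (hlocal : ∀ (T : Over S) (R : Presieve T.left), R ∈ Scheme.fpqcPrecoverage T.left →
      (∀ (T' : Scheme.{u}) (q : T' ⟶ T.left), R q → P (Over.mk (q ≫ T.hom))) → P T) :
    Presheaf.IsSheaf (QuotSh.J Scheme.fpqcPrecoverage S) (FlatFun.genPSp S P) := by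
  rw [isSheaf_iff_isSheaf_of_type]
  intro T R hR x hx
  have hPT : P T := by
    rw [GrothendieckTopology.mem_over_iff,
      Precoverage.mem_toGrothendieck_iff_of_isStableUnderComposition] at hR
    obtain ⟨R', hR', hle⟩ := hR
    apply hlocal T R' hR'
    intro T' q hq
    have hq' := hle _ _ hq
    rw [Sieve.overEquiv_iff] at hq'
    exact (FlatFun.genPSp_nonempty_iff_of_stable P hstable _).1 ⟨x _ hq'⟩
  exact ⟨⟨⟨⟨T, 𝟙 T, hPT⟩⟩⟩, fun _ _ _ => Subsingleton.elim _ _, fun _ _ => Subsingleton.elim _ _⟩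

end Sheaf

end Groth.Agent.Lib.Helper40.FFDescent2
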