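import Groth.Prelude.Def_Formal2
import Groth.Prelude.Def_Formal
import Groth.Agent.Lib.Helper93.SmulMod

/-!
# `M ⟶ N` exhibits `N` as `M / J M`: universal property formulation
-/

set_option autoImplicit false
universe u

open CategoryTheory CategoryTheory.Limits AlgebraicGeometry Opposite

namespace Groth.Agent.Lib.Helper40.FormalUP

open Groth.Agent.Lib.Helper93.SmulMod

variable {A : Type u} [CommRing A] {X : Scheme.{u}} [X.Over (Spec (CommRingCat.of A))]

theorem smulFamily_comp_eq_zero_iff (J : Ideal A) {M T : X.Modules} (g : M ⟶ T) :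
    Formal.smulFamily J M ≫ g = 0 ↔ ∀ a ∈ J, Formal.smulMod A M a ≫ g = 0 := by
  constructor
  · intro h a ha
    rw [← ι_smulFamily J M ⟨a, ha⟩, Category.assoc, h, comp_zero]
  · intro h
    apply Sigma.hom_ext
    intro a
    rw [comp_zero, ← Category.assoc, ι_smulFamily]
    exact h a a.2

/-- `t` exhibits `N` as `M / J M` -/
structure IsQuot (J : Ideal A) {M N : X.Modules} (t : M ⟶ N) : Prop where
  epi : Epi t
  kill : ∀ a ∈ J, Formal.smulMod A M a ≫ t = 0
  fac : ∀ {T : X.Modules} (g : M ⟶ T), (∀ a ∈ J, Formal.smulMod A M a ≫ g = 0) →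
    ∃ g' : N ⟶ T, t ≫ g' = g

theorem isQuot_π (J : Ideal A) (M : X.Modules) : IsQuot J (cokernel.π (Formal.smulFamily J M)) where
  epi := inferInstance
  kill := (smulFamily_comp_eq_zero_iff J _).mp (cokernel.condition _)
  fac g hg := ⟨cokernel.desc _ g ((smulFamily_comp_eq_zero_iff J g).mpr hg), cokernel.π_desc _ _ _⟩

theorem IsQuot.zero {J : Ideal A} {M N : X.Modules} {t : M ⟶ N} (h : IsQuot J t) :
    Formal.smulFamily J M ≫ t = 0 := (smulFamily_comp_eq_zero_iff J t).mpr h.kill

theorem IsQuot.isIso_desc {J : Ideal A} {M N : X.Modules} {t : M ⟶ N} (h : IsQuot J t) :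
    IsIso (cokernel.desc (Formal.smulFamily J M) t h.zero) := by
  haveI := h.epi
  obtain ⟨e, he⟩ := h.fac (cokernel.π (Formal.smulFamily J M)) (isQuot_π J M).kill
  refine ⟨e, ?_, ?_⟩
  · rw [← cancel_epi (cokernel.π (Formal.smulFamily J M)), ← Category.assoc, cokernel.π_desc,
      Category.comp_id]
    exact he
  · have : t ≫ (e ≫ cokernel.desc (Formal.smulFamily J M) t h.zero) = t ≫ 𝟙 _ := by
      rw [← Category.assoc, he, Category.comp_id]
      exact cokernel.π_desc _ _ _
    exact (cancel_epi t).mp this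

theorem isQuot_of_isIso_desc {J : Ideal A} {M N : X.Modules} {t : M ⟶ N}
    (h0 : Formal.smulFamily J M ≫ t = 0) (hiso : IsIso (cokernel.desc (Formal.smulFamily J M) t h0)) :
    IsQuot J t where
  epi := by
    have : cokernel.π (Formal.smulFamily J M) ≫ cokernel.desc _ _ h0 = t := cokernel.π_desc _ _ _
    rw [← this]
    haveI : Epi (cokernel.desc _ _ h0) := @IsIso.epi_of_iso _ _ _ _ _ hiso
    exact epi_comp _ _
  kill := (smulFamily_comp_eq_zero_iff J t).mp h0
  fac g hg := by
    refine ⟨@inv _ _ _ _ (cokernel.desc _ _ h0) hiso ≫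
      cokernel.desc _ g ((smulFamily_comp_eq_zero_iff J g).mpr hg), ?_⟩
    have h1 : t ≫ @inv _ _ _ _ (cokernel.desc _ _ h0) hiso = cokernel.π (Formal.smulFamily J M) := by
      have : cokernel.π (Formal.smulFamily J M) ≫ cokernel.desc _ _ h0 = t := cokernel.π_desc _ _ _
      calc t ≫ @inv _ _ _ _ (cokernel.desc _ _ h0) hiso
          = (cokernel.π (Formal.smulFamily J M) ≫ cokernel.desc _ _ h0) ≫
              @inv _ _ _ _ (cokernel.desc _ _ h0) hiso := by rw [this]
        _ = cokernel.π (Formal.smulFamily J M) := by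
            rw [Category.assoc, @IsIso.hom_inv_id _ _ _ _ _ hiso, Category.comp_id]
    rw [← Category.assoc, h1, cokernel.π_desc]

theorem isQuot_iff (J : Ideal A) {M N : X.Modules} (t : M ⟶ N) :
    IsQuot J t ↔ ∃ h : Formal.smulFamily J M ≫ t = 0, IsIso (cokernel.desc _ _ h) :=
  ⟨fun h => ⟨h.zero, h.isIso_desc⟩, fun ⟨h0, hiso⟩ => isQuot_of_isIso_desc h0 hiso⟩

/-- composition: `M → M/J'M → (M/J'M)/J(M/J'M) = M/JM` for `J' ≤ J` -/
theorem IsQuot.comp {J J' : Ideal A} (hJ : J' ≤ J) {M N P : X.Modules} {t : M ⟶ N} {s : N ⟶ P}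
    (ht : IsQuot J' t) (hs : IsQuot J s) : IsQuot J (t ≫ s) where
  epi := by haveI := ht.epi; haveI := hs.epi; exact epi_comp _ _
  kill a ha := by
    rw [← Category.assoc, smulMod_naturality, Category.assoc, hs.kill a ha, comp_zero]
  fac g hg := by
    haveI := ht.epi
    obtain ⟨g1, hg1⟩ := ht.fac g (fun a ha => hg a (hJ ha))
    have h1 : ∀ a ∈ J, Formal.smulMod A N a ≫ g1 = 0 := by
      intro a ha
      rw [← cancel_epi t, comp_zero, ← Category.assoc, ← smulMod_naturality, Category.assoc, hg1]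
      exact hg a ha
    obtain ⟨g0, hg0⟩ := hs.fac g1 h1
    exact ⟨g0, by rw [Category.assoc, hg0, hg1]⟩

/-- an isomorphism out of a module killed by `J` is a quotient by `J` -/
theorem isQuot_of_isIso {J : Ideal A} {M N : X.Modules} (t : M ⟶ N) [IsIso t]
    (hM : Formal.KilledBy J M) : IsQuot J t where
  epi := inferInstance
  kill a ha := by rw [hM a ha, zero_comp]
  fac g _ := ⟨inv t ≫ g, by rw [← Category.assoc, IsIso.hom_inv_id, Category.id_comp]⟩

/-- a quotient by `J` of a module killed by `J` is an isomorphism -/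
theorem IsQuot.isIso_of_killedBy {J : Ideal A} {M N : X.Modules} {t : M ⟶ N} (h : IsQuot J t)
    (hM : Formal.KilledBy J M) : IsIso t := by
  haveI := h.epi
  obtain ⟨e, he⟩ := h.fac (𝟙 M) (fun a ha => by rw [hM a ha, zero_comp])
  refine ⟨e, he, ?_⟩
  have : t ≫ (e ≫ t) = t ≫ 𝟙 _ := by rw [← Category.assoc, he, Category.id_comp, Category.comp_id]
  exact (cancel_epi t).mp this

end Groth.Agent.Lib.Helper40.FormalUP
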