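import Groth.Agent.S0835
import Groth.Agent.S0832
import Groth.Agent.Lib.Helper21.QCohKernel
import Groth.Agent.Lib.Helper21.CohNoeth
import Groth.Agent.Lib.Helper40.QCohCoprod

/-!
# Completions `M/I^n M`: coherence, restriction to opens
-/

set_option autoImplicit false
universe u

open CategoryTheory CategoryTheory.Limits AlgebraicGeometry Opposite

namespace Groth.Agent.Lib.Helper40.FormalRestrict

open Groth.Agent.Lib.Helper40.FormalUP Groth.Agent.Lib.Helper93.SmulMod

variable {A : Type u} [CommRing A] {X Y : Scheme.{u}} [X.Over (Spec (CommRingCat.of A))]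
  [Y.Over (Spec (CommRingCat.of A))]

/-- any left adjoint of `f_*` commutes with multiplication by elements of `A` -/
theorem leftAdj_smulMod (f : X ⟶ Y)
    (hf : f ≫ (Y ↘ Spec (CommRingCat.of A)) = X ↘ Spec (CommRingCat.of A))
    {L : Y.Modules ⥤ X.Modules} (adj : L ⊣ Scheme.Modules.pushforward f) (M : Y.Modules) (a : A) :
    L.map (Formal.smulMod A M a) = Formal.smulMod A (L.obj M) a := by
  apply (adj.homEquiv _ _).injective
  rw [Adjunction.homEquiv_unit, Adjunction.homEquiv_unit, Groth.Agent.S0835.pushforward_smulMod f hf]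
  have h2 := smulMod_naturality (A := A) (adj.unit.app M) a
  exact ((adj.unit.naturality (Formal.smulMod A M a)).symm.trans h2)

theorem leftAdj_killedBy (f : X ⟶ Y)
    (hf : f ≫ (Y ↘ Spec (CommRingCat.of A)) = X ↘ Spec (CommRingCat.of A))
    {L : Y.Modules ⥤ X.Modules} (adj : L ⊣ Scheme.Modules.pushforward f) [L.PreservesZeroMorphisms]
    {J : Ideal A} {M : Y.Modules} (hM : Formal.KilledBy J M) : Formal.KilledBy J (L.obj M) := by
  intro a ha
  rw [← leftAdj_smulMod f hf adj, hM a ha, Functor.map_zero]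

theorem leftAdj_isQuot (f : X ⟶ Y)
    (hf : f ≫ (Y ↘ Spec (CommRingCat.of A)) = X ↘ Spec (CommRingCat.of A))
    {L : Y.Modules ⥤ X.Modules} (adj : L ⊣ Scheme.Modules.pushforward f) [L.PreservesZeroMorphisms]
    {J : Ideal A} {M N : Y.Modules} {t : M ⟶ N} (ht : IsQuot J t) : IsQuot J (L.map t) where
  epi := by
    haveI := ht.epi
    haveI : L.IsLeftAdjoint := adj.isLeftAdjoint
    infer_instance
  kill a ha := by
    rw [← leftAdj_smulMod f hf adj, ← Functor.map_comp, ht.kill a ha, Functor.map_zero]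
  fac {T} g hg := by
    have h1 : ∀ a ∈ J, Formal.smulMod A M a ≫ adj.homEquiv _ _ g = 0 := by
      intro a ha
      rw [← adj.homEquiv_naturality_left, leftAdj_smulMod f hf adj, hg a ha, Adjunction.homEquiv_unit,
        Functor.map_zero, comp_zero]
    obtain ⟨g', hg'⟩ := ht.fac _ h1
    refine ⟨(adj.homEquiv _ _).symm g', ?_⟩
    rw [← adj.homEquiv_naturality_left_symm, hg', Equiv.symm_apply_apply]

theorem IsQuot.iso_comp {J : Ideal A} {M' M N : X.Modules} (e : M' ⟶ M) [IsIso e] {t : M ⟶ N}
    (ht : IsQuot J t) : IsQuot J (e ≫ t) where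
  epi := by haveI := ht.epi; exact epi_comp _ _
  kill a ha := by
    rw [← Category.assoc, smulMod_naturality, Category.assoc, ht.kill a ha, comp_zero]
  fac {T} g hg := by
    have h1 : ∀ a ∈ J, Formal.smulMod A M a ≫ (inv e ≫ g) = 0 := by
      intro a ha
      rw [← Category.assoc, smulMod_naturality, Category.assoc, hg a ha, comp_zero]
    obtain ⟨g', hg'⟩ := ht.fac _ h1
    exact ⟨g', by rw [Category.assoc, hg', ← Category.assoc, IsIso.hom_inv_id, Category.id_comp]⟩

theorem killedBy_modPow (I : Ideal A) (n : ℕ) (M : X.Modules) :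
    Formal.KilledBy (I ^ n) (Formal.modPow I n M) := by
  intro a ha
  rw [← cancel_epi (Formal.modPowπ I n M), comp_zero, ← smulMod_naturality]
  exact (isQuot_π (I ^ n) M).kill a ha

theorem isQuot_modPowTrans (I : Ideal A) (n : ℕ) (M : X.Modules) :
    IsQuot (I ^ n) (Formal.modPowTrans I n M) where
  epi := by
    have : Epi (Formal.modPowπ I (n + 1) M ≫ Formal.modPowTrans I n M) := by
      rw [Formal.modPowπ_trans]; infer_instance
    exact epi_of_epi (Formal.modPowπ I (n + 1) M) _
  kill a ha := by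
    rw [smulMod_naturality, killedBy_modPow I n M a ha, comp_zero]
  fac {T} g hg := by
    have h1 : ∀ a ∈ I ^ n, Formal.smulMod A M a ≫ (Formal.modPowπ I (n + 1) M ≫ g) = 0 := by
      intro a ha
      rw [← Category.assoc, smulMod_naturality, Category.assoc, hg a ha, comp_zero]
    obtain ⟨g', hg'⟩ := (isQuot_π (I ^ n) M).fac _ h1
    refine ⟨g', ?_⟩
    rw [← cancel_epi (Formal.modPowπ I (n + 1) M), ← Category.assoc, Formal.modPowπ_trans]
    exact hg'

theorem isCoh_modPow (I : Ideal A) (n : ℕ) (M : X.Modules) (hM : Coh.IsCoh M) :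
    Coh.IsCoh (Formal.modPow I n M) := by
  obtain ⟨hq, hft⟩ := hM
  haveI : M.IsQuasicoherent := hq
  haveI : (∐ fun _ : ↥(I ^ n) => M).IsQuasicoherent := QCohCoprod.isQuasicoherent_sigma _
  haveI : (Formal.modPow I n M).IsQuasicoherent :=
    Groth.Agent.Lib.Helper21.QCohKernel.isQuasicoherent_cokernel _
  exact ⟨inferInstance,
    Groth.Agent.Lib.Helper21.CohNoeth.isFiniteType_of_epi (Formal.modPowπ I n M) hft⟩

theorem completion_map_succ (I : Ideal A) (M : X.Modules) (n : ℕ) :
    (Formal.completion I M).map (homOfLE (Nat.le_succ n)).op = Formal.modPowTrans I (n + 1) M :=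
  Functor.ofOpSequence_map_homOfLE_succ _ n

theorem isCohFormal_completion (I : Ideal A) (M : X.Modules) (hM : Coh.IsCoh M) :
    Formal.IsCohFormal I (Formal.completion I M) := by
  refine ⟨fun n => isCoh_modPow I (n + 1) M hM, fun n => killedBy_modPow I (n + 1) M, fun n => ?_⟩
  have := (isQuot_iff _ _).mp (isQuot_modPowTrans I (n + 1) M)
  rw [← completion_map_succ] at this
  exact this

end Groth.Agent.Lib.Helper40.FormalRestrict
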