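import Groth.Agent.Lib.Helper64.HomSh2
import Groth.Agent.Lib.Helper2.HomGlue

set_option autoImplicit false
universe u

open AlgebraicGeometry CategoryTheory Opposite TopologicalSpace

namespace Groth.Agent.Lib.Helper40.HomColim

open Groth.Agent.Lib.Helper64.HomSh Groth.Agent.Lib.Lead.QCohAff Groth.Agent.Lib.Lead.SheafGlue

variable {X : Scheme.{u}} {F G : X.Modules}

/-- a global section of the sheaf Hom defines a morphism -/
theorem exists_hom_of_sec (g : Γ(RefHull.homSh F G, ⊤)) :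
    ∃ τ : F ⟶ G, ∀ (W : X.Opens) (a : Γ(F, W)), τ.app W a = secApp g le_top a := by
  obtain ⟨τ, hτ⟩ := Groth.Agent.Lib.Helper2.HomGlue.exists_hom (M := F) (N := G)
    (good := fun _ => True) (t := fun W _ => secApp g le_top)
    (fun U x hx => ⟨U, trivial, hx, le_rfl⟩)
    (fun W _ a b => map_add _ a b)
    (fun W _ r a => map_smul _ r a)
    (fun W W' _ _ h a => secApp_res g le_top h a)
  exact ⟨τ, fun W a => hτ W trivial a⟩

/-- morphisms agreeing on stalkwise generators over an open cover are equal -/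
theorem hom_ext_of_gens {ι : Type*} (U : ι → X.Opens) (hU : ∀ x : X, ∃ a, x ∈ U a)
    {κ : ι → Type*} (s : ∀ a, κ a → Γ(F, U a))
    (hs : ∀ a (y : X) (hy : y ∈ U a), Submodule.span (X.presheaf.stalk y)
      (Set.range fun i => F.presheaf.germ (U a) y hy (s a i)) = ⊤)
    (φ ψ : F ⟶ G) (h : ∀ a i, φ.app (U a) (s a i) = ψ.app (U a) (s a i)) : φ = ψ := by
  have hst : ∀ y : X, RefHull.stalkMapₗ φ y = RefHull.stalkMapₗ ψ y := by
    intro y
    obtain ⟨a, hy⟩ := hU y
    apply stalkHom_ext_of_span _ (hs a y hy)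
    intro i
    rw [RefHull.stalkMapₗ_germ, RefHull.stalkMapₗ_germ, h]
  apply Scheme.Modules.hom_ext
  intro W
  ext m
  apply sec_ext
  intro y hy
  rw [← RefHull.stalkMapₗ_germ, ← RefHull.stalkMapₗ_germ, hst]

/-- post-composition of a section of the sheaf Hom with a morphism -/
noncomputable def postComp {G' : X.Modules} (τ : G ⟶ G') {U : X.Opens}
    (g : Γ(RefHull.homSh F G, U)) : Γ(RefHull.homSh F G', U) :=
  ⟨fun y => (RefHull.stalkMapₗ τ y.1).comp (g.1 y), by
    intro V i m x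
    obtain ⟨W, hxW, j, n, hn⟩ := RefHull.isLocSect_of_mem g V i m x
    refine ⟨W, hxW, j, τ.app W n, fun y => ?_⟩
    rw [LinearMap.comp_apply, hn y, RefHull.stalkMapₗ_germ]⟩

theorem secApp_postComp {G' : X.Modules} (τ : G ⟶ G') {U : X.Opens}
    (g : Γ(RefHull.homSh F G, U)) {W : X.Opens} (hW : W ≤ U) (m : Γ(F, W)) :
    secApp (postComp τ g) hW m = τ.app W (secApp g hW m) := by
  apply sec_ext
  intro y hy
  rw [germ_secApp, ← RefHull.stalkMapₗ_germ, germ_secApp]
  rfl

theorem secApp_res' {U U' : X.Opens} (h : U' ≤ U) (g : Γ(RefHull.homSh F G, U))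
    {W : X.Opens} (hW : W ≤ U') (m : Γ(F, W)) :
    secApp ((RefHull.homSh F G).presheaf.map (homOfLE h).op g) hW m = secApp g (hW.trans h) m := by
  apply sec_ext
  intro y hy
  rw [germ_secApp, germ_secApp]
  rfl

theorem postComp_res {G' : X.Modules} (τ : G ⟶ G') {U U' : X.Opens} (h : U' ≤ U)
    (g : Γ(RefHull.homSh F G, U)) :
    postComp τ ((RefHull.homSh F G).presheaf.map (homOfLE h).op g) =
      (RefHull.homSh F G').presheaf.map (homOfLE h).op (postComp τ g) := by
  apply homSh_ext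
  intro y hy
  rfl

theorem secApp_ofHom (φ : F ⟶ G) (U : X.Opens) {W : X.Opens} (hW : W ≤ U) (m : Γ(F, W)) :
    secApp (RefHull.ofHom φ U) hW m = φ.app W m := by
  apply sec_ext
  intro y hy
  rw [germ_secApp, RefHull.ofHom_apply, RefHull.stalkMapₗ_germ]

/-- sections of the sheaf Hom are determined by their action on sections over a basis -/
theorem homSh_ext_secApp {U : X.Opens} (g g' : Γ(RefHull.homSh F G, U))
    (h : ∀ (W : X.Opens) (hW : W ≤ U) (m : Γ(F, W)), secApp g hW m = secApp g' hW m) : g = g' := by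
  apply homSh_ext
  intro y hy
  apply LinearMap.ext
  intro v
  obtain ⟨W, hyW, m, rfl⟩ := TopCat.Presheaf.exists_germ_eq F.presheaf v
  have h1 := h (W ⊓ U) inf_le_right (F.presheaf.map (homOfLE inf_le_left).op m)
  have h2 := congrArg (G.presheaf.germ (W ⊓ U) y ⟨hyW, hy⟩) h1
  rw [germ_secApp, germ_secApp, germ_res] at h2
  exact h2

/-- local sections of the sheaf Hom agreeing on overlaps glue to a morphism -/
theorem exists_hom_of_local {ι : Type*} (U : ι → X.Opens) (hU : ∀ x : X, ∃ a, x ∈ U a)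
    (g : ∀ a, Γ(RefHull.homSh F G, U a))
    (hg : ∀ a b, (RefHull.homSh F G).presheaf.map (homOfLE (inf_le_left : U a ⊓ U b ≤ U a)).op (g a) =
      (RefHull.homSh F G).presheaf.map (homOfLE (inf_le_right : U a ⊓ U b ≤ U b)).op (g b)) :
    ∃ τ : F ⟶ G, ∀ a (W : X.Opens) (hW : W ≤ U a) (m : Γ(F, W)),
      τ.app W m = secApp (g a) hW m := by
  choose ax hax using hU
  obtain ⟨r, hr⟩ := exists_glue_pts (RefHull.homSh F G) (W := ⊤) (fun x => U (ax x.1))
    (fun x => le_top) (fun x => hax x.1) (fun x => g (ax x.1)) (fun x y => hg _ _)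
  obtain ⟨τ, hτ⟩ := exists_hom_of_sec r
  refine ⟨τ, fun a W hW m => ?_⟩
  rw [hτ]
  apply sec_ext
  intro y hy
  rw [germ_secApp, germ_secApp]
  -- compare `r` and `g a` at `y`
  have h1 := hr ⟨y, trivial⟩
  have h2 := hg a (ax y)
  have e1 : r.1 ⟨y, trivial⟩ = (g (ax y)).1 ⟨y, hax y⟩ := by
    have := congrArg (fun q : Γ(RefHull.homSh F G, U (ax y)) => q.1 ⟨y, hax y⟩) h1
    exact this
  have e2 : (g a).1 ⟨y, hW hy⟩ = (g (ax y)).1 ⟨y, hax y⟩ := by
    have := congrArg (fun q : Γ(RefHull.homSh F G, U a ⊓ U (ax y)) => q.1 ⟨y, ⟨hW hy, hax y⟩⟩) h2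
    exact this
  rw [e1, e2]

end Groth.Agent.Lib.Helper40.HomColim
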