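import Groth.Agent.Lib.Helper40.HomColim1
import Groth.Agent.Lib.Helper48.Conormal4

set_option autoImplicit false
universe u v w

open AlgebraicGeometry CategoryTheory Opposite TopologicalSpace

namespace Groth.Agent.Lib.Helper40.HomColim

open Groth.Agent.Lib.Helper64.HomSh Groth.Agent.Lib.Lead.QCohAff Groth.Agent.Lib.Lead.SheafGlue

variable {X : Scheme.{u}} (F : X.Modules)
  {K : Type v} [Category.{w} K] [IsCofiltered K]
  (Hs : K → X.Modules) (H : X.Modules)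
  (tr : ∀ {k' k : K}, (k' ⟶ k) → (Hs k ⟶ Hs k')) (ι : ∀ k, Hs k ⟶ H)
  (hιtr : ∀ {k' k : K} (ψ : k' ⟶ k), tr ψ ≫ ι k' = ι k)
  (C1 : ∀ (V : X.Opens), IsAffineOpen V → ∀ t : Γ(H, V),
    ∃ (k : K) (tk : Γ(Hs k, V)), (ι k).app V tk = t)
  (C2 : ∀ (V : X.Opens), IsAffineOpen V → ∀ (k : K) (ε : Γ(Hs k, V)), (ι k).app V ε = 0 →
    ∃ (k₁ : K) (ψ₁ : k₁ ⟶ k), ∀ (k₂ : K) (ψ₂ : k₂ ⟶ k₁), (tr (ψ₂ ≫ ψ₁)).app V ε = 0)

include C2 in
theorem exists_stage_fin {V : X.Opens} (hV : IsAffineOpen V) (k : K) {E : Type*} [Finite E]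
    (ε : E → Γ(Hs k, V)) (h : ∀ e, (ι k).app V (ε e) = 0) :
    ∃ (k₁ : K) (ψ₁ : k₁ ⟶ k), ∀ (k₂ : K) (ψ₂ : k₂ ⟶ k₁) e, (tr (ψ₂ ≫ ψ₁)).app V (ε e) = 0 := by
  choose k₁ ψ₁ h₁ using fun e => C2 V hV k (ε e) (h e)
  obtain ⟨k', g, χ, hχ⟩ := IsCofiltered.wideCospan ψ₁
  refine ⟨k', g, fun k₂ ψ₂ e => ?_⟩
  rw [← hχ e, ← Category.assoc]
  exact h₁ e k₂ (ψ₂ ≫ χ e)

include hιtr in
theorem ι_tr_app {k' k : K} (ψ : k' ⟶ k) (V : X.Opens) (t : Γ(Hs k, V)) :
    (ι k').app V ((tr ψ).app V t) = (ι k).app V t := by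
  rw [← hιtr ψ]
  rfl

include hιtr C1 in
/-- finitely many sections lift to a common stage -/
theorem exists_lift_fin {V : X.Opens} (hV : IsAffineOpen V) {n : ℕ} (t : Fin n → Γ(H, V)) :
    ∃ (k : K) (tk : Fin n → Γ(Hs k, V)), ∀ i, (ι k).app V (tk i) = t i := by
  classical
  choose ki ti hti using fun i => C1 V hV (t i)
  obtain ⟨k, hk⟩ := IsCofiltered.inf_objs_exists (Finset.univ.image ki)
  have f : ∀ i, k ⟶ ki i := fun i => (hk (Finset.mem_image_of_mem _ (Finset.mem_univ i))).some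
  refine ⟨k, fun i => (tr (f i)).app V (ti i), fun i => ?_⟩
  rw [ι_tr_app Hs H tr ι hιtr, hti]

include hιtr C1 C2 in
/-- local lifting of a morphism `F ⟶ H` to a finite stage, over an affine open -/
theorem exists_local_lift [SheafOfModules.IsFinitePresentation (R := X.ringCatSheaf) F]
    (h : F ⟶ H) {V : X.Opens} (hV : IsAffineOpen V) :
    ∃ (k : K) (g : Γ(RefHull.homSh F (Hs k), V)), postComp (ι k) g = RefHull.ofHom h V := by
  obtain ⟨n, m, s, r, hP⟩ := exists_isPres_of_affine (F := F) hV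
  obtain ⟨k₀, t₀, ht₀⟩ := exists_lift_fin Hs H tr ι hιtr C1 hV (fun i => h.app V (s i))
  have hε : ∀ j, (ι k₀).app V (∑ i, r j i • t₀ i) = 0 := by
    intro j
    rw [map_sum]
    have : ∀ i, (ι k₀).app V (r j i • t₀ i) = h.app V (r j i • s i) := by
      intro i
      rw [Scheme.Modules.Hom.app_smul, ht₀, Scheme.Modules.Hom.app_smul]
    simp only [this]
    rw [← map_sum, hP.rel j, map_zero]
  obtain ⟨k₁, ψ₁, h₁⟩ := exists_stage_fin Hs H tr ι C2 hV k₀ (fun j => ∑ i, r j i • t₀ i) hε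
  have rel : ∀ j, ∑ i, r j i • (tr ψ₁).app V (t₀ i) = 0 := by
    intro j
    have := h₁ k₁ (𝟙 k₁) j
    rw [Category.id_comp, map_sum] at this
    rw [← this]
    refine Finset.sum_congr rfl fun i _ => ?_
    rw [Scheme.Modules.Hom.app_smul]
  refine ⟨k₁, mkOfPres hP (fun i => (tr ψ₁).app V (t₀ i)) rel, ?_⟩
  apply hom_ext_of_span s hP.span
  intro i
  rw [secApp_postComp, secApp_mkOfPres, secApp_ofHom, ι_tr_app Hs H tr ι hιtr, ht₀]

include C2 in
/-- local uniqueness of liftings up to passing to a later stage -/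
theorem exists_stage_eq [SheafOfModules.IsFinitePresentation (R := X.ringCatSheaf) F]
    {V : X.Opens} (hV : IsAffineOpen V) (k : K) (g g' : Γ(RefHull.homSh F (Hs k), V))
    (hgg' : postComp (ι k) g = postComp (ι k) g') :
    ∃ (k₁ : K) (ψ₁ : k₁ ⟶ k), ∀ (k₂ : K) (ψ₂ : k₂ ⟶ k₁),
      postComp (tr (ψ₂ ≫ ψ₁)) g = postComp (tr (ψ₂ ≫ ψ₁)) g' := by
  obtain ⟨n, m, s, r, hP⟩ := exists_isPres_of_affine (F := F) hV
  have hδ : ∀ i, (ι k).app V (secApp g le_rfl (s i) - secApp g' le_rfl (s i)) = 0 := by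
    intro i
    rw [map_sub, ← secApp_postComp, ← secApp_postComp, hgg', sub_self]
  obtain ⟨k₁, ψ₁, h₁⟩ := exists_stage_fin Hs H tr ι C2 hV k
    (fun i => secApp g le_rfl (s i) - secApp g' le_rfl (s i)) hδ
  refine ⟨k₁, ψ₁, fun k₂ ψ₂ => ?_⟩
  apply hom_ext_of_span s hP.span
  intro i
  rw [secApp_postComp, secApp_postComp]
  have := h₁ k₂ ψ₂ i
  rw [map_sub, sub_eq_zero] at this
  exact this

omit [IsCofiltered K] in
theorem postComp_comp {G G' G'' : X.Modules} (τ : G ⟶ G') (τ' : G' ⟶ G'') {U : X.Opens}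
    (g : Γ(RefHull.homSh F G, U)) : postComp τ' (postComp τ g) = postComp (τ ≫ τ') g := by
  apply homSh_ext_secApp
  intro W hW m
  rw [secApp_postComp, secApp_postComp, secApp_postComp]
  rfl

omit [IsCofiltered K] in
theorem ofHom_res {G : X.Modules} (φ : F ⟶ G) {U U' : X.Opens} (h : U' ≤ U) :
    (RefHull.homSh F G).presheaf.map (homOfLE h).op (RefHull.ofHom φ U) = RefHull.ofHom φ U' := by
  apply homSh_ext
  intro y hy
  rfl

include hιtr C1 C2 in
/-- **Abstract compactness**: a finitely presented module on a qcqs scheme is compact with respect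
to a cofiltered system of modules which is a colimit on sections over affine opens. -/
theorem exists_factor [CompactSpace X] [QuasiSeparatedSpace X]
    [SheafOfModules.IsFinitePresentation (R := X.ringCatSheaf) F] (h : F ⟶ H) :
    ∃ (k : K) (hk : F ⟶ Hs k), hk ≫ ι k = h := by
  classical
  -- finite affine cover
  obtain ⟨s, hs, hcov⟩ := (isCompact_iff_finite_and_eq_biUnion_affineOpens (U := (⊤ : X.Opens))).mp
    (by simpa using (isCompact_univ : IsCompact (Set.univ : Set X)))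
  haveI : Finite s := hs.to_subtype
  let U : s → X.Opens := fun a => a.1.1
  have hUaff : ∀ a, IsAffineOpen (U a) := fun a => a.1.2
  have hUcov : ∀ x : X, ∃ a, x ∈ U a := by
    intro x
    have hx : x ∈ (⊤ : X.Opens) := trivial
    rw [hcov] at hx
    obtain ⟨i, hx⟩ := Opens.mem_iSup.mp hx
    obtain ⟨hi, hxi⟩ := Opens.mem_iSup.mp hx
    exact ⟨⟨i, hi⟩, hxi⟩
  -- local lifts
  choose ka ga hga using fun a => exists_local_lift F Hs H tr ι hιtr C1 C2 h (hUaff a)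
  cases nonempty_fintype s
  obtain ⟨k₀, hk₀⟩ := IsCofiltered.inf_objs_exists (Finset.univ.image ka)
  have f : ∀ a, k₀ ⟶ ka a := fun a => (hk₀ (Finset.mem_image_of_mem _ (Finset.mem_univ a))).some
  let g₀ : ∀ a, Γ(RefHull.homSh F (Hs k₀), U a) := fun a => postComp (tr (f a)) (ga a)
  have hg₀ : ∀ a, postComp (ι k₀) (g₀ a) = RefHull.ofHom h (U a) := by
    intro a
    rw [postComp_comp, hιtr, hga]
  -- overlaps
  have hcpt : ∀ p : s × s, IsCompact ((U p.1 ⊓ U p.2 : X.Opens) : Set X) := fun p =>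
    QuasiSeparatedSpace.inter_isCompact _ _ (U p.1).2 (hUaff p.1).isCompact (U p.2).2
      (hUaff p.2).isCompact
  choose sab hsab hcovab using fun p : s × s =>
    isCompact_iff_finite_and_eq_biUnion_affineOpens.mp (hcpt p)
  haveI : ∀ p, Finite (sab p) := fun p => (hsab p).to_subtype
  have hle : ∀ (p : s × s) (V : sab p), V.1.1 ≤ U p.1 ⊓ U p.2 := by
    intro p V
    rw [hcovab p]
    exact le_iSup₂ (f := fun (i : X.affineOpens) (_ : i ∈ sab p) => (i : X.Opens)) V.1 V.2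
  have hLU : ∀ e : (Σ p : s × s, sab p), ∃ (k₁ : K) (ψ₁ : k₁ ⟶ k₀), ∀ (k₂ : K) (ψ₂ : k₂ ⟶ k₁),
      postComp (tr (ψ₂ ≫ ψ₁)) ((RefHull.homSh F (Hs k₀)).presheaf.map
        (homOfLE ((hle e.1 e.2).trans inf_le_left)).op (g₀ e.1.1)) =
      postComp (tr (ψ₂ ≫ ψ₁)) ((RefHull.homSh F (Hs k₀)).presheaf.map
        (homOfLE ((hle e.1 e.2).trans inf_le_right)).op (g₀ e.1.2)) := by
    intro e
    apply exists_stage_eq F Hs H tr ι C2 e.2.1.2 k₀
    rw [postComp_res, postComp_res, hg₀, hg₀, ofHom_res, ofHom_res]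
  choose k₁ ψ₁ h₁ using hLU
  obtain ⟨k, ψ, χ, hχ⟩ := IsCofiltered.wideCospan ψ₁
  let gk : ∀ a, Γ(RefHull.homSh F (Hs k), U a) := fun a => postComp (tr ψ) (g₀ a)
  have hgk : ∀ a b, (RefHull.homSh F (Hs k)).presheaf.map
      (homOfLE (inf_le_left : U a ⊓ U b ≤ U a)).op (gk a) =
      (RefHull.homSh F (Hs k)).presheaf.map
        (homOfLE (inf_le_right : U a ⊓ U b ≤ U b)).op (gk b) := by
    intro a b
    apply eq_of_locally_eq_pts
    intro x hx
    have hx' : x ∈ (U a ⊓ U b : X.Opens) := hx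
    rw [hcovab (a, b)] at hx'
    obtain ⟨V, hx'⟩ := Opens.mem_iSup.mp hx'
    obtain ⟨hV, hxV⟩ := Opens.mem_iSup.mp hx'
    refine ⟨V.1, hle (a, b) ⟨V, hV⟩, hxV, ?_⟩
    rw [res_res, res_res]
    have := h₁ ⟨(a, b), ⟨V, hV⟩⟩ k (χ ⟨(a, b), ⟨V, hV⟩⟩)
    rw [hχ] at this
    rw [postComp_res, postComp_res] at this
    exact this
  obtain ⟨τ, hτ⟩ := exists_hom_of_local U hUcov gk hgk
  refine ⟨k, τ, ?_⟩
  apply Groth.Agent.Lib.Helper48.Conormal.hom_ext_of_basis _ _ {W | ∃ a, W ≤ U a}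
  · rw [Opens.isBasis_iff_nbhd]
    intro O x hx
    obtain ⟨a, ha⟩ := hUcov x
    exact ⟨O ⊓ U a, ⟨a, inf_le_right⟩, ⟨hx, ha⟩, inf_le_left⟩
  · rintro W ⟨a, hW⟩ m
    change (ι k).app W (τ.app W m) = h.app W m
    rw [hτ a W hW m, ← secApp_postComp, postComp_comp, hιtr, hg₀, secApp_ofHom]

end Groth.Agent.Lib.Helper40.HomColim
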