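import Groth.Agent.Lib.Helper40.LimIso

/-!
# Helper40: EGA IV 8.5-type statements for a cofiltered limit `S = lim S_i` of schemes with affine
transition maps, in the form "true on `S` iff true on some `S_j`, `j ⟶ i₀`".
-/

set_option autoImplicit false
universe u

open AlgebraicGeometry CategoryTheory CategoryTheory.Limits Opposite

namespace Groth.Agent.Lib.Helper40.LimStage

open Groth.Agent.Lib.Lead Groth.Agent.Lib.Helper40.FFDescent Groth.Agent.Lib.Helper40.FFDescent2
  Groth.Agent.Lib.Helper40.LimCore Groth.Agent.Lib.Helper40.LimIso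

variable {I : Type u} [SmallCategory I] [IsCofiltered I]
  (D : I ⥤ Scheme.{u}) (c : Cone D) (hc : IsLimit c)
  [∀ (i j : I) (f : i ⟶ j), IsAffineHom (D.map f)] (i₀ : I)

/-- the natural isomorphism `(c.π.app j)^* (D.map φ)^* ≅ (c.π.app i₀)^*`. -/
noncomputable def pullIso {j : I} (φ : j ⟶ i₀) :
    Scheme.Modules.pullback (D.map φ) ⋙ Scheme.Modules.pullback (c.π.app j) ≅
      Scheme.Modules.pullback (c.π.app i₀) :=
  Scheme.Modules.pullbackComp (c.π.app j) (D.map φ) ≪≫ Scheme.Modules.pullbackCongr (c.w φ)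

variable {F₀ G₀ : (D.obj i₀).Modules}

theorem map_eq_zero_of_stage (u : F₀ ⟶ G₀) {j : I} (φ : j ⟶ i₀)
    (h : (Scheme.Modules.pullback (D.map φ)).map u = 0) :
    (Scheme.Modules.pullback (c.π.app i₀)).map u = 0 :=
  map_eq_zero_of_comp u (c.π.app j) (D.map φ) (c.π.app i₀) (c.w φ) h

theorem epi_of_stage (u : F₀ ⟶ G₀) {j : I} (φ : j ⟶ i₀)
    (h : Epi ((Scheme.Modules.pullback (D.map φ)).map u)) :
    Epi ((Scheme.Modules.pullback (c.π.app i₀)).map u) := by
  have h1 : Epi ((Scheme.Modules.pullback (c.π.app j)).map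
      ((Scheme.Modules.pullback (D.map φ)).map u)) := inferInstance
  exact epi_map_of_natIso (pullIso D c i₀ φ) u h1

theorem isIso_of_stage (u : F₀ ⟶ G₀) {j : I} (φ : j ⟶ i₀)
    (h : IsIso ((Scheme.Modules.pullback (D.map φ)).map u)) :
    IsIso ((Scheme.Modules.pullback (c.π.app i₀)).map u) := by
  have h1 : IsIso ((Scheme.Modules.pullback (c.π.app j)).map
      ((Scheme.Modules.pullback (D.map φ)).map u)) := inferInstance
  exact isIso_map_of_natIso (pullIso D c i₀ φ) u h1

section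

variable [CompactSpace (D.obj i₀)] [F₀.IsQuasicoherent] [G₀.IsQuasicoherent]

include hc in
theorem exists_stage_map_eq_zero (hF : CohB1.IsFT F₀) (u : F₀ ⟶ G₀)
    (h : (Scheme.Modules.pullback (c.π.app i₀)).map u = 0) :
    ∃ (j : I) (φ : j ⟶ i₀), (Scheme.Modules.pullback (D.map φ)).map u = 0 := by
  let B' : Over i₀ ⥤ Scheme.{u} := Over.forget i₀ ⋙ D
  let b' : Cone B' := c.whisker (Over.forget i₀)
  have hb' : IsLimit b' := (Functor.Initial.isLimitWhiskerEquiv (Over.forget i₀) c).symm hc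
  haveI : ∀ {j k : Over i₀} (φ : j ⟶ k), IsAffineHom (B'.map φ) := fun {j k} φ => by
    dsimp [B']; infer_instance
  haveI hcpt : CompactSpace (D.obj i₀) := inferInstance
  haveI : CompactSpace (B'.obj (Over.mk (𝟙 i₀))) := hcpt
  obtain ⟨j, _, hj⟩ := LimCore.exists_stage_map_eq_zero B' b' hb' (fun j => D.map j.hom)
    (fun {j k} φ => by
      change D.map φ.left ≫ D.map k.hom = D.map j.hom
      rw [← D.map_comp, Over.w])
    (c.π.app i₀) (fun j => c.w j.hom) hF u (Over.mk (𝟙 i₀)) h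
  exact ⟨j.left, j.hom, hj⟩

include hc in
theorem exists_stage_epi (hG : CohB1.IsFT G₀) (u : F₀ ⟶ G₀)
    (h : Epi ((Scheme.Modules.pullback (c.π.app i₀)).map u)) :
    ∃ (j : I) (φ : j ⟶ i₀), Epi ((Scheme.Modules.pullback (D.map φ)).map u) := by
  let B' : Over i₀ ⥤ Scheme.{u} := Over.forget i₀ ⋙ D
  let b' : Cone B' := c.whisker (Over.forget i₀)
  have hb' : IsLimit b' := (Functor.Initial.isLimitWhiskerEquiv (Over.forget i₀) c).symm hc
  haveI : ∀ {j k : Over i₀} (φ : j ⟶ k), IsAffineHom (B'.map φ) := fun {j k} φ => by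
    dsimp [B']; infer_instance
  haveI : ∀ j : Over i₀, CompactSpace (B'.obj j) := fun j =>
    QuasiCompact.compactSpace_of_compactSpace (D.map j.hom)
  obtain ⟨j, _, hj⟩ := LimIso.exists_stage_epi B' b' hb' (fun j => D.map j.hom)
    (fun {j k} φ => by
      change D.map φ.left ≫ D.map k.hom = D.map j.hom
      rw [← D.map_comp, Over.w])
    (c.π.app i₀) (fun j => c.w j.hom) u hG h (Over.mk (𝟙 i₀))
  exact ⟨j.left, j.hom, hj⟩

include hc in
theorem exists_stage_isIso (hF : CohB1.IsFT F₀) (hG : CohB1.IsFP G₀) (u : F₀ ⟶ G₀)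
    (h : IsIso ((Scheme.Modules.pullback (c.π.app i₀)).map u)) :
    ∃ (j : I) (φ : j ⟶ i₀), IsIso ((Scheme.Modules.pullback (D.map φ)).map u) := by
  let B' : Over i₀ ⥤ Scheme.{u} := Over.forget i₀ ⋙ D
  let b' : Cone B' := c.whisker (Over.forget i₀)
  have hb' : IsLimit b' := (Functor.Initial.isLimitWhiskerEquiv (Over.forget i₀) c).symm hc
  haveI : ∀ {j k : Over i₀} (φ : j ⟶ k), IsAffineHom (B'.map φ) := fun {j k} φ => by
    dsimp [B']; infer_instance
  haveI : ∀ j : Over i₀, CompactSpace (B'.obj j) := fun j =>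
    QuasiCompact.compactSpace_of_compactSpace (D.map j.hom)
  obtain ⟨j, hj⟩ := LimIso.exists_stage_isIso B' b' hb' (fun j => D.map j.hom)
    (fun {j k} φ => by
      change D.map φ.left ≫ D.map k.hom = D.map j.hom
      rw [← D.map_comp, Over.w])
    (c.π.app i₀) (fun j => c.w j.hom) u hF hG h
  exact ⟨j.left, j.hom, hj⟩

end

end Groth.Agent.Lib.Helper40.LimStage
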