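import Groth.Agent.Lib.Helper40.HomColim2
import Groth.Agent.Lib.Helper40.LimStage

set_option autoImplicit false
universe u

open AlgebraicGeometry CategoryTheory Opposite TopologicalSpace

namespace Groth.Agent.Lib.Helper40.HomColim

open Scheme.Modules Groth.Agent.Lib.Helper48.OmegaAff Groth.Agent.Lib.Lead.QCohAff

section Beta

variable {X Y Z : Scheme.{u}} (q : Z ⟶ Y) (p : Y ⟶ X)

theorem unit_comp (G : X.Modules) :
    (pullbackPushforwardAdjunction p).unit.app G ≫
      (pushforward p).map ((pullbackPushforwardAdjunction q).unit.app ((pullback p).obj G)) ≫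
      (pushforwardComp q p).hom.app ((pullback q).obj ((pullback p).obj G)) =
    (pullbackPushforwardAdjunction (q ≫ p)).unit.app G ≫
      (pushforward (q ≫ p)).map ((pullbackComp q p).inv.app G) := by
  have h := unit_conjugateEquiv
    ((pullbackPushforwardAdjunction p).comp (pullbackPushforwardAdjunction q))
    (pullbackPushforwardAdjunction (q ≫ p)) (pullbackComp q p).inv G
  rw [conjugateEquiv_pullbackComp_inv, Adjunction.comp_unit_app] at h
  simpa using h

variable (r : Z ⟶ X) (hr : q ≫ p = r) (G : X.Modules)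

/-- `q^* p^* ≅ r^*` for `r = q ≫ p` -/
noncomputable def compIso : pullback p ⋙ pullback q ≅ pullback r :=
  pullbackComp q p ≪≫ pullbackCongr hr

/-- the canonical map `p^*G ⟶ q_* r^* G` -/
noncomputable def theta : (pullback p).obj G ⟶ (pushforward q).obj ((pullback r).obj G) :=
  (pullbackPushforwardAdjunction q).unit.app _ ≫
    (pushforward q).map ((compIso q p r hr).hom.app G)

/-- the canonical map `p_* p^* G ⟶ r_* r^* G` -/
noncomputable def beta :
    (pushforward p).obj ((pullback p).obj G) ⟶ (pushforward r).obj ((pullback r).obj G) :=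
  (pushforward p).map (theta q p r hr G) ≫ (pushforwardComp q p).hom.app _ ≫
    (pushforwardCongr hr).hom.app _

include hr in
theorem preimage_le (V : X.Opens) : r ⁻¹ᵁ V ≤ q ⁻¹ᵁ (p ⁻¹ᵁ V) := by
  subst hr
  exact le_rfl

theorem pushforwardCongr_rfl_hom_app {A B : Scheme.{u}} (f : A ⟶ B) (M : A.Modules) :
    (pushforwardCongr (rfl : f = f)).hom.app M = 𝟙 _ := by
  ext U x
  rw [pushforwardCongr_hom_app_app]
  simp

theorem pullbackCongr_rfl_hom_app {A B : Scheme.{u}} (f : A ⟶ B) (M : B.Modules) :
    (pullbackCongr (rfl : f = f)).hom.app M = 𝟙 _ := rfl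

theorem unit_beta :
    (pullbackPushforwardAdjunction p).unit.app G ≫ beta q p r hr G =
      (pullbackPushforwardAdjunction r).unit.app G := by
  subst hr
  have h := unit_comp q p G
  unfold beta theta compIso
  rw [pushforwardCongr_rfl_hom_app, Category.comp_id, Functor.map_comp, Category.assoc]
  have hnat := (pushforwardComp q p).hom.naturality
    (((pullbackComp q p ≪≫ pullbackCongr rfl).hom.app G))
  dsimp only [Functor.comp_map] at hnat
  rw [hnat, ← Category.assoc, ← Category.assoc]
  rw [Category.assoc ((pullbackPushforwardAdjunction p).unit.app G)]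
  refine (congrArg (fun t => t ≫ (pushforward (q ≫ p)).map
    ((pullbackComp q p ≪≫ pullbackCongr rfl).hom.app G)) h).trans ?_
  rw [Category.assoc, ← Functor.map_comp]
  simp [pullbackCongr_rfl_hom_app]

theorem beta_pullRes (V : X.Opens) (n : Γ(G, V)) :
    (beta q p r hr G).app V (pullRes p G (le_refl _) n) = pullRes r G (le_refl _) n := by
  rw [pullRes_apply, pullRes_apply]
  erw [res_self, res_self]
  exact congr($(unit_beta q p r hr G).app V n)

theorem beta_smul (V : X.Opens) (a : Γ(Y, p ⁻¹ᵁ V))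
    (x : Γ((pullback p).obj G, p ⁻¹ᵁ V)) :
    (beta q p r hr G).app V (a • x) =
      (show Γ((pushforward r).obj ((pullback r).obj G), V) from
        (q.appLE (p ⁻¹ᵁ V) (r ⁻¹ᵁ V) (preimage_le q p r hr V) a •
          (show Γ((pullback r).obj G, r ⁻¹ᵁ V) from (beta q p r hr G).app V x))) := by
  subst hr
  have e : ∀ y : Γ((pullback p).obj G, p ⁻¹ᵁ V), (beta q p (q ≫ p) rfl G).app V y =
      ((compIso q p (q ≫ p) rfl).hom.app G).app (q ⁻¹ᵁ (p ⁻¹ᵁ V))
        (((pullbackPushforwardAdjunction q).unit.app ((pullback p).obj G)).app (p ⁻¹ᵁ V) y) := by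
    intro y
    unfold beta
    rw [pushforwardCongr_rfl_hom_app]
    rfl
  rw [e, e, Scheme.Modules.Hom.app_smul]
  have h1 : (a • ((pullbackPushforwardAdjunction q).unit.app ((pullback p).obj G)).app (p ⁻¹ᵁ V) x :
      Γ((pushforward q).obj ((pullback q).obj ((pullback p).obj G)), p ⁻¹ᵁ V)) =
      (show Γ((pullback q).obj ((pullback p).obj G), q ⁻¹ᵁ (p ⁻¹ᵁ V)) from
        q.app (p ⁻¹ᵁ V) a • (show Γ((pullback q).obj ((pullback p).obj G), q ⁻¹ᵁ (p ⁻¹ᵁ V)) from
          ((pullbackPushforwardAdjunction q).unit.app ((pullback p).obj G)).app (p ⁻¹ᵁ V) x)) := rfl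
  rw [h1]
  erw [Scheme.Modules.Hom.app_smul]
  rw [Scheme.Hom.app_eq_appLE]
  rfl

end Beta

end Groth.Agent.Lib.Helper40.HomColim
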