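import Groth.Agent.Lib.Helper40.TensorColim
import Groth.Agent.Lib.Helper40.AffBC3
import Groth.Agent.Lib.Helper40.ClPull
import Mathlib.AlgebraicGeometry.AffineTransitionLimit
import Groth.Agent.Lib.Helper48.Conormal4
import Groth.Agent.Lib.Lead.CohAff3

set_option autoImplicit false
universe u

open AlgebraicGeometry CategoryTheory CategoryTheory.Limits TensorProduct Opposite

namespace Groth.Agent.Lib.Helper40.LimSec

open Scheme.Modules Groth.Agent.Lib.Helper48.OmegaAff Groth.Agent.Lib.Helper40.AffBC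
  Groth.Agent.Lib.Helper40.TensorColim

section Aff

variable {J : Type u} [SmallCategory J] [IsCofiltered J] (E : J ⥤ Scheme.{u})
  [∀ j, IsAffine (E.obj j)] (e : Cone E) (he : IsLimit e) [IsAffine e.pt]
  {X : Scheme.{u}} (a : ∀ j, E.obj j ⟶ X) (ha : ∀ {j k : J} (φ : j ⟶ k), E.map φ ≫ a k = a j)
  (a' : e.pt ⟶ X) (ha' : ∀ j, e.π.app j ≫ a j = a')
  (G : X.Modules) [G.IsQuasicoherent] {U : X.Opens} (hU : IsAffineOpen U)
  (hUa : ∀ j, ⊤ ≤ (a j) ⁻¹ᵁ U) (hUa' : ⊤ ≤ a' ⁻¹ᵁ U)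

include he hU ha ha' in
theorem exists_stage_pullRes_eq_zero (n : Γ(G, U)) (h : pullRes a' G hUa' n = 0) :
    ∃ j : J, ∀ (k : J) (_ : k ⟶ j), pullRes (a k) G (hUa k) n = 0 := by
  classical
  let R := Γ(X, U)
  let A : J → Type u := fun j => Γ(E.obj j, ⊤)
  let A' : Type u := Γ(e.pt, ⊤)
  letI : ∀ j, Algebra R (A j) := fun j => ((a j).appLE U ⊤ (hUa j)).hom.toAlgebra
  letI : Algebra R A' := (a'.appLE U ⊤ hUa').hom.toAlgebra
  -- compatibility of structure maps
  have hρ : ∀ {j k : J} (φ : j ⟶ k), (a k).appLE U ⊤ (hUa k) ≫ (E.map φ).appTop =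
      (a j).appLE U ⊤ (hUa j) := by
    intro j k φ
    have := Scheme.Hom.appLE_comp_appLE (E.map φ) (a k) U ⊤ ⊤ (hUa k) le_top
    rw [Scheme.Hom.appTop, Scheme.Hom.app_eq_appLE]
    exact this.trans (appLE_congr_hom (ha φ) U ⊤ _ _)
  have hρ' : ∀ j : J, (a j).appLE U ⊤ (hUa j) ≫ (e.π.app j).appTop = a'.appLE U ⊤ hUa' := by
    intro j
    have := Scheme.Hom.appLE_comp_appLE (e.π.app j) (a j) U ⊤ ⊤ (hUa j) le_top
    rw [Scheme.Hom.appTop, Scheme.Hom.app_eq_appLE]
    exact this.trans (appLE_congr_hom (ha' j) U ⊤ _ _)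
  let tr : ∀ {j k : J}, (j ⟶ k) → (A k →ₐ[R] A j) := fun {j k} φ =>
    { (E.map φ).appTop.hom with
      commutes' := fun r => congr($(hρ φ) r) }
  let ι : ∀ j, A j →ₐ[R] A' := fun j =>
    { (e.π.app j).appTop.hom with
      commutes' := fun r => congr($(hρ' j) r) }
  have htr : ∀ {j k l : J} (φ : j ⟶ k) (ψ : k ⟶ l) (x : A l),
      tr (φ ≫ ψ) x = tr φ (tr ψ x) := by
    intro j k l φ ψ x
    change (E.map (φ ≫ ψ)).appTop x = (E.map φ).appTop ((E.map ψ).appTop x)
    rw [E.map_comp, Scheme.Hom.comp_appTop]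
    rfl
  have hι : ∀ {j k : J} (φ : j ⟶ k) (x : A k), ι j (tr φ x) = ι k x := by
    intro j k φ x
    change (e.π.app j).appTop ((E.map φ).appTop x) = (e.π.app k).appTop x
    rw [← e.w φ, Scheme.Hom.comp_appTop]
    rfl
  have hsurj : ∀ s : A', ∃ (j : J) (b : A j), ι j b = s := by
    intro s
    obtain ⟨j, t, ht⟩ := exists_appTop_π_eq_of_isAffine_of_isLimit E e he s
    exact ⟨j, t, ht⟩
  have hinj : ∀ (j : J) (b : A j), ι j b = 0 → ∃ (k : J) (φ : k ⟶ j), tr φ b = 0 := by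
    intro j b hb
    obtain ⟨k, φ, hk⟩ := exists_appTop_map_eq_zero_of_isAffine_of_isLimit E e he j b hb
    exact ⟨k, φ, hk⟩
  -- translate the hypothesis
  have h1 : (1 : A') ⊗ₜ[R] n = 0 := by
    apply (pullTensorHom_bijective a' G (isAffineOpen_top e.pt) hU hUa').1
    rw [pullTensorHom_tmul, one_smul, h, map_zero]
  obtain ⟨j, hj⟩ := exists_stage_one_tmul_eq_zero (N := Γ(G, U)) tr ι htr hι hsurj hinj n h1
  refine ⟨j, fun k φ => ?_⟩
  have h2 : (1 : A k) ⊗ₜ[R] n = 0 := by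
    have := congrArg (rT Γ(G, U) (tr φ)) hj
    simpa [rT] using this
  have h3 := congrArg (pullTensorHom (a k) G (hUa k)) h2
  rw [pullTensorHom_tmul, one_smul, map_zero] at h3
  exact h3

end Aff

/-- restriction of `pullRes` -/
theorem pullRes_res {X Y : Scheme.{u}} (f : X ⟶ Y) (G : Y.Modules) {U U₁ : X.Opens} {V : Y.Opens}
    (e : U ≤ f ⁻¹ᵁ V) (h : U₁ ≤ U) (m : Γ(G, V)) :
    ((Scheme.Modules.pullback f).obj G).presheaf.map (homOfLE h).op (pullRes f G e m) =
      pullRes f G (h.trans e) m := by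
  rw [pullRes_apply, pullRes_apply]
  exact Groth.Agent.Lib.Lead.QCohAff.res_res ((Scheme.Modules.pullback f).obj G) e h _

/-- A morphism out of the pullback of a quasi-coherent module vanishes as soon as it kills the
pulled back sections of a generating family over an affine open containing the image. -/
theorem pullback_map_eq_zero_of_generators {Y X : Scheme.{u}} (f : Y ⟶ X) {F G : X.Modules}
    [F.IsQuasicoherent] (u : F ⟶ G) {U : X.Opens} (hU : IsAffineOpen U) (hUf : ⊤ ≤ f ⁻¹ᵁ U)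
    (S : Set Γ(F, U)) (hS : Submodule.span Γ(X, U) S = ⊤)
    (h : ∀ s ∈ S, pullRes f G hUf (u.app U s) = 0) :
    (Scheme.Modules.pullback f).map u = 0 := by
  apply Groth.Agent.Lib.Helper48.Conormal.hom_ext_of_basis _ _ _ (Y.isBasis_affineOpens)
  rintro V (hV : IsAffineOpen V) t
  have eV : V ≤ f ⁻¹ᵁ U := le_top.trans hUf
  -- vanishing of pulled-back sections over `V`
  have h1 : ∀ m : Γ(F, U), pullRes f G eV (u.app U m) = 0 := by
    intro m
    have hm : m ∈ Submodule.span Γ(X, U) S := by rw [hS]; trivial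
    induction hm using Submodule.span_induction with
    | mem s hs =>
      rw [← pullRes_res f G hUf le_top, h s hs, map_zero]
    | zero => rw [map_zero, map_zero]
    | add x y _ _ hx hy => rw [map_add, map_add, hx, hy, add_zero]
    | smul r x _ hx =>
      rw [Scheme.Modules.Hom.app_smul, pullRes_smul, hx, smul_zero]
  obtain ⟨x, rfl⟩ := (pullTensorHom_bijective f F hV hU eV).2 t
  letI := (f.appLE U V eV).hom.toAlgebra
  induction x using TensorProduct.induction_on with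
  | zero => simp
  | tmul b m =>
    rw [pullTensorHom_tmul, Scheme.Modules.Hom.app_smul, Groth.Agent.Lib.Helper40.ClPull.pullRes_nat, h1, smul_zero]
    simp
  | add x y hx hy =>
    rw [map_add, map_add, hx, hy]
    simp

section AffMor

variable {J : Type u} [SmallCategory J] [IsCofiltered J] (E : J ⥤ Scheme.{u})
  [∀ j, IsAffine (E.obj j)] (e : Cone E) (he : IsLimit e) [IsAffine e.pt]
  {X : Scheme.{u}} (a : ∀ j, E.obj j ⟶ X) (ha : ∀ {j k : J} (φ : j ⟶ k), E.map φ ≫ a k = a j)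
  (a' : e.pt ⟶ X) (ha' : ∀ j, e.π.app j ≫ a j = a')
  {F G : X.Modules} [F.IsQuasicoherent] [G.IsQuasicoherent] (hF : CohB1.IsFT F) (u : F ⟶ G)
  {U : X.Opens} (hU : IsAffineOpen U)
  (hUa : ∀ j, ⊤ ≤ (a j) ⁻¹ᵁ U) (hUa' : ⊤ ≤ a' ⁻¹ᵁ U)

include he hU ha ha' hF hUa hUa' in
theorem exists_stage_map_eq_zero_aff (h : (Scheme.Modules.pullback a').map u = 0) :
    ∃ j : J, (Scheme.Modules.pullback (a j)).map u = 0 := by
  classical
  haveI : Module.Finite Γ(X, U) Γ(F, U) :=
    Groth.Agent.Lib.Lead.CohAff.finite_sections_of_isFiniteType F hF hU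
  obtain ⟨S, hS⟩ := (Module.Finite.fg_top : (⊤ : Submodule Γ(X, U) Γ(F, U)).FG)
  have h1 : ∀ s : Γ(F, U), ∃ j : J, ∀ (k : J) (_ : k ⟶ j),
      pullRes (a k) G (hUa k) (u.app U s) = 0 := by
    intro s
    apply exists_stage_pullRes_eq_zero E e he a ha a' ha' G hU hUa hUa'
    rw [← Groth.Agent.Lib.Helper40.ClPull.pullRes_nat, h]
    rfl
  choose js hjs using h1
  obtain ⟨j, hj⟩ := IsCofiltered.inf_objs_exists (S.image js)
  refine ⟨j, pullback_map_eq_zero_of_generators (a j) u hU (hUa j) (S : Set Γ(F, U)) hS ?_⟩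
  intro s hs
  obtain ⟨φ⟩ := hj (Finset.mem_image_of_mem js hs)
  exact hjs s j φ

end AffMor

end Groth.Agent.Lib.Helper40.LimSec
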