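import Groth.Agent.Lib.Helper40.TensorColim

/-!
# Helper40: projectivity of `A ⊗ M` (M finitely presented) descends to a finite stage of a filtered
colimit of algebras `A = colim A_j`
-/

set_option autoImplicit false
universe u v w

open CategoryTheory TensorProduct

namespace Groth.Agent.Lib.Helper40.TensorColim

section

variable {R : Type u} [CommRing R]
variable {J : Type w} [Category J] [IsCofiltered J]
variable {A : J → Type v} [∀ j, CommRing (A j)] [∀ j, Algebra R (A j)]
variable (tr : ∀ {j k : J}, (j ⟶ k) → (A k →ₐ[R] A j))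
variable {A' : Type v} [CommRing A'] [Algebra R A'] (ι : ∀ j, A j →ₐ[R] A')

omit [IsCofiltered J] in
theorem rT_tr_comp
    (htr : ∀ {j k l : J} (φ : j ⟶ k) (ψ : k ⟶ l) (x : A l), tr (φ ≫ ψ) x = tr φ (tr ψ x))
    (M : Type*) [AddCommGroup M] [Module R M] {j k l : J} (φ : j ⟶ k) (ψ : k ⟶ l)
    (t : A l ⊗[R] M) : rT M (tr (φ ≫ ψ)) t = rT M (tr φ) (rT M (tr ψ) t) := by
  induction t using TensorProduct.induction_on with
  | zero => simp
  | tmul b m => simp [rT, htr]
  | add s t hs ht => simp only [map_add, hs, ht]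

omit [IsCofiltered J] in
theorem rT_ι_tr
    (hι : ∀ {j k : J} (φ : j ⟶ k) (x : A k), ι j (tr φ x) = ι k x)
    (M : Type*) [AddCommGroup M] [Module R M] {j k : J} (φ : j ⟶ k)
    (t : A k ⊗[R] M) : rT M (ι j) (rT M (tr φ) t) = rT M (ι k) t := by
  induction t using TensorProduct.induction_on with
  | zero => simp
  | tmul b m => simp [rT, hι]
  | add s t hs ht => simp only [map_add, hs, ht]

/-- `rT` commutes with `lTensor`. -/
theorem rT_lTensor {B C : Type v} [CommRing B] [CommRing C] [Algebra R B] [Algebra R C]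
    {M N : Type*} [AddCommGroup M] [Module R M] [AddCommGroup N] [Module R N]
    (g : B →ₐ[R] C) (f : M →ₗ[R] N) (t : B ⊗[R] M) :
    rT N g (LinearMap.lTensor B f t) = LinearMap.lTensor C f (rT M g t) := by
  induction t using TensorProduct.induction_on with
  | zero => simp
  | tmul b m => simp [rT]
  | add s t hs ht => simp only [map_add, hs, ht]

/-- **General vanishing**: an element of `A_j ⊗ N` dying in `A' ⊗ N` dies at a finite stage. -/
theorem exists_stage_tensor_eq_zero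
    (htr : ∀ {j k l : J} (φ : j ⟶ k) (ψ : k ⟶ l) (x : A l), tr (φ ≫ ψ) x = tr φ (tr ψ x))
    (hι : ∀ {j k : J} (φ : j ⟶ k) (x : A k), ι j (tr φ x) = ι k x)
    (hsurj : ∀ a : A', ∃ (j : J) (b : A j), ι j b = a)
    (hinj : ∀ (j : J) (b : A j), ι j b = 0 → ∃ (k : J) (φ : k ⟶ j), tr φ b = 0)
    (N : Type*) [AddCommGroup N] [Module R N] (j : J) (w : A j ⊗[R] N)
    (h : rT N (ι j) w = 0) : ∃ (k : J) (φ : k ⟶ j), rT N (tr φ) w = 0 := by
  classical
  let π : (N →₀ R) →ₗ[R] N := Finsupp.linearCombination R id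
  have hπ : Function.Surjective π := fun m => ⟨Finsupp.single m 1, by simp [π]⟩
  let K := LinearMap.ker π
  have hex : Function.Exact K.subtype π := LinearMap.exact_subtype_ker_map π
  obtain ⟨w', rfl⟩ := LinearMap.lTensor_surjective (A j) hπ w
  have h1 : LinearMap.lTensor A' π (rT (N →₀ R) (ι j) w') = 0 := by
    rw [← rT_lTensor (M := N →₀ R) (N := N) (ι j) π w', h]
  obtain ⟨z, hz⟩ := (lTensor_exact (M := ↥K) (f := K.subtype) A' hex hπ _).mp h1
  obtain ⟨j₁, z₁, rfl⟩ := exists_stage_lift tr ι hι hsurj K z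
  let j₂ := IsCofiltered.min j j₁
  let φ₁ : j₂ ⟶ j := IsCofiltered.minToLeft j j₁
  let φ₂ : j₂ ⟶ j₁ := IsCofiltered.minToRight j j₁
  set d : A j₂ ⊗[R] (N →₀ R) := rT (N →₀ R) (tr φ₁) w' -
    LinearMap.lTensor (A j₂) K.subtype (rT K (tr φ₂) z₁) with hd
  have hd0 : rT (N →₀ R) (ι j₂) d = 0 := by
    rw [hd, map_sub, rT_ι_tr tr ι hι, rT_lTensor (M := ↥K) (N := N →₀ R) (ι j₂) K.subtype (rT K (tr φ₂) z₁),
      rT_ι_tr tr ι hι, hz, sub_self]
  obtain ⟨k, φ, hk⟩ := exists_stage_free tr ι htr hι hinj N j₂ d hd0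
  refine ⟨k, φ ≫ φ₁, ?_⟩
  rw [hd, map_sub, sub_eq_zero, rT_lTensor (M := ↥K) (N := N →₀ R) (tr φ) K.subtype (rT K (tr φ₂) z₁)] at hk
  rw [rT_lTensor (M := N →₀ R) (N := N) (tr (φ ≫ φ₁)) π w', rT_tr_comp tr htr, hk, ← LinearMap.comp_apply,
    ← LinearMap.lTensor_comp]
  have : π ∘ₗ K.subtype = 0 := by
    ext x
    exact x.2
  rw [this, LinearMap.lTensor_zero, LinearMap.zero_apply]

/-- finitely many elements at once -/
theorem exists_stage_tensor_finset
    (htr : ∀ {j k l : J} (φ : j ⟶ k) (ψ : k ⟶ l) (x : A l), tr (φ ≫ ψ) x = tr φ (tr ψ x))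
    (hι : ∀ {j k : J} (φ : j ⟶ k) (x : A k), ι j (tr φ x) = ι k x)
    (hsurj : ∀ a : A', ∃ (j : J) (b : A j), ι j b = a)
    (hinj : ∀ (j : J) (b : A j), ι j b = 0 → ∃ (k : J) (φ : k ⟶ j), tr φ b = 0)
    (N : Type*) [AddCommGroup N] [Module R N] (j : J) (s : Finset (A j ⊗[R] N))
    (h : ∀ w ∈ s, rT N (ι j) w = 0) : ∃ (k : J) (φ : k ⟶ j), ∀ w ∈ s, rT N (tr φ) w = 0 := by
  classical
  induction s using Finset.induction_on with
  | empty => exact ⟨j, 𝟙 j, by simp⟩
  | insert a s ha ih =>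
    obtain ⟨k, φ, hk⟩ := ih (fun b hb => h b (Finset.mem_insert_of_mem hb))
    have h1 : rT N (ι k) (rT N (tr φ) a) = 0 := by
      rw [rT_ι_tr tr ι hι]; exact h a (Finset.mem_insert_self _ _)
    obtain ⟨l, ψ, hl⟩ := exists_stage_tensor_eq_zero tr ι htr hι hsurj hinj N k _ h1
    refine ⟨l, ψ ≫ φ, ?_⟩
    intro b hb
    rw [rT_tr_comp tr htr]
    rcases Finset.mem_insert.mp hb with rfl | hb
    · exact hl
    · rw [hk b hb, map_zero]

/-- lifting finitely many elements to a common stage -/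
theorem exists_stage_lift_fin
    (hι : ∀ {j k : J} (φ : j ⟶ k) (x : A k), ι j (tr φ x) = ι k x)
    (hsurj : ∀ a : A', ∃ (j : J) (b : A j), ι j b = a)
    (M : Type*) [AddCommGroup M] [Module R M] {n : ℕ} (z : Fin n → A' ⊗[R] M) :
    ∃ (j : J) (zj : Fin n → A j ⊗[R] M), ∀ l, rT M (ι j) (zj l) = z l := by
  classical
  choose jl zl hzl using fun l => exists_stage_lift tr ι hι hsurj M (z l)
  obtain ⟨j, hj⟩ := IsCofiltered.inf_objs_exists (Finset.univ.image jl)
  have f : ∀ l, j ⟶ jl l := fun l => (hj (Finset.mem_image_of_mem _ (Finset.mem_univ l))).some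
  refine ⟨j, fun l => rT M (tr (f l)) (zl l), fun l => ?_⟩
  rw [rT_ι_tr tr ι hι, hzl]

/-- `rT` commutes with base change of a linear map. -/
theorem rT_baseChange {B C : Type v} [CommRing B] [CommRing C] [Algebra R B] [Algebra R C]
    {M N : Type*} [AddCommGroup M] [Module R M] [AddCommGroup N] [Module R N]
    (g : B →ₐ[R] C) (f : M →ₗ[R] N) (t : B ⊗[R] M) :
    rT N g (LinearMap.baseChange B f t) = LinearMap.baseChange C f (rT M g t) := by
  induction t using TensorProduct.induction_on with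
  | zero => simp
  | tmul b m => simp [rT]
  | add s t hs ht => simp only [map_add, hs, ht]

/-- **Projectivity descends to a finite stage.** -/
theorem exists_stage_projective
    (htr : ∀ {j k l : J} (φ : j ⟶ k) (ψ : k ⟶ l) (x : A l), tr (φ ≫ ψ) x = tr φ (tr ψ x))
    (hι : ∀ {j k : J} (φ : j ⟶ k) (x : A k), ι j (tr φ x) = ι k x)
    (hsurj : ∀ a : A', ∃ (j : J) (b : A j), ι j b = a)
    (hinj : ∀ (j : J) (b : A j), ι j b = 0 → ∃ (k : J) (φ : k ⟶ j), tr φ b = 0)
    (M : Type v) [AddCommGroup M] [Module R M] [Module.FinitePresentation R M]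
    (h : Module.Projective A' (A' ⊗[R] M)) (j₀ : J) :
    ∃ (k : J) (_ : k ⟶ j₀), Module.Projective (A k) (A k ⊗[R] M) := by
  classical
  obtain ⟨n, m, f, g, hf, hfg⟩ := Module.FinitePresentation.exists_fin' R M
  let P := Fin n → R
  let x : Fin n → M := fun l => f (Pi.single l 1)
  have hfx : ∀ p : P, f p = ∑ l, p l • x l := by
    intro p
    conv_lhs => rw [← Finset.univ_sum_single p]
    rw [map_sum]
    refine Finset.sum_congr rfl fun l _ => ?_
    rw [show (Pi.single l (p l) : P) = p l • Pi.single l (1 : R) by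
      rw [← Pi.single_smul, smul_eq_mul, mul_one], map_smul]
  -- the section at the colimit
  have hsurjA' : Function.Surjective (LinearMap.baseChange A' f) :=
    LinearMap.lTensor_surjective A' hf
  obtain ⟨s', hs'⟩ := Module.projective_lifting_property (LinearMap.baseChange A' f)
    LinearMap.id hsurjA'
  let v' : Fin n → A' ⊗[R] P := fun l => s' ((1 : A') ⊗ₜ[R] x l)
  obtain ⟨j₁, v₁, hv₁⟩ := exists_stage_lift_fin tr ι hι hsurj P v'
  -- move to a stage below `j₀`
  let j₂ := IsCofiltered.min j₁ j₀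
  let α : j₂ ⟶ j₁ := IsCofiltered.minToLeft j₁ j₀
  let β : j₂ ⟶ j₀ := IsCofiltered.minToRight j₁ j₀
  let v₂ : Fin n → A j₂ ⊗[R] P := fun l => rT P (tr α) (v₁ l)
  have hv₂ : ∀ l, rT P (ι j₂) (v₂ l) = v' l := fun l => by
    rw [rT_ι_tr tr ι hι, hv₁]
  have hs'R : ∀ (r : R) (y : A' ⊗[R] M), s' (r • y) = r • s' y := by
    intro r y
    rw [← algebraMap_smul A' r y, map_smul, algebraMap_smul]
  -- relations
  let W : Fin m → A j₂ ⊗[R] P := fun i => ∑ l, (g (Pi.single i 1) l) • v₂ l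
  have hW : ∀ i, rT P (ι j₂) (W i) = 0 := by
    intro i
    simp only [W, map_sum, map_smul, hv₂, v']
    have h1 : ∑ l, g (Pi.single i 1) l • s' ((1 : A') ⊗ₜ[R] x l) =
        s' ((1 : A') ⊗ₜ[R] f (g (Pi.single i 1))) := by
      rw [hfx, TensorProduct.tmul_sum, map_sum]
      refine Finset.sum_congr rfl fun l _ => ?_
      rw [TensorProduct.tmul_smul, hs'R]
    rw [h1, hfg.apply_apply_eq_zero, TensorProduct.tmul_zero, map_zero]
  obtain ⟨j₃, γ, hγ⟩ := exists_stage_tensor_finset tr ι htr hι hsurj hinj P j₂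
    (Finset.univ.image W) (by
      intro w hw
      obtain ⟨i, -, rfl⟩ := Finset.mem_image.mp hw
      exact hW i)
  -- section condition
  let v₃ : Fin n → A j₃ ⊗[R] P := fun l => rT P (tr γ) (v₂ l)
  have hv₃ : ∀ l, rT P (ι j₃) (v₃ l) = v' l := fun l => by
    rw [rT_ι_tr tr ι hι, hv₂]
  let Z : Fin n → A j₃ ⊗[R] M := fun l =>
    LinearMap.baseChange (A j₃) f (v₃ l) - (1 : A j₃) ⊗ₜ[R] x l
  have hZ : ∀ l, rT M (ι j₃) (Z l) = 0 := by
    intro l
    simp only [Z, map_sub]
    rw [rT_baseChange (M := P) (N := M) (ι j₃) f (v₃ l), hv₃]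
    have : LinearMap.baseChange A' f (v' l) = (1 : A') ⊗ₜ[R] x l := by
      have := congrArg (fun F => F ((1 : A') ⊗ₜ[R] x l)) hs'
      simpa [v'] using this
    rw [this]
    simp [rT]
  obtain ⟨k, δ, hδ⟩ := exists_stage_tensor_finset tr ι htr hι hsurj hinj M j₃
    (Finset.univ.image Z) (by
      intro w hw
      obtain ⟨l, -, rfl⟩ := Finset.mem_image.mp hw
      exact hZ l)
  refine ⟨k, δ ≫ γ ≫ β, ?_⟩
  -- data at stage `k`
  let v : Fin n → A k ⊗[R] P := fun l => rT P (tr δ) (v₃ l)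
  have hrel : ∀ i, ∑ l, (g (Pi.single i 1) l) • v l = 0 := by
    intro i
    have h1 := hγ (W i) (Finset.mem_image_of_mem _ (Finset.mem_univ i))
    have h2 := congrArg (rT P (tr δ)) h1
    simpa [W, v, v₃, map_sum] using h2
  have hsec : ∀ l, LinearMap.baseChange (A k) f (v l) = (1 : A k) ⊗ₜ[R] x l := by
    intro l
    have h1 := hδ (Z l) (Finset.mem_image_of_mem _ (Finset.mem_univ l))
    simp only [Z, map_sub, sub_eq_zero] at h1
    rw [rT_baseChange (M := P) (N := M) (tr δ) f (v₃ l)] at h1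
    rw [h1]
    simp [rT]
  -- the map `P → A_k ⊗ P`
  let S₀ : P →ₗ[R] A k ⊗[R] P := Fintype.linearCombination R v
  have hS₀ : ∀ p : P, S₀ p = ∑ l, p l • v l := fun p =>
    Fintype.linearCombination_apply R v p
  have hS₀g : ∀ q, S₀ (g q) = 0 := by
    intro q
    have : S₀ ∘ₗ g = 0 := by
      apply LinearMap.pi_ext'
      intro i
      ext
      simp only [LinearMap.coe_comp, LinearMap.coe_single, Function.comp_apply,
        LinearMap.zero_comp, LinearMap.zero_apply]
      rw [hS₀]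
      exact hrel i
    exact congrArg (fun F => F q) this
  have hker : LinearMap.ker f ≤ LinearMap.ker S₀ := by
    intro p hp
    obtain ⟨q, rfl⟩ := (hfg p).1 hp
    exact hS₀g q
  let s₀ : M →ₗ[R] A k ⊗[R] P :=
    (Submodule.liftQ (LinearMap.ker f) S₀ hker) ∘ₗ
      (LinearMap.quotKerEquivOfSurjective f hf).symm.toLinearMap
  have hs₀ : ∀ p : P, s₀ (f p) = S₀ p := by
    intro p
    have : (LinearMap.quotKerEquivOfSurjective f hf).symm (f p) =
        Submodule.Quotient.mk p := by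
      rw [LinearEquiv.symm_apply_eq]
      rfl
    simp only [s₀, LinearMap.coe_comp, LinearEquiv.coe_coe, Function.comp_apply, this,
      Submodule.liftQ_apply]
  let s : A k ⊗[R] M →ₗ[A k] A k ⊗[R] P := LinearMap.liftBaseChange (A k) s₀
  have H : (LinearMap.baseChange (A k) f) ∘ₗ s = LinearMap.id := by
    apply TensorProduct.AlgebraTensorModule.curry_injective
    ext mm
    obtain ⟨p, rfl⟩ := hf mm
    simp only [TensorProduct.AlgebraTensorModule.curry_apply, LinearMap.restrictScalars_comp,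
      TensorProduct.curry_apply, LinearMap.coe_comp, LinearMap.coe_restrictScalars,
      Function.comp_apply, LinearMap.id_coe, id_eq, s, LinearMap.liftBaseChange_tmul, one_smul]
    rw [hs₀, hS₀, map_sum, hfx, TensorProduct.tmul_sum]
    refine Finset.sum_congr rfl fun l _ => ?_
    rw [← algebraMap_smul (A k) (p l) (v l), map_smul, hsec, algebraMap_smul,
      TensorProduct.tmul_smul]
  exact Module.Projective.of_split s (LinearMap.baseChange (A k) f) H

end

end Groth.Agent.Lib.Helper40.TensorColim
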