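import Groth.Agent.Lib.Helper40.HomColim3
import Groth.Agent.Lib.Helper40.ProjColim
import Groth.Agent.Lib.Helper40.LimSec

set_option autoImplicit false
universe u

open AlgebraicGeometry CategoryTheory Opposite TopologicalSpace TensorProduct

namespace Groth.Agent.Lib.Helper40.HomColim

open Scheme.Modules Groth.Agent.Lib.Helper48.OmegaAff Groth.Agent.Lib.Lead.QCohAff
  Groth.Agent.Lib.Helper40.AffBC Groth.Agent.Lib.Helper40.TensorColim

section Beta2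

variable {X Y Z : Scheme.{u}} (q : Z ⟶ Y) (p : Y ⟶ X) (r : Z ⟶ X) (hr : q ≫ p = r) (G : X.Modules)

/-- `q^♯` as an algebra map over `Γ(X, V)` -/
noncomputable def qAlg (V : X.Opens) :
    letI := (p.appLE V (p ⁻¹ᵁ V) le_rfl).hom.toAlgebra
    letI := (r.appLE V (r ⁻¹ᵁ V) le_rfl).hom.toAlgebra
    Γ(Y, p ⁻¹ᵁ V) →ₐ[Γ(X, V)] Γ(Z, r ⁻¹ᵁ V) :=
  letI := (p.appLE V (p ⁻¹ᵁ V) le_rfl).hom.toAlgebra
  letI := (r.appLE V (r ⁻¹ᵁ V) le_rfl).hom.toAlgebra
  { (q.appLE (p ⁻¹ᵁ V) (r ⁻¹ᵁ V) (preimage_le q p r hr V)).hom with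
    commutes' := fun a => by
      have := Scheme.Hom.appLE_comp_appLE q p V (p ⁻¹ᵁ V) (r ⁻¹ᵁ V) le_rfl
        (preimage_le q p r hr V)
      exact congr($(this.trans (appLE_congr_hom hr V _ _ _)) a) }

theorem qAlg_apply (V : X.Opens) (a : Γ(Y, p ⁻¹ᵁ V)) :
    qAlg q p r hr V a = q.appLE (p ⁻¹ᵁ V) (r ⁻¹ᵁ V) (preimage_le q p r hr V) a := rfl

theorem beta_pullTensorHom (V : X.Opens) :
    letI := (p.appLE V (p ⁻¹ᵁ V) le_rfl).hom.toAlgebra
    letI := (r.appLE V (r ⁻¹ᵁ V) le_rfl).hom.toAlgebra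
    ∀ w : Γ(Y, p ⁻¹ᵁ V) ⊗[Γ(X, V)] Γ(G, V),
    (beta q p r hr G).app V (pullTensorHom p G (le_refl _) w) =
      pullTensorHom r G (le_refl _) (rT Γ(G, V) (qAlg q p r hr V) w) := by
  letI := (p.appLE V (p ⁻¹ᵁ V) le_rfl).hom.toAlgebra
  letI := (r.appLE V (r ⁻¹ᵁ V) le_rfl).hom.toAlgebra
  intro w
  induction w using TensorProduct.induction_on with
  | zero =>
    rw [map_zero, map_zero, map_zero]
    exact map_zero ((beta q p r hr G).app V).hom
  | tmul a m =>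
    rw [pullTensorHom_tmul]
    erw [beta_smul q p r hr G V a]
    rw [beta_pullRes]
    simp only [rT, LinearMap.rTensor_tmul, AlgHom.toLinearMap_apply]
    rw [pullTensorHom_tmul]
    rfl
  | add x y hx hy =>
    rw [map_add, map_add, map_add, ← hx, ← hy]
    exact map_add ((beta q p r hr G).app V).hom _ _

theorem beta_congr {q₁ : Z ⟶ Y} (hq : q = q₁) (hr₁ : q₁ ≫ p = r) :
    beta q p r hr G = beta q₁ p r hr₁ G := by
  subst hq
  rfl

theorem adj_beta (F : X.Modules) (h : (pullback p).obj F ⟶ (pullback p).obj G) :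
    (pullbackPushforwardAdjunction r).homEquiv F ((pullback r).obj G)
      ((compIso q p r hr).inv.app F ≫ (pullback q).map h ≫ (compIso q p r hr).hom.app G) =
    (pullbackPushforwardAdjunction p).homEquiv F ((pullback p).obj G) h ≫ beta q p r hr G := by
  subst hr
  rw [Adjunction.homEquiv_unit, Adjunction.homEquiv_unit]
  have h1 := unit_comp q p F
  have hCinv : (compIso q p (q ≫ p) rfl).inv.app F = (pullbackComp q p).inv.app F := by
    unfold compIso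
    rw [Iso.trans_inv, NatTrans.comp_app]
    exact Category.id_comp _
  have hnatP := (pushforwardComp q p).hom.naturality
    ((pullback q).map h ≫ (compIso q p (q ≫ p) rfl).hom.app G)
  have hnatη := (pullbackPushforwardAdjunction q).unit.naturality h
  dsimp only [Functor.comp_map, Functor.id_map, Functor.id_obj, Functor.comp_obj] at hnatP hnatη
  unfold beta theta
  rw [pushforwardCongr_rfl_hom_app, Category.comp_id, hCinv]
  rw [Functor.map_comp, ← Category.assoc ((pullbackPushforwardAdjunction (q ≫ p)).unit.app F), ← h1]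
  simp only [Category.assoc]
  rw [← hnatP]
  simp only [← Category.assoc]
  congr 1
  simp only [Category.assoc, ← Functor.map_comp]
  congr 2
  rw [Functor.map_comp, ← Category.assoc, ← hnatη, Category.assoc]

end Beta2

section BetaComp

variable {X Y Z W : Scheme.{u}} (q' : W ⟶ Z) (q : Z ⟶ Y) (p : Y ⟶ X) (r : Z ⟶ X) (hr : q ≫ p = r)
  (r' : W ⟶ X) (hr' : q' ≫ r = r') (G : X.Modules)

include hr hr' in
theorem comp_w : (q' ≫ q) ≫ p = r' := by
  rw [Category.assoc, hr, hr']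

theorem rT_qAlg_comp (V : X.Opens) :
    letI := (p.appLE V (p ⁻¹ᵁ V) le_rfl).hom.toAlgebra
    letI := (r.appLE V (r ⁻¹ᵁ V) le_rfl).hom.toAlgebra
    letI := (r'.appLE V (r' ⁻¹ᵁ V) le_rfl).hom.toAlgebra
    ∀ w : Γ(Y, p ⁻¹ᵁ V) ⊗[Γ(X, V)] Γ(G, V),
      rT Γ(G, V) (qAlg q' r r' hr' V) (rT Γ(G, V) (qAlg q p r hr V) w) =
        rT Γ(G, V) (qAlg (q' ≫ q) p r' (comp_w q' q p r hr r' hr') V) w := by
  letI := (p.appLE V (p ⁻¹ᵁ V) le_rfl).hom.toAlgebra
  letI := (r.appLE V (r ⁻¹ᵁ V) le_rfl).hom.toAlgebra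
  letI := (r'.appLE V (r' ⁻¹ᵁ V) le_rfl).hom.toAlgebra
  intro w
  induction w using TensorProduct.induction_on with
  | zero => simp
  | tmul a m =>
    simp only [rT, LinearMap.rTensor_tmul, AlgHom.toLinearMap_apply]
    congr 1
    rw [qAlg_apply, qAlg_apply, qAlg_apply]
    exact congr($(Scheme.Hom.appLE_comp_appLE q' q (p ⁻¹ᵁ V) (r ⁻¹ᵁ V) (r' ⁻¹ᵁ V)
      (preimage_le q p r hr V) (preimage_le q' r r' hr' V)) a)
  | add x y hx hy => simp only [map_add, hx, hy]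

theorem beta_comp [IsAffineHom p] [G.IsQuasicoherent] :
    beta q p r hr G ≫ beta q' r r' hr' G =
      beta (q' ≫ q) p r' (comp_w q' q p r hr r' hr') G := by
  apply Groth.Agent.Lib.Helper48.Conormal.hom_ext_of_basis _ _ _ X.isBasis_affineOpens
  intro V hV s
  letI := (p.appLE V (p ⁻¹ᵁ V) le_rfl).hom.toAlgebra
  letI := (r.appLE V (r ⁻¹ᵁ V) le_rfl).hom.toAlgebra
  letI := (r'.appLE V (r' ⁻¹ᵁ V) le_rfl).hom.toAlgebra
  obtain ⟨w, rfl⟩ := (pullTensorHom_bijective p G (hV.preimage p) hV (le_refl _)).2 s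
  change (beta q' r r' hr' G).app V ((beta q p r hr G).app V _) = _
  rw [beta_pullTensorHom, beta_pullTensorHom, beta_pullTensorHom, rT_qAlg_comp]

end BetaComp

section Ring

variable {I : Type u} [SmallCategory I] [IsCofiltered I]
  (D : I ⥤ Scheme.{u}) (c : Limits.Cone D) (hc : Limits.IsLimit c)
  [∀ (i j : I) (f : i ⟶ j), IsAffineHom (D.map f)] (i₀ : I)

theorem preimage_le_π (j : Over i₀) (V : (D.obj i₀).Opens) :
    c.π.app i₀ ⁻¹ᵁ V ≤ c.π.app j.left ⁻¹ᵁ (D.map j.hom ⁻¹ᵁ V) := by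
  rw [← Scheme.Hom.comp_preimage, c.w]

include hc in
theorem exists_appLE_eq_of_isAffineOpen {V : (D.obj i₀).Opens} (hV : IsAffineOpen V)
    (s : Γ(c.pt, c.π.app i₀ ⁻¹ᵁ V)) :
    ∃ (j : Over i₀) (t : Γ(D.obj j.left, D.map j.hom ⁻¹ᵁ V)),
      (c.π.app j.left).appLE (D.map j.hom ⁻¹ᵁ V) (c.π.app i₀ ⁻¹ᵁ V) (preimage_le_π D c i₀ j V) t = s := by
  haveI : ∀ {i j : I} (f : i ⟶ j), IsAffineHom (D.map f) := fun f => inferInstance
  have (j : Over i₀) : IsAffine ((opensDiagram D i₀ V).obj j) := hV.preimage (D.map _)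
  obtain ⟨j, t, hj⟩ := exists_appTop_π_eq_of_isAffine_of_isLimit _ _
    (isLimitOpensCone D c hc i₀ V) ((c.π.app i₀ ⁻¹ᵁ V).topIso.inv s)
  refine ⟨j, (D.map j.hom ⁻¹ᵁ V).topIso.hom t, ?_⟩
  have hj' : ((c.π.app j.left).resLE (D.map j.hom ⁻¹ᵁ V) (c.π.app i₀ ⁻¹ᵁ V)
      (preimage_le_π D c i₀ j V)).app ⊤ t = (c.π.app i₀ ⁻¹ᵁ V).topIso.inv s := hj
  have h3 : (c.π.app i₀ ⁻¹ᵁ V).topIso.inv ((c.π.app j.left).appLE (D.map j.hom ⁻¹ᵁ V)
      (c.π.app i₀ ⁻¹ᵁ V) (preimage_le_π D c i₀ j V) ((D.map j.hom ⁻¹ᵁ V).topIso.hom t)) =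
      (c.π.app i₀ ⁻¹ᵁ V).topIso.inv s := by
    rw [← hj']
    exact (congr($(Scheme.Hom.resLE_app_top (c.π.app j.left)
      (preimage_le_π D c i₀ j V)) t)).symm
  have hinv : ∀ x, (c.π.app i₀ ⁻¹ᵁ V).topIso.hom ((c.π.app i₀ ⁻¹ᵁ V).topIso.inv x) = x :=
    fun x => congr($((c.π.app i₀ ⁻¹ᵁ V).topIso.inv_hom_id) x)
  have h4 := congrArg (c.π.app i₀ ⁻¹ᵁ V).topIso.hom h3
  rw [hinv, hinv] at h4
  exact h4

end Ring

end Groth.Agent.Lib.Helper40.HomColim
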