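import Groth.Agent.Lib.Helper40.HomColim4

set_option autoImplicit false
universe u

open AlgebraicGeometry CategoryTheory CategoryTheory.Limits Opposite TopologicalSpace TensorProduct

namespace Groth.Agent.Lib.Helper40.HomColim

open Scheme.Modules Groth.Agent.Lib.Helper48.OmegaAff Groth.Agent.Lib.Lead.QCohAff
  Groth.Agent.Lib.Helper40.AffBC Groth.Agent.Lib.Helper40.TensorColim

section Sys

variable {I : Type u} [SmallCategory I] [IsCofiltered I]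
  (D : I ⥤ Scheme.{u}) (c : Cone D) (hc : IsLimit c)
  [∀ (i j : I) (f : i ⟶ j), IsAffineHom (D.map f)] (i₀ : I) (G₀ : (D.obj i₀).Modules)

/-- the stage module `(φ_k)_* φ_k^* G₀` on `S_{i₀}` -/
noncomputable abbrev Hs (k : Over i₀) : (D.obj i₀).Modules :=
  (pushforward (D.map k.hom)).obj ((Scheme.Modules.pullback (D.map k.hom)).obj G₀)

/-- the limit module `π_* π^* G₀` on `S_{i₀}` -/
noncomputable abbrev Hlim : (D.obj i₀).Modules :=
  (pushforward (c.π.app i₀)).obj ((Scheme.Modules.pullback (c.π.app i₀)).obj G₀)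

theorem map_w {k' k : Over i₀} (ψ : k' ⟶ k) : D.map ψ.left ≫ D.map k.hom = D.map k'.hom := by
  rw [← D.map_comp, Over.w]

/-- transition maps -/
noncomputable def trH {k' k : Over i₀} (ψ : k' ⟶ k) : Hs D i₀ G₀ k ⟶ Hs D i₀ G₀ k' :=
  beta (D.map ψ.left) (D.map k.hom) (D.map k'.hom) (map_w D i₀ ψ) G₀

/-- maps to the limit module -/
noncomputable def ιH (k : Over i₀) : Hs D i₀ G₀ k ⟶ Hlim D c i₀ G₀ :=
  beta (c.π.app k.left) (D.map k.hom) (c.π.app i₀) (c.w k.hom) G₀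

theorem trH_ιH [G₀.IsQuasicoherent] {k' k : Over i₀} (ψ : k' ⟶ k) :
    trH D i₀ G₀ ψ ≫ ιH D c i₀ G₀ k' = ιH D c i₀ G₀ k := by
  unfold trH ιH
  exact (beta_comp _ _ _ _ _ _ _ _).trans (beta_congr _ _ _ _ _ (c.w ψ.left) _)

include hc in
theorem C12 [G₀.IsQuasicoherent] (V : (D.obj i₀).Opens) (hV : IsAffineOpen V) :
    (∀ t : Γ(Hlim D c i₀ G₀, V), ∃ (k : Over i₀) (tk : Γ(Hs D i₀ G₀ k, V)),
      (ιH D c i₀ G₀ k).app V tk = t) ∧
    (∀ (k : Over i₀) (ε : Γ(Hs D i₀ G₀ k, V)), (ιH D c i₀ G₀ k).app V ε = 0 →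
      ∃ (k₁ : Over i₀) (ψ₁ : k₁ ⟶ k), ∀ (k₂ : Over i₀) (ψ₂ : k₂ ⟶ k₁),
        (trH D i₀ G₀ (ψ₂ ≫ ψ₁)).app V ε = 0) := by
  classical
  haveI : ∀ {i j : I} (f : i ⟶ j), IsAffineHom (D.map f) := fun f => inferInstance
  haveI : IsAffineHom (c.π.app i₀) := isAffineHom_π_app D c hc i₀
  let R := Γ(D.obj i₀, V)
  let A : Over i₀ → Type u := fun k => Γ(D.obj k.left, D.map k.hom ⁻¹ᵁ V)
  let A' : Type u := Γ(c.pt, c.π.app i₀ ⁻¹ᵁ V)
  letI : ∀ k, Algebra R (A k) := fun k =>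
    ((D.map k.hom).appLE V (D.map k.hom ⁻¹ᵁ V) le_rfl).hom.toAlgebra
  letI : Algebra R A' := ((c.π.app i₀).appLE V (c.π.app i₀ ⁻¹ᵁ V) le_rfl).hom.toAlgebra
  let trA : ∀ {k' k : Over i₀}, (k' ⟶ k) → (A k →ₐ[R] A k') := fun {k' k} ψ =>
    qAlg (D.map ψ.left) (D.map k.hom) (D.map k'.hom) (map_w D i₀ ψ) V
  let ιA : ∀ k, A k →ₐ[R] A' := fun k =>
    qAlg (c.π.app k.left) (D.map k.hom) (c.π.app i₀) (c.w k.hom) V
  have htr : ∀ {j k l : Over i₀} (φ : j ⟶ k) (ψ : k ⟶ l) (x : A l),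
      trA (φ ≫ ψ) x = trA φ (trA ψ x) := by
    intro j k l φ ψ x
    change (D.map (φ ≫ ψ).left).appLE _ _ _ x =
      (D.map φ.left).appLE _ _ _ ((D.map ψ.left).appLE _ _ _ x)
    have := Scheme.Hom.appLE_comp_appLE (D.map φ.left) (D.map ψ.left) (D.map l.hom ⁻¹ᵁ V)
      (D.map k.hom ⁻¹ᵁ V) (D.map j.hom ⁻¹ᵁ V) (preimage_le _ _ _ (map_w D i₀ ψ) V)
      (preimage_le _ _ _ (map_w D i₀ φ) V)
    refine (congr($(this.trans (appLE_congr_hom ?_ _ _ _ _)) x)).symm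
    rw [← D.map_comp]
    rfl
  have hι : ∀ {j k : Over i₀} (φ : j ⟶ k) (x : A k), ιA j (trA φ x) = ιA k x := by
    intro j k φ x
    change (c.π.app j.left).appLE _ _ _ ((D.map φ.left).appLE _ _ _ x) =
      (c.π.app k.left).appLE _ _ _ x
    have := Scheme.Hom.appLE_comp_appLE (c.π.app j.left) (D.map φ.left) (D.map k.hom ⁻¹ᵁ V)
      (D.map j.hom ⁻¹ᵁ V) (c.π.app i₀ ⁻¹ᵁ V) (preimage_le _ _ _ (map_w D i₀ φ) V)
      (preimage_le _ _ _ (c.w j.hom) V)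
    exact congr($(this.trans (appLE_congr_hom (c.w φ.left) _ _ _ _)) x)
  have hsurj : ∀ a : A', ∃ (k : Over i₀) (b : A k), ιA k b = a := by
    intro a
    obtain ⟨j, t, ht⟩ := exists_appLE_eq_of_isAffineOpen D c hc i₀ hV a
    exact ⟨j, t, ht⟩
  have hinj : ∀ (k : Over i₀) (b : A k), ιA k b = 0 → ∃ (k' : Over i₀) (ψ : k' ⟶ k),
      trA ψ b = 0 := by
    intro k b hb
    have hcomp : IsCompact (X := D.obj k.left) (D.map k.hom ⁻¹ᵁ V) :=
      (hV.preimage (D.map k.hom)).isCompact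
    have hb' : (c.π.app k.left).app (D.map k.hom ⁻¹ᵁ V) b = 0 := by
      have hle : c.π.app k.left ⁻¹ᵁ (D.map k.hom ⁻¹ᵁ V) ≤ c.π.app i₀ ⁻¹ᵁ V := by
        rw [← Scheme.Hom.comp_preimage, c.w]
      have h2 : (c.π.app k.left).app (D.map k.hom ⁻¹ᵁ V) b =
          c.pt.presheaf.map (homOfLE hle).op
            ((c.π.app k.left).appLE (D.map k.hom ⁻¹ᵁ V) (c.π.app i₀ ⁻¹ᵁ V)
              (preimage_le_π D c i₀ k V) b) := by
        have h3 : (c.π.app k.left).appLE (D.map k.hom ⁻¹ᵁ V) (c.π.app i₀ ⁻¹ᵁ V)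
            (preimage_le_π D c i₀ k V) ≫ c.pt.presheaf.map (homOfLE hle).op =
            (c.π.app k.left).app (D.map k.hom ⁻¹ᵁ V) := by
          rw [Scheme.Hom.app_eq_appLE]
          exact Scheme.Hom.appLE_map _ _ _
        exact (congr($h3 b)).symm
      rw [h2]
      change c.pt.presheaf.map (homOfLE hle).op (ιA k b) = 0
      rw [hb, map_zero]
    obtain ⟨j, f, hf⟩ := exists_app_map_eq_zero_of_isLimit D c hc hcomp b hb'
    refine ⟨Over.mk (f ≫ k.hom), Over.homMk f rfl, ?_⟩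
    change (D.map f).appLE (D.map k.hom ⁻¹ᵁ V) (D.map (f ≫ k.hom) ⁻¹ᵁ V) _ b = 0
    rw [Scheme.Hom.appLE]
    rw [ConcreteCategory.comp_apply, hf, map_zero]
  constructor
  · intro t
    obtain ⟨z, rfl⟩ := (pullTensorHom_bijective (c.π.app i₀) G₀ (hV.preimage (c.π.app i₀)) hV
      (le_refl _)).2 t
    obtain ⟨k, zk, rfl⟩ := exists_stage_lift trA ιA hι hsurj Γ(G₀, V) z
    refine ⟨k, pullTensorHom (D.map k.hom) G₀ (le_refl _) zk, ?_⟩
    exact beta_pullTensorHom (c.π.app k.left) (D.map k.hom) (c.π.app i₀) (c.w k.hom) G₀ V zk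
  · intro k ε hε
    obtain ⟨w, rfl⟩ := (pullTensorHom_bijective (D.map k.hom) G₀ (hV.preimage (D.map k.hom)) hV
      (le_refl _)).2 ε
    have h1 := beta_pullTensorHom (c.π.app k.left) (D.map k.hom) (c.π.app i₀) (c.w k.hom) G₀ V w
    have h2 : rT Γ(G₀, V) (ιA k) w = 0 := by
      apply (pullTensorHom_bijective (c.π.app i₀) G₀ (hV.preimage (c.π.app i₀)) hV
        (le_refl _)).1
      rw [map_zero]
      exact h1.symm.trans hε
    obtain ⟨k₁, ψ₁, h3⟩ := exists_stage_tensor_eq_zero trA ιA htr hι hsurj hinj Γ(G₀, V) k w h2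
    refine ⟨k₁, ψ₁, fun k₂ ψ₂ => ?_⟩
    have h4 := beta_pullTensorHom (D.map (ψ₂ ≫ ψ₁).left) (D.map k.hom) (D.map k₂.hom)
      (map_w D i₀ (ψ₂ ≫ ψ₁)) G₀ V w
    refine h4.trans ?_
    have h5 : rT Γ(G₀, V) (trA (ψ₂ ≫ ψ₁)) w = 0 := by
      rw [rT_tr_comp trA htr, h3, map_zero]
    exact (congrArg _ h5).trans (map_zero _)

include hc in
/-- **EGA IV 8.5.2 (surjectivity)**: every homomorphism between the pullbacks to the limit comes
from a finite stage. -/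
theorem exists_hom_stage [CompactSpace (D.obj i₀)] [QuasiSeparatedSpace (D.obj i₀)]
    (F₀ : (D.obj i₀).Modules)
    [SheafOfModules.IsFinitePresentation (R := (D.obj i₀).ringCatSheaf) F₀]
    [G₀.IsQuasicoherent]
    (h : (Scheme.Modules.pullback (c.π.app i₀)).obj F₀ ⟶
      (Scheme.Modules.pullback (c.π.app i₀)).obj G₀) :
    ∃ (j : I) (φ : j ⟶ i₀) (hj : (Scheme.Modules.pullback (D.map φ)).obj F₀ ⟶
        (Scheme.Modules.pullback (D.map φ)).obj G₀),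
      ((Scheme.Modules.pullbackComp (c.π.app j) (D.map φ) ≪≫
          Scheme.Modules.pullbackCongr (c.w φ)).app F₀).inv ≫
        (Scheme.Modules.pullback (c.π.app j)).map hj ≫
          ((Scheme.Modules.pullbackComp (c.π.app j) (D.map φ) ≪≫
            Scheme.Modules.pullbackCongr (c.w φ)).app G₀).hom = h := by
  obtain ⟨k, hk, hfac⟩ := exists_factor F₀ (Hs D i₀ G₀) (Hlim D c i₀ G₀)
    (fun ψ => trH D i₀ G₀ ψ) (ιH D c i₀ G₀) (fun ψ => trH_ιH D c i₀ G₀ ψ)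
    (fun V hV => (C12 D c hc i₀ G₀ V hV).1) (fun V hV => (C12 D c hc i₀ G₀ V hV).2)
    ((pullbackPushforwardAdjunction (c.π.app i₀)).homEquiv F₀ _ h)
  refine ⟨k.left, k.hom, ((pullbackPushforwardAdjunction (D.map k.hom)).homEquiv F₀ _).symm hk, ?_⟩
  apply ((pullbackPushforwardAdjunction (c.π.app i₀)).homEquiv F₀ _).injective
  have h1 := adj_beta (c.π.app k.left) (D.map k.hom) (c.π.app i₀) (c.w k.hom) G₀ F₀
    (((pullbackPushforwardAdjunction (D.map k.hom)).homEquiv F₀ _).symm hk)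
  rw [Equiv.apply_symm_apply] at h1
  exact h1.trans hfac

end Sys

end Groth.Agent.Lib.Helper40.HomColim
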