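import Groth.Agent.Lib.Helper40.HomColim2

set_option autoImplicit false
universe u v w

open AlgebraicGeometry CategoryTheory Opposite TopologicalSpace

namespace Groth.Agent.Lib.Helper40.HomColim

open Groth.Agent.Lib.Helper64.HomSh Groth.Agent.Lib.Lead.QCohAff Groth.Agent.Lib.Lead.SheafGlue

variable {X : Scheme.{u}} (F : X.Modules)
  {K : Type v} [Category.{w} K] [IsCofiltered K]
  (Hs : K → X.Modules) (H : X.Modules)
  (tr : ∀ {k' k : K}, (k' ⟶ k) → (Hs k ⟶ Hs k')) (ι : ∀ k, Hs k ⟶ H)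
  (C2 : ∀ (V : X.Opens), IsAffineOpen V → ∀ (k : K) (ε : Γ(Hs k, V)), (ι k).app V ε = 0 →
    ∃ (k₁ : K) (ψ₁ : k₁ ⟶ k), ∀ (k₂ : K) (ψ₂ : k₂ ⟶ k₁), (tr (ψ₂ ≫ ψ₁)).app V ε = 0)

omit [IsCofiltered K] in
theorem postComp_ofHom {G G' : X.Modules} (φ : F ⟶ G) (τ : G ⟶ G') (U : X.Opens) :
    postComp τ (RefHull.ofHom φ U) = RefHull.ofHom (φ ≫ τ) U := by
  apply homSh_ext_secApp
  intro W hW m
  rw [secApp_postComp, secApp_ofHom, secApp_ofHom]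
  rfl

include C2 in
/-- **Abstract compactness, injectivity part** -/
theorem exists_stage_hom_eq [CompactSpace X] [QuasiSeparatedSpace X]
    [SheafOfModules.IsFinitePresentation (R := X.ringCatSheaf) F] (k : K) (h h' : F ⟶ Hs k)
    (hh : h ≫ ι k = h' ≫ ι k) :
    ∃ (k₁ : K) (ψ₁ : k₁ ⟶ k), h ≫ tr ψ₁ = h' ≫ tr ψ₁ := by
  classical
  obtain ⟨s, hs, hcov⟩ := (isCompact_iff_finite_and_eq_biUnion_affineOpens (U := (⊤ : X.Opens))).mp
    (by simpa using (isCompact_univ : IsCompact (Set.univ : Set X)))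
  haveI : Finite s := hs.to_subtype
  let U : s → X.Opens := fun a => a.1.1
  have hUaff : ∀ a, IsAffineOpen (U a) := fun a => a.1.2
  have hUcov : ∀ x : X, ∃ a, x ∈ U a := by
    intro x
    have hx : x ∈ (⊤ : X.Opens) := trivial
    rw [hcov] at hx
    obtain ⟨i, hx⟩ := Opens.mem_iSup.mp hx
    obtain ⟨hi, hxi⟩ := Opens.mem_iSup.mp hx
    exact ⟨⟨i, hi⟩, hxi⟩
  have hL : ∀ a : s, ∃ (k₁ : K) (ψ₁ : k₁ ⟶ k), ∀ (k₂ : K) (ψ₂ : k₂ ⟶ k₁),
      postComp (tr (ψ₂ ≫ ψ₁)) (RefHull.ofHom h (U a)) =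
      postComp (tr (ψ₂ ≫ ψ₁)) (RefHull.ofHom h' (U a)) := by
    intro a
    apply exists_stage_eq F Hs H tr ι C2 (hUaff a) k
    rw [postComp_ofHom, postComp_ofHom, hh]
  choose k₁ ψ₁ h₁ using hL
  obtain ⟨k', ψ, χ, hχ⟩ := IsCofiltered.wideCospan ψ₁
  refine ⟨k', ψ, ?_⟩
  apply Groth.Agent.Lib.Helper48.Conormal.hom_ext_of_basis _ _ {W | ∃ a, W ≤ U a}
  · rw [Opens.isBasis_iff_nbhd]
    intro O x hx
    obtain ⟨a, ha⟩ := hUcov x
    exact ⟨O ⊓ U a, ⟨a, inf_le_right⟩, ⟨hx, ha⟩, inf_le_left⟩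
  · rintro W ⟨a, hW⟩ m
    have := h₁ a k' (χ a)
    rw [hχ, postComp_ofHom, postComp_ofHom] at this
    have h2 := congrArg (fun g => secApp g hW m) this
    simp only [secApp_ofHom] at h2
    exact h2

end Groth.Agent.Lib.Helper40.HomColim
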