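import Groth.Agent.Lib.Helper94.KosDivDefs

/-!
# `I·J ⊆ I` as a morphism of ideal modules (for helper94, S15901)
-/

set_option autoImplicit false
universe u
open CategoryTheory CategoryTheory.Limits AlgebraicGeometry Opposite TopologicalSpace
open Groth.Agent.Lib.Lead.Inv Groth.Agent.Lib.Helper94.KosDiv

namespace Groth.Agent.Lib.Helper40.KosDivINC

variable {X : Scheme.{u}}

open Groth.Agent.Lib.Helper22.IdealModAff in
theorem exists_incl (I J : X.IdealSheafData) :
    ∃ jI : ClSub.idealMod (I * J) ⟶ ClSub.idealMod I,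
      jI ≫ ClSub.idealModι I = ClSub.idealModι (I * J) := by
  have w : ClSub.idealModι (I * J) ≫ ClSub.toSubscheme I = 0 := by
    refine Groth.Agent.Lib.Helper14.LogSub.hom_ext_of_basis _ _ _ X.isBasis_affineOpens ?_
    intro U hU s
    have h1 : incl (I * J) U s ∈ (I * J).ideal ⟨U, hU⟩ :=
      (mem_ideal_iff (I * J) ⟨U, hU⟩ (incl (I * J) U s)).mpr ⟨s, rfl⟩
    have h2 : incl (I * J) U s ∈ I.ideal ⟨U, hU⟩ :=
      Ideal.mul_le_left (I := I.ideal ⟨U, hU⟩) (J := J.ideal ⟨U, hU⟩) h1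
    obtain ⟨t', ht'⟩ := (mem_ideal_iff I ⟨U, hU⟩ (incl (I * J) U s)).mp h2
    have h3 : (ClSub.idealModι (I * J)).app U s = incl I U t' := ht'.symm
    change (ClSub.toSubscheme I).app U ((ClSub.idealModι (I * J)).app U s) = 0
    rw [h3]
    exact Groth.Agent.Lib.Helper2.KerSec.app_kernelι_comp (ClSub.toSubscheme I) U t'
  exact ⟨kernel.lift (ClSub.toSubscheme I) (ClSub.idealModι (I * J)) w, kernel.lift_ι _ _ _⟩

end Groth.Agent.Lib.Helper40.KosDivINC
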