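import Groth.Agent.Lib.Helper40.LGRing
import Mathlib.LinearAlgebra.SymmetricAlgebra.Basic
import Mathlib.Algebra.MvPolynomial.Funext
import Mathlib.RingTheory.Polynomial.Basic

set_option autoImplicit false
universe u v
open MvPolynomial

namespace Groth.Agent.Lib.Helper40.LG

section Sym

variable {R : Type u} [CommRing R] {N : Type v} [AddCommGroup N] [Module R N] {a : ℕ}
  (i' : N →ₗ[R] (Fin a → R)) (π' : (Fin a → R) →ₗ[R] N)

noncomputable def phiW {B : Type*} [CommRing B] [Algebra R B] (w : Fin a → B) : N →ₗ[R] B :=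
  ∑ j : Fin a, (LinearMap.proj j ∘ₗ i').smulRight (w j)

lemma phiW_apply {B : Type*} [CommRing B] [Algebra R B] (w : Fin a → B) (ξ : N) :
    phiW i' w ξ = ∑ j : Fin a, (i' ξ j) • w j := by
  simp [phiW, LinearMap.sum_apply]

noncomputable def Theta : SymmetricAlgebra R N →ₐ[R] MvPolynomial (Fin a) R :=
  SymmetricAlgebra.lift (phiW i' (fun j => (X j : MvPolynomial (Fin a) R)))

lemma aeval_comp_Theta {B : Type*} [CommRing B] [Algebra R B] (w : Fin a → B) :
    (MvPolynomial.aeval w).comp (Theta i') = SymmetricAlgebra.lift (phiW i' w) := by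
  apply SymmetricAlgebra.algHom_ext
  ext ξ
  simp [Theta, phiW_apply]

lemma aeval_Theta {B : Type*} [CommRing B] [Algebra R B] (w : Fin a → B)
    (f : SymmetricAlgebra R N) :
    MvPolynomial.aeval w (Theta i' f) = SymmetricAlgebra.lift (phiW i' w) f := by
  rw [← aeval_comp_Theta]; rfl

include π' in
lemma eq_phiW (h : π' ∘ₗ i' = LinearMap.id) {B : Type*} [CommRing B] [Algebra R B]
    (φ : N →ₗ[R] B) : φ = phiW i' (fun j => φ (π' (Pi.single j 1))) := by
  ext ξ
  rw [phiW_apply]
  have h1 : ξ = π' (i' ξ) := (LinearMap.congr_fun h ξ).symm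
  conv_lhs => rw [h1, ← (Pi.basisFun R (Fin a)).sum_repr (i' ξ)]
  simp [map_sum]

lemma aeval_mk_comp (m : Ideal R) {σ : Type*} (w : σ → R) (P : MvPolynomial σ R) :
    MvPolynomial.aeval (fun j => Ideal.Quotient.mk m (w j)) P =
      Ideal.Quotient.mk m (MvPolynomial.eval w P) := by
  have : (fun j => Ideal.Quotient.mk m (w j)) = (Ideal.Quotient.mk m) ∘ w := rfl
  rw [this, MvPolynomial.aeval_def, ← MvPolynomial.eval₂_id, MvPolynomial.eval₂_comp_left]
  rfl

include π' in
theorem sym_points (hR : LGRing.IsLGRing R) (h : π' ∘ₗ i' = LinearMap.id)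
    (t : Finset (SymmetricAlgebra R N))
    (hloc : ∀ (m : Ideal R) [m.IsMaximal], ∃ φ : N →ₗ[R] (R ⧸ m), ∃ f ∈ t,
      SymmetricAlgebra.lift φ f ≠ 0) :
    ∃ φ : N →ₗ[R] R, ∀ p : Ideal R, p.IsPrime → ∃ f ∈ t, SymmetricAlgebra.lift φ f ∉ p := by
  classical
  let σ := Fin a ⊕ {f // f ∈ t}
  let G : MvPolynomial σ R := ∑ f : {f // f ∈ t},
    MvPolynomial.X (Sum.inr f) * MvPolynomial.rename Sum.inl (Theta i' f.1)
  have hG : ∀ r : σ → R, MvPolynomial.eval r G =
      ∑ f : {f // f ∈ t}, r (Sum.inr f) *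
        MvPolynomial.eval (fun j => r (Sum.inl j)) (Theta i' f.1) := by
    intro r
    simp only [G, map_sum, map_mul, MvPolynomial.eval_X, MvPolynomial.eval_rename]
    rfl
  obtain ⟨r, hr⟩ := exists_isUnit_eval hR G (by
    intro m hm
    obtain ⟨φ, f, hft, hf⟩ := hloc m
    choose wt hwt using fun j => Ideal.Quotient.mk_surjective (I := m) (φ (π' (Pi.single j 1)))
    have hφ : φ = phiW i' (fun j => Ideal.Quotient.mk m (wt j)) := by
      rw [eq_phiW i' π' h φ]
      congr 1
      funext j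
      exact (hwt j).symm
    have hev : SymmetricAlgebra.lift φ f =
        Ideal.Quotient.mk m (MvPolynomial.eval wt (Theta i' f)) := by
      rw [hφ, ← aeval_Theta, aeval_mk_comp]
    refine ⟨Sum.elim wt (Pi.single ⟨f, hft⟩ 1), ?_⟩
    rw [hG]
    simp only [Sum.elim_inr, Sum.elim_inl]
    rw [Finset.sum_eq_single ⟨f, hft⟩]
    · rw [Pi.single_eq_same, one_mul]
      intro hmem'
      apply hf
      rw [hev]
      exact Ideal.Quotient.eq_zero_iff_mem.mpr hmem'
    · intro g _ hg
      rw [Pi.single_eq_of_ne hg, zero_mul]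
    · intro hnot; exact absurd (Finset.mem_univ _) hnot)
  rw [hG] at hr
  refine ⟨phiW i' (fun j => r (Sum.inl j)), ?_⟩
  intro p hp
  by_contra hcon
  simp only [not_exists, not_and, not_not] at hcon
  have hmem : (∑ f : {f // f ∈ t}, r (Sum.inr f) *
      MvPolynomial.eval (fun j => r (Sum.inl j)) (Theta i' f.1)) ∈ p := by
    refine Ideal.sum_mem _ fun f _ => Ideal.mul_mem_left _ _ ?_
    have := hcon f.1 f.2
    rw [← aeval_Theta] at this
    exact this
  exact hp.ne_top (Ideal.eq_top_of_isUnit_mem _ hmem hr)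

noncomputable def Rho : MvPolynomial (Fin a) R →ₐ[R] SymmetricAlgebra R N :=
  MvPolynomial.aeval (fun j => SymmetricAlgebra.ι R N (π' (Pi.single j 1)))

include π' in
lemma Rho_comp_Theta (h : π' ∘ₗ i' = LinearMap.id) :
    (Rho π').comp (Theta i') = AlgHom.id R (SymmetricAlgebra R N) := by
  apply SymmetricAlgebra.algHom_ext
  apply LinearMap.ext
  intro ξ
  have h1 : ξ = π' (i' ξ) := (LinearMap.congr_fun h ξ).symm
  change Rho π' (Theta i' (SymmetricAlgebra.ι R N ξ)) = SymmetricAlgebra.ι R N ξ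
  rw [Theta, SymmetricAlgebra.lift_ι_apply, phiW_apply, map_sum]
  simp only [map_smul, Rho, MvPolynomial.aeval_X]
  conv_rhs => rw [h1, ← (Pi.basisFun R (Fin a)).sum_repr (i' ξ)]
  simp [map_sum]

include π' in
lemma Theta_notMem_map_C (h : π' ∘ₗ i' = LinearMap.id) (m : Ideal R)
    (f : SymmetricAlgebra R N)
    (hf : f ∉ Ideal.map (algebraMap R (SymmetricAlgebra R N)) m) :
    Theta i' f ∉ Ideal.map (MvPolynomial.C : R →+* MvPolynomial (Fin a) R) m := by
  intro hmem
  apply hf
  have h1 : f = Rho π' (Theta i' f) := by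
    have := congrArg (fun g => g f) (Rho_comp_Theta i' π' h)
    exact this.symm
  rw [h1]
  have h2 : Ideal.map (MvPolynomial.C : R →+* MvPolynomial (Fin a) R) m ≤
      Ideal.comap (Rho π').toRingHom (Ideal.map (algebraMap R (SymmetricAlgebra R N)) m) := by
    rw [Ideal.map_le_iff_le_comap]
    intro x hx
    rw [Ideal.mem_comap, Ideal.mem_comap]
    have : (Rho π').toRingHom (MvPolynomial.C x) = algebraMap R (SymmetricAlgebra R N) x := by
      simp [Rho]
    rw [this]
    exact Ideal.mem_map_of_mem _ hx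
  exact h2 hmem

lemma exists_phi_ne_zero (m : Ideal R) [hm : m.IsMaximal] [Infinite (R ⧸ m)]
    (P : MvPolynomial (Fin a) R)
    (hP : P ∉ Ideal.map (MvPolynomial.C : R →+* MvPolynomial (Fin a) R) m) :
    ∃ w : Fin a → R ⧸ m, MvPolynomial.aeval w P ≠ 0 := by
  let _ : Field (R ⧸ m) := Ideal.Quotient.field m
  by_contra hcon
  simp only [not_exists, not_not] at hcon
  apply hP
  rw [MvPolynomial.mem_map_C_iff]
  have h0 : MvPolynomial.map (Ideal.Quotient.mk m) P = 0 := by
    apply MvPolynomial.funext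
    intro w
    rw [MvPolynomial.eval_map, map_zero]
    exact hcon w
  intro d
  have := congrArg (MvPolynomial.coeff d) h0
  rw [MvPolynomial.coeff_map, MvPolynomial.coeff_zero] at this
  exact Ideal.Quotient.eq_zero_iff_mem.mp this

end Sym

end Groth.Agent.Lib.Helper40.LG
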