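import Groth.Agent.Lib.Helper40.FFDescent2
import Groth.Agent.Lib.Helper50.LimBC
import Groth.Agent.Lib.Helper21.CohNoeth
import Groth.Agent.Lib.Helper21.CohSupport
import Groth.Agent.S4357
import Groth.Agent.Lib.Helper21.StalkBiprod
import Groth.Agent.Lib.Helper21.Devissage

set_option autoImplicit false
universe u

open AlgebraicGeometry CategoryTheory CategoryTheory.Limits TensorProduct Opposite

namespace Groth.Agent.Lib.Helper40.LimPres

open Groth.Agent.Lib.Lead Groth.Agent.Lib.Helper40.FFDescent Groth.Agent.Lib.Helper40.FFDescent2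

section Sheaf

variable {S : Scheme.{u}}

theorem isLimitPreserving_genPSp (P : Over S → Prop)
    (hstable : ∀ ⦃T T₀ : Over S⦄ (_ : T ⟶ T₀), P T₀ → P T)
    (hlim : ∀ ⦃I : Type u⦄ [SmallCategory I] [IsCofiltered I] (D : I ⥤ Over S) (c : Cone D),
      IsLimit ((Over.forget S).mapCone c) → (∀ i, IsAffine (D.obj i).left) → IsAffine c.pt.left →
      P c.pt → ∃ i, P (D.obj i)) :
    AlgSp.IsLimitPreserving (FlatFun.genPSp S P) := by
  intro I _ _ D c hc hD hT
  refine ⟨Types.FilteredColimit.isColimitOf _ _ ?_ ?_⟩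
  · intro x
    have hP : P c.pt := (FlatFun.genPSp_nonempty_iff_of_stable P hstable _).1 ⟨x⟩
    obtain ⟨i, hi⟩ := hlim D c hc hD hT hP
    obtain ⟨xi⟩ := FlatFun.genPSp_nonempty_of P hi
    exact ⟨op i, xi, (FlatFun.genPSp_subsingleton S P (op c.pt)).elim _ _⟩
  · intro i j xi xj _
    exact ⟨IsFiltered.max i j, IsFiltered.leftToMax i j, IsFiltered.rightToMax i j,
      (FlatFun.genPSp_subsingleton S P _).elim _ _⟩

end Sheaf

section Geometry

variable {X S : Scheme.{u}} (f : X ⟶ S) [QuasiCompact f]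

theorem exists_stage_preimage_eq_top {I : Type u} [SmallCategory I] [IsCofiltered I]
    (D : I ⥤ Over S) (c : Cone D) (hc : IsLimit ((Over.forget S).mapCone c))
    (hD : ∀ i, IsAffine (D.obj i).left) (U : X.Opens)
    (hU : (pullback.fst f c.pt.hom) ⁻¹ᵁ U = ⊤) :
    ∃ i, (pullback.fst f (D.obj i).hom) ⁻¹ᵁ U = ⊤ := by
  classical
  haveI := hD
  let D' : I ⥤ Scheme.{u} := D ⋙ Over.forget S
  let β : ∀ j, D'.obj j ⟶ S := fun j => (D.obj j).hom
  have hβ : ∀ {j k : I} (φ : j ⟶ k), D'.map φ ≫ β k = β j := fun φ => Over.w (D.map φ)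
  have haff : ∀ (i j : I) (φ : i ⟶ j), IsAffineHom (D'.map φ) := fun i j φ => by
    haveI : IsAffine (D'.obj i) := hD i
    haveI : IsAffine (D'.obj j) := hD j
    infer_instance
  let c' : Cone D' := (Over.forget S).mapCone c
  have hb : ∀ j, c'.π.app j ≫ β j = c.pt.hom := fun j => Over.w (c.π.app j)
  have hpb : IsPullback (pullback.fst f c.pt.hom) (pullback.snd f c.pt.hom) f c.pt.hom :=
    IsPullback.of_hasPullback _ _
  let BD := Groth.Agent.Lib.Helper50.bcDiagram D' β hβ f
  let bc' := Groth.Agent.Lib.Helper50.bcCone D' β hβ f c' c.pt.hom hb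
    (pullback.fst f c.pt.hom) (pullback.snd f c.pt.hom) hpb.w
  haveI : IsConnected I := IsCofiltered.isConnected I
  have hlim : IsLimit bc' :=
    Groth.Agent.Lib.Helper50.isLimitBcCone D' β hβ f c' c.pt.hom hb _ _ hc hpb
  haveI : ∀ {i j : I} (φ : i ⟶ j), IsAffineHom (BD.map φ) := fun {i j} φ => by
    infer_instance
  haveI : ∀ i, CompactSpace (BD.obj i) := fun i => by
    haveI : IsAffine (D'.obj i) := hD i
    exact inferInstanceAs (CompactSpace ↥(pullback f (β i)))
  haveI : Nonempty I := IsCofiltered.nonempty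
  let i₀ : I := Classical.arbitrary I
  obtain ⟨j, fji, hj⟩ := exists_map_eq_top BD bc' hlim (i := i₀)
    ((pullback.fst f (β i₀)) ⁻¹ᵁ U) (by
      rw [← Scheme.Hom.comp_preimage]
      have : bc'.π.app i₀ ≫ pullback.fst f (β i₀) = pullback.fst f c.pt.hom :=
        Groth.Agent.Lib.Helper50.bcConeπ_fst D' β f c' c.pt.hom hb _ _ hpb.w i₀
      rw [this]
      exact hU)
  refine ⟨j, ?_⟩
  rw [← Scheme.Hom.comp_preimage] at hj
  have : BD.map fji ≫ pullback.fst f (β i₀) = pullback.fst f (β j) :=
    Groth.Agent.Lib.Helper50.bcDiagram_map_fst D' β hβ f fji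
  rwa [this] at hj

end Geometry

section Modules

variable {X Y : Scheme.{u}}

theorem isZero_iff_support_eq_empty (M : X.Modules) : IsZero M ↔ CohB1.support M = ∅ := by
  constructor
  · intro h
    rw [Set.eq_empty_iff_forall_notMem]
    intro x hx
    exact hx (Groth.Agent.Lib.Helper21.StalkBiprod.subsingleton_stalk_of_isZero h x)
  · exact Groth.Agent.Lib.Helper21.Devissage.isZero_of_support_eq_empty M

/-- The open complement of the support of a finite type quasi-coherent module. -/
noncomputable def suppCompl (C : X.Modules) [C.IsQuasicoherent] (hC : CohB1.IsFT C) : X.Opens :=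
  ⟨(CohB1.support C)ᶜ, (Groth.Agent.Lib.Helper21.CohSupport.isClosed_support C hC).isOpen_compl⟩

theorem isZero_pullback_iff (h : Y ⟶ X) (C : X.Modules) [C.IsQuasicoherent] (hC : CohB1.IsFT C) :
    IsZero ((Scheme.Modules.pullback h).obj C) ↔ h ⁻¹ᵁ (suppCompl C hC) = ⊤ := by
  haveI : Coh.IsQCoh C := ‹C.IsQuasicoherent›
  rw [isZero_iff_support_eq_empty, Groth.Agent.S4357.aux h C hC]
  constructor
  · intro h1
    ext y
    simp only [TopologicalSpace.Opens.coe_top, Set.mem_univ, iff_true]
    change h y ∉ CohB1.support C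
    intro hy
    have : y ∈ h.base ⁻¹' CohB1.support C := hy
    rw [h1] at this
    exact this
  · intro h1
    rw [Set.eq_empty_iff_forall_notMem]
    intro y hy
    have : y ∈ h ⁻¹ᵁ (suppCompl C hC) := by rw [h1]; trivial
    exact this hy

instance preservesColimits_pullback (h : Y ⟶ X) :
    PreservesColimitsOfSize.{0, 0} (Scheme.Modules.pullback h) :=
  (Scheme.Modules.pullbackPushforwardAdjunction h).leftAdjoint_preservesColimits

theorem epi_pullback_iff {F G : X.Modules} (u : F ⟶ G) (h : Y ⟶ X) :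
    Epi ((Scheme.Modules.pullback h).map u) ↔
      IsZero ((Scheme.Modules.pullback h).obj (cokernel u)) := by
  constructor
  · exact isZero_pullback_cokernel_of_epi u h
  · intro hz
    have e : (Scheme.Modules.pullback h).obj (cokernel u) ≅
        cokernel ((Scheme.Modules.pullback h).map u) :=
      PreservesCokernel.iso (Scheme.Modules.pullback h) u
    exact Preadditive.epi_of_isZero_cokernel _ (hz.of_iso e.symm)

end Modules

end Groth.Agent.Lib.Helper40.LimPres
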