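import Groth.Agent.Lib.Helper40.LimCore
import Groth.Agent.Lib.Helper40.LimPres
import Groth.Agent.Lib.Helper40.FPKer

set_option autoImplicit false
universe u

open AlgebraicGeometry CategoryTheory CategoryTheory.Limits TensorProduct Opposite

namespace Groth.Agent.Lib.Helper40.LimIso

open Scheme.Modules Groth.Agent.Lib.Helper40.LimSec Groth.Agent.Lib.Helper40.FFDescent
  Groth.Agent.Lib.Helper40.LimCore Groth.Agent.Lib.Helper40.LimPres Groth.Agent.Lib.Helper40.FPKer

/-- A functor preserving cokernels sends an epimorphism whose kernel inclusion is killed to an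
isomorphism. -/
theorem isIso_map_of_epi_of_map_kernelι_eq_zero {C D : Type*} [Category C] [Abelian C]
    [Category D] [Abelian D] (Φ : C ⥤ D) [Φ.PreservesZeroMorphisms] {A B : C} (v : A ⟶ B) [Epi v]
    [PreservesColimit (parallelPair (kernel.ι v) 0) Φ]
    (h : Φ.map (kernel.ι v) = 0) : IsIso (Φ.map v) := by
  have hc : IsColimit (CokernelCofork.ofπ v (kernel.condition v)) :=
    Abelian.epiIsCokernelOfKernel (KernelFork.ofι (kernel.ι v) (kernel.condition v))
      (kernelIsKernel v)
  have hc' := CokernelCofork.mapIsColimit _ hc Φ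
  exact CokernelCofork.IsColimit.isIso_π _ hc' h

variable {I : Type u} [SmallCategory I] [IsCofiltered I] (B : I ⥤ Scheme.{u})
  [∀ {i j : I} (f : i ⟶ j), IsAffineHom (B.map f)] (b : Cone B) (hb : IsLimit b)
  [∀ i, CompactSpace (B.obj i)]
  {X : Scheme.{u}} (p : ∀ j, B.obj j ⟶ X) (hp : ∀ {j k : I} (φ : j ⟶ k), B.map φ ≫ p k = p j)
  (p' : b.pt ⟶ X) (hp' : ∀ j, b.π.app j ≫ p j = p')
  {F G : X.Modules} [F.IsQuasicoherent] [G.IsQuasicoherent] (u : F ⟶ G)

include hb hp hp' in
theorem exists_stage_epi (hG : CohB1.IsFT G) (h : Epi ((Scheme.Modules.pullback p').map u))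
    (i₀ : I) : ∃ (j : I) (_ : j ⟶ i₀), Epi ((Scheme.Modules.pullback (p j)).map u) := by
  haveI : (cokernel u).IsQuasicoherent :=
    Groth.Agent.Lib.Helper21.QCohKernel.isQuasicoherent_cokernel u
  have hC : CohB1.IsFT (cokernel u) :=
    Groth.Agent.Lib.Helper21.CohNoeth.isFiniteType_of_epi (cokernel.π u) hG
  rw [epi_pullback_iff, isZero_pullback_iff _ _ hC] at h
  obtain ⟨j, fji, hj⟩ := exists_map_eq_top B b hb (i := i₀) ((p i₀) ⁻¹ᵁ (suppCompl (cokernel u) hC))
    (by rw [← Scheme.Hom.comp_preimage, hp' i₀]; exact h)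
  refine ⟨j, fji, ?_⟩
  rw [epi_pullback_iff, isZero_pullback_iff _ _ hC]
  rw [← Scheme.Hom.comp_preimage, hp fji] at hj
  exact hj

include hb hp hp' in
theorem exists_stage_isIso (hF : CohB1.IsFT F) (hG : CohB1.IsFP G)
    (h : IsIso ((Scheme.Modules.pullback p').map u)) :
    ∃ j : I, IsIso ((Scheme.Modules.pullback (p j)).map u) := by
  classical
  haveI : Nonempty I := IsCofiltered.nonempty
  have hG' : CohB1.IsFT G := by
    haveI := hG
    exact inferInstanceAs (SheafOfModules.IsFiniteType (R := X.ringCatSheaf) G)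
  obtain ⟨i₁, _, hepi⟩ := exists_stage_epi B b hb p hp p' hp' u hG' inferInstance
    (Classical.arbitrary I)
  set u₁ := (Scheme.Modules.pullback (p i₁)).map u with hu₁
  haveI : Epi u₁ := hepi
  haveI : (kernel u₁).IsQuasicoherent :=
    Groth.Agent.Lib.Helper21.QCohKernel.isQuasicoherent_kernel u₁
  have hK : CohB1.IsFT (kernel u₁) :=
    isFiniteType_kernel_of_epi u₁
      (Groth.Agent.Lib.Helper21.CohPullback.isFiniteType_pullback (p i₁) F hF)
      (isFinitePresentation_pullback (p i₁) G hG)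
  -- the restricted system over `i₁`
  let B' : Over i₁ ⥤ Scheme.{u} := Over.forget i₁ ⋙ B
  let b' : Cone B' := b.whisker (Over.forget i₁)
  have hb' : IsLimit b' := (Functor.Initial.isLimitWhiskerEquiv (Over.forget i₁) b).symm hb
  haveI : ∀ {j k : Over i₁} (φ : j ⟶ k), IsAffineHom (B'.map φ) := fun {j k} φ => by
    dsimp [B']; infer_instance
  haveI hcpt : CompactSpace (B.obj i₁) := inferInstance
  haveI : CompactSpace (B'.obj (Over.mk (𝟙 i₁))) := hcpt
  -- vanishing at the limit
  have hiso : IsIso ((Scheme.Modules.pullback (b.π.app i₁)).map u₁) :=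
    isIso_map_of_natIso (Scheme.Modules.pullbackComp (b.π.app i₁) (p i₁) ≪≫
      Scheme.Modules.pullbackCongr (hp' i₁)).symm u h
  have hzero : (Scheme.Modules.pullback (b.π.app i₁)).map (kernel.ι u₁) = 0 := by
    rw [← cancel_mono ((Scheme.Modules.pullback (b.π.app i₁)).map u₁), zero_comp,
      ← Functor.map_comp, kernel.condition, Functor.map_zero]
  obtain ⟨j, _, hj⟩ := exists_stage_map_eq_zero B' b' hb' (fun j => B.map j.hom)
    (fun {j k} φ => by
      change B.map φ.left ≫ B.map k.hom = B.map j.hom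
      rw [← B.map_comp, Over.w])
    (b.π.app i₁) (fun j => b.w j.hom) hK (kernel.ι u₁) (Over.mk (𝟙 i₁)) hzero
  refine ⟨j.left, ?_⟩
  have h1 : IsIso ((Scheme.Modules.pullback (B.map j.hom)).map u₁) :=
    isIso_map_of_epi_of_map_kernelι_eq_zero _ u₁ hj
  exact isIso_map_of_natIso (Scheme.Modules.pullbackComp (B.map j.hom) (p i₁) ≪≫
    Scheme.Modules.pullbackCongr (hp j.hom)) u h1

end Groth.Agent.Lib.Helper40.LimIso
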