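import Groth.Agent.Lib.Helper40.LimSec
import Groth.Agent.Lib.Helper40.ProjColim
import Groth.Agent.Lib.Helper2.FinLocFreeAff
import Groth.Agent.Lib.Helper7.FinLocFreePullback

/-!
# Helper40: local freeness of a finitely presented module descends to a finite stage of a
cofiltered limit (affine case)
-/

set_option autoImplicit false
universe u

open AlgebraicGeometry CategoryTheory CategoryTheory.Limits TensorProduct Opposite

namespace Groth.Agent.Lib.Helper40.LimLocFree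

open Scheme.Modules Groth.Agent.Lib.Helper48.OmegaAff Groth.Agent.Lib.Helper40.AffBC
  Groth.Agent.Lib.Helper40.TensorColim

section Aff

variable {J : Type u} [SmallCategory J] [IsCofiltered J] (E : J ⥤ Scheme.{u})
  [∀ j, IsAffine (E.obj j)] (e : Cone E) (he : IsLimit e) [IsAffine e.pt]
  {X : Scheme.{u}} (a : ∀ j, E.obj j ⟶ X) (ha : ∀ {j k : J} (φ : j ⟶ k), E.map φ ≫ a k = a j)
  (a' : e.pt ⟶ X) (ha' : ∀ j, e.π.app j ≫ a j = a')
  (G : X.Modules) [G.IsQuasicoherent] {U : X.Opens} (hU : IsAffineOpen U)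
  (hUa : ∀ j, ⊤ ≤ (a j) ⁻¹ᵁ U) (hUa' : ⊤ ≤ a' ⁻¹ᵁ U)

include he hU ha ha' hUa hUa' in
theorem exists_stage_isFinLocFree_aff (hG : CohB1.IsFP G)
    (h : FlatMod.IsFinLocFree ((Scheme.Modules.pullback a').obj G)) (j₀ : J) :
    ∃ (k : J) (_ : k ⟶ j₀), FlatMod.IsFinLocFree ((Scheme.Modules.pullback (a k)).obj G) := by
  classical
  let R := Γ(X, U)
  let A : J → Type u := fun j => Γ(E.obj j, ⊤)
  let A' : Type u := Γ(e.pt, ⊤)
  letI : ∀ j, Algebra R (A j) := fun j => ((a j).appLE U ⊤ (hUa j)).hom.toAlgebra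
  letI : Algebra R A' := (a'.appLE U ⊤ hUa').hom.toAlgebra
  have hρ : ∀ {j k : J} (φ : j ⟶ k), (a k).appLE U ⊤ (hUa k) ≫ (E.map φ).appTop =
      (a j).appLE U ⊤ (hUa j) := by
    intro j k φ
    have := Scheme.Hom.appLE_comp_appLE (E.map φ) (a k) U ⊤ ⊤ (hUa k) le_top
    rw [Scheme.Hom.appTop, Scheme.Hom.app_eq_appLE]
    exact this.trans (appLE_congr_hom (ha φ) U ⊤ _ _)
  have hρ' : ∀ j : J, (a j).appLE U ⊤ (hUa j) ≫ (e.π.app j).appTop = a'.appLE U ⊤ hUa' := by
    intro j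
    have := Scheme.Hom.appLE_comp_appLE (e.π.app j) (a j) U ⊤ ⊤ (hUa j) le_top
    rw [Scheme.Hom.appTop, Scheme.Hom.app_eq_appLE]
    exact this.trans (appLE_congr_hom (ha' j) U ⊤ _ _)
  let tr : ∀ {j k : J}, (j ⟶ k) → (A k →ₐ[R] A j) := fun {j k} φ =>
    { (E.map φ).appTop.hom with
      commutes' := fun r => congr($(hρ φ) r) }
  let ι : ∀ j, A j →ₐ[R] A' := fun j =>
    { (e.π.app j).appTop.hom with
      commutes' := fun r => congr($(hρ' j) r) }
  have htr : ∀ {j k l : J} (φ : j ⟶ k) (ψ : k ⟶ l) (x : A l),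
      tr (φ ≫ ψ) x = tr φ (tr ψ x) := by
    intro j k l φ ψ x
    change (E.map (φ ≫ ψ)).appTop x = (E.map φ).appTop ((E.map ψ).appTop x)
    rw [E.map_comp, Scheme.Hom.comp_appTop]
    rfl
  have hι : ∀ {j k : J} (φ : j ⟶ k) (x : A k), ι j (tr φ x) = ι k x := by
    intro j k φ x
    change (e.π.app j).appTop ((E.map φ).appTop x) = (e.π.app k).appTop x
    rw [← e.w φ, Scheme.Hom.comp_appTop]
    rfl
  have hsurj : ∀ s : A', ∃ (j : J) (b : A j), ι j b = s := by
    intro s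
    obtain ⟨j, t, ht⟩ := exists_appTop_π_eq_of_isAffine_of_isLimit E e he s
    exact ⟨j, t, ht⟩
  have hinj : ∀ (j : J) (b : A j), ι j b = 0 → ∃ (k : J) (φ : k ⟶ j), tr φ b = 0 := by
    intro j b hb
    obtain ⟨k, φ, hk⟩ := exists_appTop_map_eq_zero_of_isAffine_of_isLimit E e he j b hb
    exact ⟨k, φ, hk⟩
  -- finite presentation of the sections
  haveI : SheafOfModules.IsFinitePresentation (R := X.ringCatSheaf) G := hG
  haveI hfp : Module.FinitePresentation R Γ(G, U) :=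
    Groth.Agent.Lib.Helper2.FinTypeAff.finitePresentation_sections (F := G) hU
  -- projectivity at the limit
  have hproj' : Module.Projective A' Γ((Scheme.Modules.pullback a').obj G, ⊤) :=
    Groth.Agent.Lib.Helper2.FinLocFreeAff.projective_sections_of_isFinLocFree _ h
      (isAffineOpen_top e.pt)
  let eq' : A' ⊗[R] Γ(G, U) ≃ₗ[A'] Γ((Scheme.Modules.pullback a').obj G, ⊤) :=
    LinearEquiv.ofBijective (pullTensorHom a' G hUa')
      (pullTensorHom_bijective a' G (isAffineOpen_top e.pt) hU hUa')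
  have hproj0 : Module.Projective A' (A' ⊗[R] Γ(G, U)) := Module.Projective.of_equiv eq'.symm
  obtain ⟨k, φ, hk⟩ := exists_stage_projective tr ι htr hι hsurj hinj Γ(G, U) hproj0 j₀
  refine ⟨k, φ, ?_⟩
  let eqk : A k ⊗[R] Γ(G, U) ≃ₗ[A k] Γ((Scheme.Modules.pullback (a k)).obj G, ⊤) :=
    LinearEquiv.ofBijective (pullTensorHom (a k) G (hUa k))
      (pullTensorHom_bijective (a k) G (isAffineOpen_top (E.obj k)) hU (hUa k))
  have hprojk : Module.Projective (A k) Γ((Scheme.Modules.pullback (a k)).obj G, ⊤) :=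
    Module.Projective.of_equiv eqk
  have hfink : Module.Finite (A k) Γ((Scheme.Modules.pullback (a k)).obj G, ⊤) :=
    Module.Finite.equiv eqk
  exact Groth.Agent.Lib.Helper2.LocFreeAff.isFinLocFree_of_projective _
    (fun x => ⟨⊤, isAffineOpen_top _, trivial, hfink, hprojk⟩)

end Aff

end Groth.Agent.Lib.Helper40.LimLocFree
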