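import Groth.Agent.Lib.Helper40.LimLocFree
import Groth.Agent.Lib.Helper40.LimStage
import Groth.Agent.Lib.Helper15.LocFreeLocus

/-!
# Helper40: local freeness of a finitely presented module descends to a finite stage of a
cofiltered limit (global case, EGA IV 8.5.5)
-/

set_option autoImplicit false
universe u

open AlgebraicGeometry CategoryTheory CategoryTheory.Limits TensorProduct Opposite

namespace Groth.Agent.Lib.Helper40.LimLocFree

open Groth.Agent.Lib.Helper7.FinLocFree Groth.Agent.Lib.Helper15.LocFreeLocus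

variable {I : Type u} [SmallCategory I] [IsCofiltered I] (B : I ⥤ Scheme.{u})
  [∀ {i j : I} (f : i ⟶ j), IsAffineHom (B.map f)] (b : Cone B) (hb : IsLimit b)
  {X : Scheme.{u}} (p : ∀ j, B.obj j ⟶ X) (hp : ∀ {j k : I} (φ : j ⟶ k), B.map φ ≫ p k = p j)
  (p' : b.pt ⟶ X) (hp' : ∀ j, b.π.app j ≫ p j = p')
  (G : X.Modules) [G.IsQuasicoherent] (hG : CohB1.IsFP G)

theorem isFinLocFree_pullback_comp {Y Z : Scheme.{u}} (m : Z ⟶ Y) (q : Y ⟶ X) (r : Z ⟶ X)
    (hr : m ≫ q = r) (h : FlatMod.IsFinLocFree ((Scheme.Modules.pullback q).obj G)) :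
    FlatMod.IsFinLocFree ((Scheme.Modules.pullback r).obj G) := by
  subst hr
  exact isFinLocFree_of_iso ((Scheme.Modules.pullbackComp m q).app G) (isFinLocFree_pullback m h)

theorem isFinLocFree_pullback_comp' {Y Z : Scheme.{u}} (m : Z ⟶ Y) (q : Y ⟶ X) (r : Z ⟶ X)
    (hr : m ≫ q = r) (h : FlatMod.IsFinLocFree ((Scheme.Modules.pullback r).obj G)) :
    FlatMod.IsFinLocFree ((Scheme.Modules.pullback m).obj ((Scheme.Modules.pullback q).obj G)) := by
  subst hr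
  exact isFinLocFree_of_iso ((Scheme.Modules.pullbackComp m q).app G).symm h

include hb hp hp' hG in
theorem exists_stage_local_lf (i₀ : I) (x : B.obj i₀)
    (h : FlatMod.IsFinLocFree ((Scheme.Modules.pullback p').obj G)) :
    ∃ (W : (B.obj i₀).Opens) (_ : x ∈ W) (j : Over i₀),
      FlatMod.IsFinLocFree
        ((Scheme.Modules.pullback ((B.map j.hom ⁻¹ᵁ W).ι ≫ p j.left)).obj G) := by
  obtain ⟨_, ⟨U, hU : IsAffineOpen U, rfl⟩, hxU, -⟩ :=
    X.isBasis_affineOpens.exists_subset_of_mem_open (Set.mem_univ (p i₀ x)) isOpen_univ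
  obtain ⟨_, ⟨W, hW : IsAffineOpen W, rfl⟩, hxW, hWU⟩ :=
    (B.obj i₀).isBasis_affineOpens.exists_subset_of_mem_open
      (show x ∈ ((p i₀) ⁻¹ᵁ U : (B.obj i₀).Opens) from hxU) ((p i₀) ⁻¹ᵁ U).2
  refine ⟨W, hxW, ?_⟩
  let E := opensDiagram B i₀ W
  haveI : ∀ j, IsAffine (E.obj j) := fun j => hW.preimage (B.map j.hom)
  let e := opensCone B b i₀ W
  have he : IsLimit e := isLimitOpensCone B b hb i₀ W
  haveI : IsAffineHom (b.π.app i₀) := isAffineHom_π_app B b hb i₀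
  haveI : IsAffine e.pt := hW.preimage (b.π.app i₀)
  let a : ∀ j : Over i₀, E.obj j ⟶ X := fun j => (B.map j.hom ⁻¹ᵁ W).ι ≫ p j.left
  have ha : ∀ {j k : Over i₀} (φ : j ⟶ k), E.map φ ≫ a k = a j := by
    intro j k φ
    change (B.map φ.left).resLE _ _ _ ≫ (B.map k.hom ⁻¹ᵁ W).ι ≫ p k.left = _
    rw [Scheme.Hom.resLE_comp_ι_assoc, hp]
    rfl
  let a' : e.pt ⟶ X := (b.π.app i₀ ⁻¹ᵁ W).ι ≫ p'
  have ha' : ∀ j, e.π.app j ≫ a j = a' := by
    intro j
    change (b.π.app j.left).resLE _ _ _ ≫ (B.map j.hom ⁻¹ᵁ W).ι ≫ p j.left = _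
    rw [Scheme.Hom.resLE_comp_ι_assoc, hp']
    rfl
  have hUa : ∀ j, ⊤ ≤ (a j) ⁻¹ᵁ U := by
    intro j y _
    change p j.left ((B.map j.hom ⁻¹ᵁ W).ι y) ∈ U
    have h1 : (B.map j.hom) ((B.map j.hom ⁻¹ᵁ W).ι y) ∈ W := y.2
    have h2 := hWU h1
    change (p i₀) ((B.map j.hom) ((B.map j.hom ⁻¹ᵁ W).ι y)) ∈ U at h2
    rwa [← Scheme.Hom.comp_apply, hp] at h2
  have hUa' : ⊤ ≤ a' ⁻¹ᵁ U := by
    intro y _
    change p' ((b.π.app i₀ ⁻¹ᵁ W).ι y) ∈ U
    have h1 : (b.π.app i₀) ((b.π.app i₀ ⁻¹ᵁ W).ι y) ∈ W := y.2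
    have h2 := hWU h1
    change (p i₀) ((b.π.app i₀) ((b.π.app i₀ ⁻¹ᵁ W).ι y)) ∈ U at h2
    rwa [← Scheme.Hom.comp_apply, hp'] at h2
  have h0 : FlatMod.IsFinLocFree ((Scheme.Modules.pullback a').obj G) :=
    isFinLocFree_pullback_comp G _ p' a' rfl h
  obtain ⟨j, _, hj⟩ := exists_stage_isFinLocFree_aff E e he a ha a' ha' G hU hUa hUa' hG h0
    (Over.mk (𝟙 i₀))
  exact ⟨j, hj⟩

include hb hp hp' hG in
/-- **EGA IV 8.5.5**: local freeness of the pullback of a finitely presented module to the limit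
already holds at a finite stage. -/
theorem exists_stage_isFinLocFree (i₀ : I) [CompactSpace (B.obj i₀)]
    (h : FlatMod.IsFinLocFree ((Scheme.Modules.pullback p').obj G)) :
    ∃ (j : I) (_ : j ⟶ i₀), FlatMod.IsFinLocFree ((Scheme.Modules.pullback (p j)).obj G) := by
  classical
  choose W hxW jW hjW using fun x : B.obj i₀ => exists_stage_local_lf B b hb p hp p' hp' G hG i₀ x h
  obtain ⟨t, ht⟩ := CompactSpace.elim_nhds_subcover (fun x => (W x : Set (B.obj i₀)))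
    (fun x => (W x).2.mem_nhds (hxW x))
  obtain ⟨j, hj⟩ := IsCofiltered.inf_objs_exists (t.image jW)
  refine ⟨j.left, j.hom, ?_⟩
  haveI : ((Scheme.Modules.pullback (p j.left)).obj G).IsQuasicoherent := inferInstance
  apply isFinLocFree_of_forall_LF
  intro y
  have hy : (B.map j.hom) y ∈ (⋃ x ∈ t, (W x : Set (B.obj i₀))) := by rw [ht]; trivial
  obtain ⟨x, hxt, hyx⟩ := Set.mem_iUnion₂.mp hy
  obtain ⟨ψ⟩ := hj (Finset.mem_image_of_mem jW hxt)
  refine ⟨B.map j.hom ⁻¹ᵁ W x, hyx, ?_⟩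
  apply LF.of_isFinLocFree_restrict
  have hfac : (opensDiagram B i₀ (W x)).map ψ ≫ ((B.map (jW x).hom ⁻¹ᵁ W x).ι ≫ p (jW x).left) =
      (B.map j.hom ⁻¹ᵁ W x).ι ≫ p j.left := by
    have h1 := Scheme.Hom.resLE_comp_ι_assoc (B.map ψ.left) (U := B.map (jW x).hom ⁻¹ᵁ W x)
      (V := B.map j.hom ⁻¹ᵁ W x)
      (by rw [← Scheme.Hom.comp_preimage, ← B.map_comp, Over.w ψ]) (p (jW x).left)
    rw [hp] at h1
    exact h1
  have h1 : FlatMod.IsFinLocFree
      ((Scheme.Modules.pullback ((B.map j.hom ⁻¹ᵁ W x).ι ≫ p j.left)).obj G) :=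
    isFinLocFree_pullback_comp G _ _ _ hfac (hjW x)
  have h2 := isFinLocFree_pullback_comp' G (B.map j.hom ⁻¹ᵁ W x).ι (p j.left) _ rfl h1
  exact isFinLocFree_of_iso
    ((Scheme.Modules.restrictFunctorIsoPullback (B.map j.hom ⁻¹ᵁ W x).ι).app _).symm h2

end Groth.Agent.Lib.Helper40.LimLocFree
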