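import Groth.Agent.Lib.Helper40.LimLocFree2

/-!
# Helper40: local freeness of given rank descends to a finite stage of a cofiltered limit
-/

set_option autoImplicit false
universe u

open AlgebraicGeometry CategoryTheory CategoryTheory.Limits TensorProduct Opposite

namespace Groth.Agent.Lib.Helper40.LimLocFree

open Groth.Agent.Lib.Helper7.FinLocFree Groth.Agent.Lib.Helper2.FreeModAff

/-- R1: pullback of a local trivialisation. -/
theorem nonempty_iso_freeMod_pullback {T Y : Scheme.{u}} (f : T ⟶ Y) (M : Y.Modules) (U : Y.Opens)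
    (n : ℕ) (H : Nonempty (M.restrict U.ι ≅ FlatMod.freeMod (↑U) n)) :
    Nonempty (((Scheme.Modules.pullback f).obj M).restrict (f ⁻¹ᵁ U).ι ≅
      FlatMod.freeMod (↑(f ⁻¹ᵁ U)) n) := by
  obtain ⟨e⟩ := H
  exact ⟨restrictPullbackIso f M U ≪≫ (Scheme.Modules.pullback (f ∣_ U)).mapIso e ≪≫
    pullbackFreeModIso (f ∣_ U) n⟩

theorem nonempty_iso_freeMod_of_iso {T : Scheme.{u}} {M N : T.Modules} (e : M ≅ N) (U : T.Opens)
    (n : ℕ) (H : Nonempty (M.restrict U.ι ≅ FlatMod.freeMod (↑U) n)) :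
    Nonempty (N.restrict U.ι ≅ FlatMod.freeMod (↑U) n) := by
  obtain ⟨e'⟩ := H
  exact ⟨(Scheme.Modules.restrictFunctor U.ι).mapIso e.symm ≪≫ e'⟩

/-- R2: the rank of a local trivialisation at a point is unique. -/
theorem rank_unique {T : Scheme.{u}} (N : T.Modules) [N.IsQuasicoherent] (t : T)
    {U₁ U₂ : T.Opens} (h₁ : t ∈ U₁) (h₂ : t ∈ U₂) (d n : ℕ)
    (H₁ : Nonempty (N.restrict U₁.ι ≅ FlatMod.freeMod (↑U₁) d))
    (H₂ : Nonempty (N.restrict U₂.ι ≅ FlatMod.freeMod (↑U₂) n)) : d = n := by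
  obtain ⟨_, ⟨U₃, hU₃ : IsAffineOpen U₃, rfl⟩, htU₃, hU₃le⟩ :=
    (T.isBasis_affineOpens).exists_subset_of_mem_open
      (show t ∈ (U₁ ⊓ U₂ : T.Opens) from ⟨h₁, h₂⟩) (U₁ ⊓ U₂).2
  have hle₁ : U₃ ≤ U₁ := fun y hy => (hU₃le hy).1
  have hle₂ : U₃ ≤ U₂ := fun y hy => (hU₃le hy).2
  obtain ⟨e₁⟩ := (nonempty_iso_freeMod_iff N hU₃ d).1 (nonempty_iso_freeMod_of_le N hle₁ d H₁)
  obtain ⟨e₂⟩ := (nonempty_iso_freeMod_iff N hU₃ n).1 (nonempty_iso_freeMod_of_le N hle₂ n H₂)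
  haveI : Nonempty U₃ := ⟨⟨t, htU₃⟩⟩
  haveI : Nontrivial Γ(T, U₃) := inferInstance
  have := LinearEquiv.finrank_eq (e₁.symm ≪≫ₗ e₂)
  rwa [Module.finrank_fin_fun, Module.finrank_fin_fun] at this

theorem isFinLocFreeOfRank_of_iso {T : Scheme.{u}} {M N : T.Modules} (e : M ≅ N) (n : ℕ)
    (h : FlatMod.IsFinLocFreeOfRank n M) : FlatMod.IsFinLocFreeOfRank n N := by
  intro x
  obtain ⟨U, hx, H⟩ := h x
  exact ⟨U, hx, nonempty_iso_freeMod_of_iso e U n H⟩

theorem isFinLocFreeOfRank_pullback {T Y : Scheme.{u}} (f : T ⟶ Y) {M : Y.Modules} (n : ℕ)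
    (h : FlatMod.IsFinLocFreeOfRank n M) :
    FlatMod.IsFinLocFreeOfRank n ((Scheme.Modules.pullback f).obj M) := by
  intro x
  obtain ⟨U, hx, H⟩ := h (f x)
  exact ⟨f ⁻¹ᵁ U, hx, nonempty_iso_freeMod_pullback f M U n H⟩

theorem isFinLocFreeOfRank_pullback_comp {X Y Z : Scheme.{u}} (G : X.Modules) (m : Z ⟶ Y)
    (q : Y ⟶ X) (r : Z ⟶ X) (hr : m ≫ q = r) (n : ℕ)
    (h : FlatMod.IsFinLocFreeOfRank n ((Scheme.Modules.pullback q).obj G)) :
    FlatMod.IsFinLocFreeOfRank n ((Scheme.Modules.pullback r).obj G) := by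
  subst hr
  exact isFinLocFreeOfRank_of_iso ((Scheme.Modules.pullbackComp m q).app G) n
    (isFinLocFreeOfRank_pullback m n h)

theorem isFinLocFree_of_rank {T : Scheme.{u}} {M : T.Modules} (n : ℕ)
    (h : FlatMod.IsFinLocFreeOfRank n M) : FlatMod.IsFinLocFree M := by
  intro x
  obtain ⟨U, hx, H⟩ := h x
  exact ⟨U, n, hx, H⟩

section Stage

variable {I : Type u} [SmallCategory I] [IsCofiltered I]
  (D : I ⥤ Scheme.{u}) (c : Cone D) (hc : IsLimit c)
  [∀ (i j : I) (f : i ⟶ j), IsAffineHom (D.map f)] (i₀ : I) [CompactSpace (D.obj i₀)]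
  (F₀ : (D.obj i₀).Modules) [F₀.IsQuasicoherent]

include hc in
theorem exists_stage_isFinLocFree' (hF₀ : CohB1.IsFP F₀)
    (h : FlatMod.IsFinLocFree ((Scheme.Modules.pullback (c.π.app i₀)).obj F₀)) :
    ∃ (j : I) (φ : j ⟶ i₀), FlatMod.IsFinLocFree ((Scheme.Modules.pullback (D.map φ)).obj F₀) := by
  let B' : Over i₀ ⥤ Scheme.{u} := Over.forget i₀ ⋙ D
  let b' : Cone B' := c.whisker (Over.forget i₀)
  have hb' : IsLimit b' := (Functor.Initial.isLimitWhiskerEquiv (Over.forget i₀) c).symm hc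
  haveI : ∀ {j k : Over i₀} (φ : j ⟶ k), IsAffineHom (B'.map φ) := fun {j k} φ => by
    dsimp [B']; infer_instance
  haveI hcpt : CompactSpace (D.obj i₀) := inferInstance
  haveI : CompactSpace (B'.obj (Over.mk (𝟙 i₀))) := hcpt
  obtain ⟨j, _, hj⟩ := exists_stage_isFinLocFree B' b' hb' (fun j => D.map j.hom)
    (fun {j k} φ => by
      change D.map φ.left ≫ D.map k.hom = D.map j.hom
      rw [← D.map_comp, Over.w])
    (c.π.app i₀) (fun j => c.w j.hom) F₀ hF₀ (Over.mk (𝟙 i₀)) h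
  exact ⟨j.left, j.hom, hj⟩

include hc in
theorem exists_stage_isFinLocFreeOfRank (hF₀ : CohB1.IsFP F₀) (n : ℕ)
    (h : FlatMod.IsFinLocFreeOfRank n ((Scheme.Modules.pullback (c.π.app i₀)).obj F₀)) :
    ∃ (j : I) (φ : j ⟶ i₀),
      FlatMod.IsFinLocFreeOfRank n ((Scheme.Modules.pullback (D.map φ)).obj F₀) := by
  obtain ⟨j, φ, hj⟩ := exists_stage_isFinLocFree' D c hc i₀ F₀ hF₀ (isFinLocFree_of_rank n h)
  set M := (Scheme.Modules.pullback (D.map φ)).obj F₀ with hM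
  -- the open locus of rank `n`
  let O : (D.obj j).Opens :=
    sSup {U : (D.obj j).Opens | Nonempty (M.restrict U.ι ≅ FlatMod.freeMod (↑U) n)}
  have hO : c.π.app j ⁻¹ᵁ O = ⊤ := by
    rw [eq_top_iff]
    intro s _
    obtain ⟨U, d, hyU, HU⟩ := hj (c.π.app j s)
    have H1 := nonempty_iso_freeMod_pullback (c.π.app j) M U d HU
    have H2 := nonempty_iso_freeMod_of_iso
      ((Scheme.Modules.pullbackComp (c.π.app j) (D.map φ) ≪≫
        Scheme.Modules.pullbackCongr (c.w φ)).app F₀) _ d H1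
    obtain ⟨U₂, hsU₂, H3⟩ := h s
    have hdn : d = n := rank_unique _ s (show s ∈ c.π.app j ⁻¹ᵁ U from hyU) hsU₂ d n H2 H3
    subst hdn
    change c.π.app j s ∈ O
    exact (TopologicalSpace.Opens.mem_sSup).2 ⟨U, HU, hyU⟩
  -- restrict the system to `Over j`
  let B' : Over j ⥤ Scheme.{u} := Over.forget j ⋙ D
  let b' : Cone B' := c.whisker (Over.forget j)
  have hb' : IsLimit b' := (Functor.Initial.isLimitWhiskerEquiv (Over.forget j) c).symm hc
  haveI : ∀ {k l : Over j} (ψ : k ⟶ l), IsAffineHom (B'.map ψ) := fun {k l} ψ => by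
    dsimp [B']; infer_instance
  haveI : CompactSpace (D.obj j) := QuasiCompact.compactSpace_of_compactSpace (D.map φ)
  haveI : ∀ k : Over j, CompactSpace (B'.obj k) := fun k =>
    QuasiCompact.compactSpace_of_compactSpace (D.map k.hom)
  obtain ⟨k, ψ, hk⟩ := exists_map_eq_top B' b' hb' (i := Over.mk (𝟙 j)) O hO
  refine ⟨k.left, k.hom ≫ φ, ?_⟩
  have hψ : D.map k.hom ⁻¹ᵁ O = ⊤ := by
    have : ψ.left = k.hom := by simpa using Over.w ψ
    rw [← this]; exact hk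
  apply isFinLocFreeOfRank_of_iso ((Scheme.Modules.pullbackComp (D.map k.hom) (D.map φ) ≪≫
    Scheme.Modules.pullbackCongr (D.map_comp k.hom φ).symm).app F₀) n
  intro z
  have hz : D.map k.hom z ∈ O := by
    have : z ∈ D.map k.hom ⁻¹ᵁ O := by rw [hψ]; trivial
    exact this
  obtain ⟨U, HU, hzU⟩ := (TopologicalSpace.Opens.mem_sSup).1 hz
  exact ⟨D.map k.hom ⁻¹ᵁ U, hzU, nonempty_iso_freeMod_pullback (D.map k.hom) M U n HU⟩

end Stage

end Groth.Agent.Lib.Helper40.LimLocFree
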