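import Groth.Agent.Lib.Helper40.LimCore
import Groth.Agent.Lib.Helper40.LimPres

set_option autoImplicit false
universe u

open AlgebraicGeometry CategoryTheory CategoryTheory.Limits TensorProduct Opposite

namespace Groth.Agent.Lib.Helper40.LimPres2

open Groth.Agent.Lib.Lead Groth.Agent.Lib.Helper40.FFDescent Groth.Agent.Lib.Helper40.FFDescent2
  Groth.Agent.Lib.Helper40.LimCore

variable {X S : Scheme.{u}} (f : X ⟶ S) [QuasiCompact f]

theorem exists_stage_map_eq_zero_bc {I : Type u} [SmallCategory I] [IsCofiltered I]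
    (D : I ⥤ Over S) (c : Cone D) (hc : IsLimit ((Over.forget S).mapCone c))
    (hD : ∀ i, IsAffine (D.obj i).left)
    {F G : X.Modules} [F.IsQuasicoherent] [G.IsQuasicoherent] (hF : CohB1.IsFT F) (u : F ⟶ G)
    (h : (Scheme.Modules.pullback (pullback.fst f c.pt.hom)).map u = 0) :
    ∃ i, (Scheme.Modules.pullback (pullback.fst f (D.obj i).hom)).map u = 0 := by
  classical
  haveI := hD
  let D' : I ⥤ Scheme.{u} := D ⋙ Over.forget S
  let β : ∀ j, D'.obj j ⟶ S := fun j => (D.obj j).hom
  have hβ : ∀ {j k : I} (φ : j ⟶ k), D'.map φ ≫ β k = β j := fun φ => Over.w (D.map φ)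
  have haff : ∀ (i j : I) (φ : i ⟶ j), IsAffineHom (D'.map φ) := fun i j φ => by
    haveI : IsAffine (D'.obj i) := hD i
    haveI : IsAffine (D'.obj j) := hD j
    infer_instance
  let c' : Cone D' := (Over.forget S).mapCone c
  have hb : ∀ j, c'.π.app j ≫ β j = c.pt.hom := fun j => Over.w (c.π.app j)
  have hpb : IsPullback (pullback.fst f c.pt.hom) (pullback.snd f c.pt.hom) f c.pt.hom :=
    IsPullback.of_hasPullback _ _
  let BD := Groth.Agent.Lib.Helper50.bcDiagram D' β hβ f
  let bc' := Groth.Agent.Lib.Helper50.bcCone D' β hβ f c' c.pt.hom hb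
    (pullback.fst f c.pt.hom) (pullback.snd f c.pt.hom) hpb.w
  haveI : IsConnected I := IsCofiltered.isConnected I
  have hlim : IsLimit bc' :=
    Groth.Agent.Lib.Helper50.isLimitBcCone D' β hβ f c' c.pt.hom hb _ _ hc hpb
  haveI : ∀ {i j : I} (φ : i ⟶ j), IsAffineHom (BD.map φ) := fun {i j} φ => by
    infer_instance
  haveI : ∀ i, CompactSpace (BD.obj i) := fun i => by
    haveI : IsAffine (D'.obj i) := hD i
    exact inferInstanceAs (CompactSpace ↥(pullback f (β i)))
  haveI : Nonempty I := IsCofiltered.nonempty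
  let i₀ : I := Classical.arbitrary I
  obtain ⟨j, _, hj⟩ := exists_stage_map_eq_zero BD bc' hlim
    (fun j => pullback.fst f (β j))
    (fun φ => Groth.Agent.Lib.Helper50.bcDiagram_map_fst D' β hβ f φ)
    (pullback.fst f c.pt.hom)
    (fun j => Groth.Agent.Lib.Helper50.bcConeπ_fst D' β f c' c.pt.hom hb _ _ hpb.w j)
    hF u i₀ h
  exact ⟨j, hj⟩

end Groth.Agent.Lib.Helper40.LimPres2
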