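import Groth.Agent.Lib.Helper40.LimStage

/-!
# Helper40: abstract right-exactness lemmas used for EGA IV 8.5 statements
-/

set_option autoImplicit false
universe u

open AlgebraicGeometry CategoryTheory CategoryTheory.Limits Opposite

namespace Groth.Agent.Lib.Helper40.LimStage

/-- For a functor `Φ` preserving the cokernel presentation of an epimorphism `p₁`, `Φ p₂` factors
through `Φ p₁` iff `Φ` kills `ker p₁ ⟶ F ⟶ G₂`. -/
theorem exists_factor_iff {C D : Type*} [Category C] [Abelian C]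
    [Category D] [Abelian D] (Φ : C ⥤ D) [Φ.PreservesZeroMorphisms] {F G₁ G₂ : C} (p₁ : F ⟶ G₁)
    [Epi p₁] (p₂ : F ⟶ G₂)
    [PreservesColimit (parallelPair (kernel.ι p₁) 0) Φ] :
    (∃ k : Φ.obj G₁ ⟶ Φ.obj G₂, Φ.map p₁ ≫ k = Φ.map p₂) ↔ Φ.map (kernel.ι p₁ ≫ p₂) = 0 := by
  constructor
  · rintro ⟨k, hk⟩
    rw [Functor.map_comp, ← hk, ← Category.assoc, ← Functor.map_comp, kernel.condition,
      Functor.map_zero, zero_comp]
  · intro h
    have hc : IsColimit (CokernelCofork.ofπ p₁ (kernel.condition p₁)) :=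
      Abelian.epiIsCokernelOfKernel (KernelFork.ofι (kernel.ι p₁) (kernel.condition p₁))
        (kernelIsKernel p₁)
    have hc' := CokernelCofork.mapIsColimit _ hc Φ
    rw [Functor.map_comp] at h
    exact ⟨hc'.desc (CokernelCofork.ofπ (Φ.map p₂) h), hc'.fac _ WalkingParallelPair.one⟩

end Groth.Agent.Lib.Helper40.LimStage
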