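import Groth.Agent.Lib.Helper40.LimStage2

/-!
# Helper40: right exact sequences `A ⟶ B ⟶ C ⟶ 0` and functors preserving cokernels
-/

set_option autoImplicit false
universe u

open AlgebraicGeometry CategoryTheory CategoryTheory.Limits Opposite

namespace Groth.Agent.Lib.Helper40.LimStage

variable {C D : Type*} [Category C] [Abelian C] [Category D] [Abelian D]

/-- `A ⟶ B ⟶ C ⟶ 0` is exact. -/
def RExact {A B C' : C} (a : A ⟶ B) (b : B ⟶ C') : Prop :=
  ∃ w : a ≫ b = 0, (ShortComplex.mk a b w).Exact ∧ Epi b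

theorem rexact_iff_isIso {A B C' : C} (a : A ⟶ B) (b : B ⟶ C') (w : a ≫ b = 0) :
    RExact a b ↔ IsIso (cokernel.desc a b w) := by
  constructor
  · rintro ⟨w', hex, hepi⟩
    have hcol : IsColimit (CokernelCofork.ofπ b w') :=
      ((ShortComplex.mk a b w').exact_and_epi_g_iff_g_is_cokernel.1 ⟨hex, hepi⟩).some
    have hcol' : IsColimit (CokernelCofork.ofπ (cokernel.π a) (cokernel.condition a)) :=
      cokernelIsCokernel a
    let e := IsColimit.coconePointUniqueUpToIso hcol' hcol
    have he : e.hom = cokernel.desc a b w := by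
      apply coequalizer.hom_ext
      have h1 := IsColimit.comp_coconePointUniqueUpToIso_hom hcol' hcol WalkingParallelPair.one
      simp only [cokernel.π_desc]
      exact h1
    rw [← he]
    infer_instance
  · intro h
    have hcol' : IsColimit (CokernelCofork.ofπ (cokernel.π a) (cokernel.condition a)) :=
      cokernelIsCokernel a
    have hcol : IsColimit (CokernelCofork.ofπ b w) :=
      IsColimit.ofIsoColimit hcol' (Cofork.ext (asIso (cokernel.desc a b w)) (by simp))
    exact ⟨w, (ShortComplex.mk a b w).exact_and_epi_g_iff_g_is_cokernel.2 ⟨hcol⟩⟩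

theorem RExact.of_natIso {Φ₁ Φ₂ : C ⥤ D} (e : Φ₁ ≅ Φ₂) {A B C' : C} (a : A ⟶ B) (b : B ⟶ C')
    (h : RExact (Φ₁.map a) (Φ₁.map b)) : RExact (Φ₂.map a) (Φ₂.map b) := by
  obtain ⟨w, hex, hepi⟩ := h
  have w' : Φ₂.map a ≫ Φ₂.map b = 0 := by
    have h1 : Φ₂.map a = e.inv.app _ ≫ Φ₁.map a ≫ e.hom.app _ := by simp
    have h2 : Φ₂.map b = e.inv.app _ ≫ Φ₁.map b ≫ e.hom.app _ := by simp
    rw [h1, h2]
    simp only [Category.assoc, Iso.hom_inv_id_app_assoc]
    rw [reassoc_of% w]
    simp
  refine ⟨w', ?_, ?_⟩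
  · refine (ShortComplex.exact_iff_of_iso (ShortComplex.isoMk (e.app A) (e.app B) (e.app C')
      ?_ ?_)).1 hex
    · simp
    · simp
  · haveI := hepi
    have h2 : Φ₂.map b = e.inv.app _ ≫ Φ₁.map b ≫ e.hom.app _ := by simp
    rw [h2]
    infer_instance

/-- A functor preserving the cokernel of `a` preserves and reflects (via `cokernel.desc`) right
exactness. -/
theorem rexact_map_iff (Φ : C ⥤ D) [Φ.PreservesZeroMorphisms] {A B C' : C} (a : A ⟶ B)
    (b : B ⟶ C') (w : a ≫ b = 0) [PreservesColimit (parallelPair a 0) Φ] :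
    RExact (Φ.map a) (Φ.map b) ↔ IsIso (Φ.map (cokernel.desc a b w)) := by
  have w' : Φ.map a ≫ Φ.map b = 0 := by rw [← Φ.map_comp, w, Φ.map_zero]
  rw [rexact_iff_isIso _ _ w']
  have hcol' : IsColimit (CokernelCofork.ofπ (cokernel.π a) (cokernel.condition a)) :=
    cokernelIsCokernel a
  have hc := CokernelCofork.mapIsColimit _ hcol' Φ
  have hc2 : IsColimit (CokernelCofork.ofπ (cokernel.π (Φ.map a)) (cokernel.condition _)) :=
    cokernelIsCokernel _
  let e := IsColimit.coconePointUniqueUpToIso hc2 hc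
  have he : e.hom ≫ Φ.map (cokernel.desc a b w) = cokernel.desc (Φ.map a) (Φ.map b) w' := by
    apply coequalizer.hom_ext
    have h1 := IsColimit.comp_coconePointUniqueUpToIso_hom hc2 hc WalkingParallelPair.one
    rw [cokernel.π_desc, ← Category.assoc]
    erw [h1]
    change Φ.map (cokernel.π a) ≫ Φ.map (cokernel.desc a b w) = Φ.map b
    rw [← Φ.map_comp, cokernel.π_desc]
  rw [← he]
  constructor
  · intro h
    exact (isIso_comp_left_iff e.hom _).1 h
  · intro h
    exact (isIso_comp_left_iff e.hom _).2 h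

theorem RExact.map (Φ : C ⥤ D) [Φ.PreservesZeroMorphisms] {A B C' : C} (a : A ⟶ B)
    (b : B ⟶ C') [PreservesColimit (parallelPair a 0) Φ] (h : RExact a b) :
    RExact (Φ.map a) (Φ.map b) := by
  have w := h.1
  rw [rexact_map_iff Φ a b w]
  haveI := (rexact_iff_isIso a b w).1 h
  infer_instance

end Groth.Agent.Lib.Helper40.LimStage
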