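import Groth.Agent.Lib.Helper40.LimStage3
import Groth.Agent.S4764

/-!
# Helper40: flat pullback of quasi-coherent modules: kernels, monos, exactness; limit versions
-/

set_option autoImplicit false
universe u

open AlgebraicGeometry CategoryTheory CategoryTheory.Limits Opposite

namespace Groth.Agent.Lib.Helper40.LimStage

section Abstract

variable {C D : Type*} [Category C] [Abelian C] [Category D] [Abelian D]
  (Φ : C ⥤ D) [Φ.PreservesZeroMorphisms]

/-- If `Φ` preserves the cokernel of `ker g ⟶ G` and sends `ker g ⟶ G` and `coim g ⟶ H` to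
monomorphisms, then `Φ (ker g ⟶ G)` is a kernel of `Φ g`. -/
noncomputable def isLimitMapKernel {G H : C} (g : G ⟶ H)
    [PreservesColimit (parallelPair (kernel.ι g) 0) Φ]
    (h1 : Mono (Φ.map (kernel.ι g))) (h2 : Mono (Φ.map (Abelian.factorThruCoimage g))) :
    IsLimit (KernelFork.ofι (Φ.map (kernel.ι g))
      (by rw [← Φ.map_comp, kernel.condition, Φ.map_zero] : Φ.map (kernel.ι g) ≫ Φ.map g = 0)) := by
  have hcol : IsColimit (CokernelCofork.ofπ (cokernel.π (kernel.ι g)) (cokernel.condition _)) :=
    cokernelIsCokernel _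
  have hc := CokernelCofork.mapIsColimit _ hcol Φ
  have hk := Abelian.monoIsKernelOfCokernel _ hc
  have hg : Φ.map g = Φ.map (cokernel.π (kernel.ι g)) ≫ Φ.map (Abelian.factorThruCoimage g) := by
    rw [← Φ.map_comp]
    congr 1
    exact (Abelian.coimage.fac g).symm
  exact isKernelCompMono (hg := h2) hk (Φ.map (Abelian.factorThruCoimage g)) hg

theorem mono_map_iff_of_isLimit {F G : C} (f : F ⟶ G) (w : Φ.map (kernel.ι f) ≫ Φ.map f = 0)
    (hk : IsLimit (KernelFork.ofι (Φ.map (kernel.ι f)) w)) :
    Mono (Φ.map f) ↔ Φ.map (kernel.ι f) = 0 := by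
  constructor
  · intro h
    rw [← cancel_mono (Φ.map f), w, zero_comp]
  · intro h
    have hmono : Mono (Φ.map (kernel.ι f)) := mono_of_isLimit_fork hk
    exact Preadditive.mono_of_isZero_kernel' _ hk (IsZero.of_mono_eq_zero _ h)

theorem exact_map_iff_of_isLimit {F G H : C} (f : F ⟶ G) (g : G ⟶ H)
    [PreservesColimit (parallelPair f 0) Φ]
    (hepi : Epi (Φ.map (factorThruImage f)))
    (wk : Φ.map (kernel.ι g) ≫ Φ.map g = 0)
    (hk : IsLimit (KernelFork.ofι (Φ.map (kernel.ι g)) wk)) :
    (∃ w : Φ.map f ≫ Φ.map g = 0, (ShortComplex.mk _ _ w).Exact) ↔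
      Φ.map (image.ι f ≫ g) = 0 ∧ Φ.map (kernel.ι g ≫ cokernel.π f) = 0 := by
  have hcol : IsColimit (CokernelCofork.ofπ (cokernel.π f) (cokernel.condition _)) :=
    cokernelIsCokernel _
  have hc := CokernelCofork.mapIsColimit _ hcol Φ
  have key : ∀ w : Φ.map f ≫ Φ.map g = 0, (ShortComplex.mk _ _ w).Exact ↔
      Φ.map (kernel.ι g) ≫ Φ.map (cokernel.π f) = 0 := by
    intro w
    let S := ShortComplex.mk (Φ.map f) (Φ.map g) w
    let h₁ : S.LeftHomologyData :=
      { K := Φ.obj (kernel g)
        H := cokernel (hk.lift (KernelFork.ofι S.f S.zero))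
        i := Φ.map (kernel.ι g)
        π := cokernel.π _
        wi := wk
        hi := hk
        wπ := cokernel.condition _
        hπ := cokernelIsCokernel _ }
    let h₂ : S.RightHomologyData :=
      { Q := Φ.obj (cokernel f)
        H := kernel (hc.desc (CokernelCofork.ofπ S.g S.zero))
        p := Φ.map (cokernel.π f)
        ι := kernel.ι _
        wp := by
          change Φ.map f ≫ Φ.map (cokernel.π f) = 0
          rw [← Φ.map_comp, cokernel.condition, Φ.map_zero]
        hp := hc
        wι := kernel.condition _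
        hι := kernelIsKernel _ }
    exact S.exact_iff_i_p_zero h₁ h₂
  constructor
  · rintro ⟨w, hex⟩
    refine ⟨?_, ?_⟩
    · rw [← cancel_epi (Φ.map (factorThruImage f)), ← Φ.map_comp, ← Category.assoc, image.fac,
        comp_zero, Φ.map_comp]
      exact w
    · rw [Φ.map_comp]
      exact (key w).1 hex
  · rintro ⟨h1, h2⟩
    have w : Φ.map f ≫ Φ.map g = 0 := by
      rw [← Φ.map_comp, ← image.fac f, Category.assoc, Φ.map_comp, h1, comp_zero]
    refine ⟨w, (key w).2 ?_⟩
    rw [← Φ.map_comp]
    exact h2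

end Abstract

section Geometric

variable {X T : Scheme.{u}} (h : T ⟶ X) [Flat h]

open Groth.Agent.Lib.Helper40.LimPres

/-- Flat pullback preserves kernels of maps of quasi-coherent modules. -/
noncomputable def isLimitPullbackKernel {G H : X.Modules} [G.IsQuasicoherent] [H.IsQuasicoherent]
    (g : G ⟶ H) :
    IsLimit (KernelFork.ofι ((Scheme.Modules.pullback h).map (kernel.ι g))
      (by rw [← Functor.map_comp, kernel.condition, Functor.map_zero] :
        (Scheme.Modules.pullback h).map (kernel.ι g) ≫ (Scheme.Modules.pullback h).map g = 0)) := by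
  haveI : (kernel g).IsQuasicoherent :=
    Groth.Agent.Lib.Helper21.QCohKernel.isQuasicoherent_kernel g
  haveI : (Abelian.coimage g).IsQuasicoherent :=
    Groth.Agent.Lib.Helper21.QCohKernel.isQuasicoherent_cokernel (kernel.ι g)
  exact isLimitMapKernel (Scheme.Modules.pullback h) g
    (Groth.Agent.Lib.Helper21.FlatPullMono.mono_pullback_map_of_flat h (kernel.ι g))
    (Groth.Agent.Lib.Helper21.FlatPullMono.mono_pullback_map_of_flat h
      (Abelian.factorThruCoimage g))

theorem mono_pullback_iff {F G : X.Modules} [F.IsQuasicoherent] [G.IsQuasicoherent]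
    (f : F ⟶ G) :
    Mono ((Scheme.Modules.pullback h).map f) ↔ (Scheme.Modules.pullback h).map (kernel.ι f) = 0 :=
  mono_map_iff_of_isLimit _ f _ (isLimitPullbackKernel h f)

theorem exact_pullback_iff {F G H : X.Modules} [G.IsQuasicoherent] [H.IsQuasicoherent]
    (f : F ⟶ G) (g : G ⟶ H) :
    (∃ w : (Scheme.Modules.pullback h).map f ≫ (Scheme.Modules.pullback h).map g = 0,
        (ShortComplex.mk _ _ w).Exact) ↔
      (Scheme.Modules.pullback h).map (image.ι f ≫ g) = 0 ∧
        (Scheme.Modules.pullback h).map (kernel.ι g ≫ cokernel.π f) = 0 :=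
  exact_map_iff_of_isLimit _ f g inferInstance _ (isLimitPullbackKernel h g)

end Geometric

end Groth.Agent.Lib.Helper40.LimStage
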