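import Groth.Agent.S9533
import Groth.Agent.Lib.Helper40.AdicSys
import Groth.Prelude.Def_ARSys

/-!
# Mittag-Leffler systems of modules: the limit surjects onto the stable images
-/

set_option autoImplicit false
universe u
open CategoryTheory CategoryTheory.Limits Opposite

namespace Groth.Agent.Lib.Helper40.MLLimit

open Groth.Agent.Lib.Helper40 Groth.Agent.Lib.Helper55

variable {A : Type u} [CommRing A]

theorem range_eq_of_imageSubobject_eq {X Y Z : ModuleCat.{u} A} (f : X ⟶ Z) (g : Y ⟶ Z)
    (h : imageSubobject f = imageSubobject g) :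
    LinearMap.range f.hom = LinearMap.range g.hom := by
  have key : ∀ {W : ModuleCat.{u} A} (φ : W ⟶ Z),
      LinearMap.range φ.hom = LinearMap.range (imageSubobject φ).arrow.hom := by
    intro W φ
    have hfac : factorThruImageSubobject φ ≫ (imageSubobject φ).arrow = φ :=
      imageSubobject_arrow_comp φ
    have hsurj : Function.Surjective (factorThruImageSubobject φ).hom :=
      (ModuleCat.epi_iff_surjective _).mp inferInstance
    apply le_antisymm
    · rintro _ ⟨x, rfl⟩
      refine ⟨(factorThruImageSubobject φ).hom x, ?_⟩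
      rw [← Groth.Agent.S9533.comp_hom_apply, hfac]
    · rintro _ ⟨y, rfl⟩
      obtain ⟨x, rfl⟩ := hsurj y
      refine ⟨x, ?_⟩
      rw [← Groth.Agent.S9533.comp_hom_apply, hfac]
  rw [key f, key g, h]

variable (H : ℕᵒᵖ ⥤ ModuleCat.{u} A)

/-- transition maps as linear maps -/
noncomputable def trH {n k : ℕ} (h : n ≤ k) : H.obj (op k) →ₗ[A] H.obj (op n) := (ARSys.tr H h).hom

theorem trH_comp {i l j : ℕ} (h1 : i ≤ l) (h2 : l ≤ j) (z : H.obj (op j)) :
    trH H h1 (trH H h2 z) = trH H (h1.trans h2) z := by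
  unfold trH
  rw [← Groth.Agent.S9533.comp_hom_apply, ProSys.tr_comp]

theorem trH_refl (n : ℕ) (z : H.obj (op n)) : trH H (le_refl n) z = z := by
  unfold trH
  rw [ProSys.tr_refl]
  rfl

theorem trH_π {l j : ℕ} (h : l ≤ j) (z : ↑(limit H)) :
    trH H h ((limit.π H (op j)).hom z) = (limit.π H (op l)).hom z := by
  have := limit.w H (homOfLE h).op
  unfold trH
  rw [← Groth.Agent.S9533.comp_hom_apply]
  exact congrArg (fun φ => (ModuleCat.Hom.hom φ) z) this

theorem range_trH_mono {n k j : ℕ} (h1 : n ≤ k) (h2 : k ≤ j) :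
    LinearMap.range (trH H (h1.trans h2)) ≤ LinearMap.range (trH H h1) := by
  rintro _ ⟨z, rfl⟩
  exact ⟨trH H h2 z, trH_comp H h1 h2 z⟩

/-- stable images: the limit surjects onto them -/
theorem exists_range_le_range_π (hML : ARSys.IsML H) (n : ℕ) :
    ∃ s : ℕ, ∃ hs : n ≤ s, LinearMap.range (trH H hs) ≤ LinearMap.range (limit.π H (op n)).hom := by
  -- stabilisation index
  have hst : ∀ n, ∃ r, ∀ j (hj : n + r ≤ j),
      LinearMap.range (trH H ((Nat.le_add_right n r).trans hj)) =
        LinearMap.range (trH H (Nat.le_add_right n r)) := by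
    intro n
    obtain ⟨r, hr⟩ := hML n
    refine ⟨r, fun j hj => ?_⟩
    obtain ⟨s, rfl⟩ : ∃ s, j = n + s := ⟨j - n, by omega⟩
    have hrs : r ≤ s := by omega
    exact range_eq_of_imageSubobject_eq _ _ (hr s hrs)
  choose r hr using hst
  -- the stable images
  let E : ∀ n, Submodule A (H.obj (op n)) := fun n => LinearMap.range (trH H (Nat.le_add_right n (r n)))
  have hE : ∀ n j (hj : n + r n ≤ j), LinearMap.range (trH H ((Nat.le_add_right n (r n)).trans hj)) = E n :=
    fun n j hj => hr n j hj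
  have hmap : ∀ m k (h : m ≤ k), Submodule.map (trH H h) (E k) = E m := by
    intro m k h
    have hj1 : k + r k ≤ max (k + r k) (m + r m) := le_max_left _ _
    have hj2 : m + r m ≤ max (k + r k) (m + r m) := le_max_right _ _
    rw [← hE k _ hj1, ← hE m _ hj2, ← LinearMap.range_comp]
    congr 1
    ext z
    exact trH_comp H _ _ z
  -- the restricted system
  let trE : ∀ (m k : ℕ), m ≤ k → (E k →ₗ[A] E m) := fun m k h =>
    (trH H h).restrict (fun x hx => by rw [← hmap m k h]; exact ⟨x, hx, rfl⟩)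
  have trE_id : ∀ m (x : E m), trE m m le_rfl x = x := by
    intro m x
    apply Subtype.ext
    exact trH_refl H m x.1
  have trE_comp : ∀ m k l (h1 : m ≤ k) (h2 : k ≤ l) (x : E l),
      trE m k h1 (trE k l h2 x) = trE m l (h1.trans h2) x := by
    intro m k l h1 h2 x
    apply Subtype.ext
    exact trH_comp H h1 h2 x.1
  have trE_surj : ∀ m, Function.Surjective (trE m (m + 1) (Nat.le_succ m)) := by
    intro m ⟨y, hy⟩
    rw [← hmap m (m + 1) (Nat.le_succ m)] at hy
    obtain ⟨x, hx, rfl⟩ := hy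
    exact ⟨⟨x, hx⟩, rfl⟩
  refine ⟨n + r n, Nat.le_add_right n (r n), ?_⟩
  intro z hz
  obtain ⟨fam, hfam, hfn⟩ := AdicSys.exists_family (M := fun m => ↥(E m)) (tr := trE) trE_id trE_comp
    trE_surj n ⟨z, hz⟩
  obtain ⟨w, hw⟩ := Groth.Agent.S9533.lim_exists H (fun m => (fam m).1) (fun m k h => by
    have := hfam m k h
    exact congrArg Subtype.val this)
  exact ⟨w, by rw [hw n, hfn]⟩

end Groth.Agent.Lib.Helper40.MLLimit
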