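import Groth.Agent.Lib.Helper40.MVSq
import Groth.Agent.Lib.Helper40.Compact

set_option autoImplicit false
set_option linter.unusedSectionVars false
universe v u
open CategoryTheory CategoryTheory.Limits CategoryTheory.Pretriangulated
open W4c3perfectstacks W4c3perfectstacks.MVSq
open Groth.Agent.Lib.Helper40.Cpt

namespace Groth.Agent.Lib.Helper40.MV

section MV
variable {S S' R R' : Type u} [Category.{v} S] [Category.{v} S'] [Category.{v} R] [Category.{v} R']
    [Preadditive S] [Preadditive S'] [Preadditive R] [Preadditive R']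
    [HasZeroObject S] [HasZeroObject S'] [HasZeroObject R] [HasZeroObject R']
    [HasShift S ℤ] [HasShift S' ℤ] [HasShift R ℤ] [HasShift R' ℤ]
    [∀ n : ℤ, (shiftFunctor S n).Additive] [∀ n : ℤ, (shiftFunctor S' n).Additive]
    [∀ n : ℤ, (shiftFunctor R n).Additive] [∀ n : ℤ, (shiftFunctor R' n).Additive]
    [Pretriangulated S] [Pretriangulated S'] [Pretriangulated R] [Pretriangulated R']
    (q : W4c3perfectstacks.MVSq S S' R R')
    [q.jst.CommShift ℤ] [q.fst.CommShift ℤ] [q.jpst.CommShift ℤ] [q.gst.CommShift ℤ]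
    [q.jst.IsTriangulated] [q.fst.IsTriangulated] [q.jpst.IsTriangulated] [q.gst.IsTriangulated]
    [HasCoproducts.{v} S] [HasCoproducts.{v} S'] [HasCoproducts.{v} R] [HasCoproducts.{v} R']

lemma finSum_J (N : S) (hU : CohDer.IsCompactObject (q.jst.obj N)) {ι : Type v} (X : ι → S)
    (m : N ⟶ q.jls.obj (q.jst.obj (∐ X))) :
    FinSum N (fun i => q.jls.map (q.jst.map (Sigma.ι X i))) m := by
  have : q.jls.Additive := q.adjJ.right_adjoint_additive
  exact finSum_of_adj q.adjJ N hU X m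

lemma finSum_F (N : S) (hX' : CohDer.IsCompactObject (q.fst.obj N)) {ι : Type v} (X : ι → S)
    (m : N ⟶ q.fls.obj (q.fst.obj (∐ X))) :
    FinSum N (fun i => q.fls.map (q.fst.map (Sigma.ι X i))) m := by
  have : q.fls.Additive := q.adjF.right_adjoint_additive
  exact finSum_of_adj q.adjF N hX' X m

lemma finSum_FJ (hq : q.IsMV) (K : S) (hK : CohDer.IsCompactObject (q.gst.obj (q.jst.obj K)))
    {ι : Type v} (X : ι → S)
    (m : K ⟶ q.fls.obj (q.fst.obj (q.jls.obj (q.jst.obj (∐ X))))) :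
    FinSum K (fun i => q.fls.map (q.fst.map (q.jls.map (q.jst.map (Sigma.ι X i))))) m := by
  have : q.jpls.Additive := q.adjJp.right_adjoint_additive
  have : q.fls.Additive := q.adjF.right_adjoint_additive
  have hK' : CohDer.IsCompactObject ((q.fst ⋙ q.jpst).obj K) := isCompact_of_iso (q.e.app K) hK
  have hbc : ∀ P : R, IsIso (q.bc2App P) := hq.isIso_bc2App
  let θ : ∀ Y : S, q.fls.obj (q.fst.obj (q.jls.obj (q.jst.obj Y))) ≅
      (q.jpls ⋙ q.fls).obj ((q.fst ⋙ q.jpst).obj Y) := fun Y =>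
    q.fls.mapIso (asIso (q.bc2App (q.jst.obj Y)) ≪≫ q.jpls.mapIso (q.e.app Y))
  have h := finSum_of_adj (q.adjF.comp q.adjJp) K hK' X (m ≫ (θ (∐ X)).hom)
  refine finSum_transfer _ _ (fun i => θ (X i)) (θ (∐ X)) (fun i => ?_) m h
  dsimp [θ]
  simp only [← Functor.map_comp]
  have h1 := bc2App_naturality q (q.jst.map (Sigma.ι X i))
  have h2 := q.e.hom.naturality (Sigma.ι X i)
  dsimp at h2
  rw [reassoc_of% h1, ← q.jpls.map_comp, h2, q.jpls.map_comp, Category.assoc]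

theorem isCompact_of_pullbacks (hq : q.IsMV) (N : S)
    (hU : CohDer.IsCompactObject (q.jst.obj N)) (hX' : CohDer.IsCompactObject (q.fst.obj N))
    (hU' : CohDer.IsCompactObject (q.gst.obj (q.jst.obj N))) : CohDer.IsCompactObject N := by
  classical
  have : q.jls.Additive := q.adjJ.right_adjoint_additive
  have : q.fls.Additive := q.adjF.right_adjoint_additive
  apply isCompact_of_finSum
  intro ι X h
  obtain ⟨Fa, xa, xa0, hxa⟩ := finSum_J q N hU X (h ≫ q.adjJ.unit.app (∐ X))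
  obtain ⟨Fb, xb, xb0, hxb⟩ := finSum_F q N hX' X (h ≫ q.adjF.unit.app (∐ X))
  have hxa' : h ≫ q.adjJ.unit.app (∐ X) =
      ∑ i ∈ Fa ∪ Fb, xa i ≫ q.jls.map (q.jst.map (Sigma.ι X i)) := by
    rw [hxa]
    exact Finset.sum_subset Finset.subset_union_left (fun i _ hi => by rw [xa0 i hi, zero_comp])
  have hxb' : h ≫ q.adjF.unit.app (∐ X) =
      ∑ i ∈ Fa ∪ Fb, xb i ≫ q.fls.map (q.fst.map (Sigma.ι X i)) := by
    rw [hxb]
    exact Finset.sum_subset Finset.subset_union_right (fun i _ hi => by rw [xb0 i hi, zero_comp])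
  have hnatJ : ∀ i, Sigma.ι X i ≫ q.adjJ.unit.app (∐ X) =
      q.adjJ.unit.app (X i) ≫ q.jls.map (q.jst.map (Sigma.ι X i)) :=
    fun i => q.adjJ.unit.naturality (Sigma.ι X i)
  have hnatF : ∀ i, Sigma.ι X i ≫ q.adjF.unit.app (∐ X) =
      q.adjF.unit.app (X i) ≫ q.fls.map (q.fst.map (Sigma.ι X i)) :=
    fun i => q.adjF.unit.naturality (Sigma.ι X i)
  have hΨ : ∀ i, biprod.lift (xa i) (xb i) ≫ mvV q (X i) = 0 := by
    refine finSum_inj X ((q.jst ⋙ q.jls) ⋙ (q.fst ⋙ q.fls)) (Fa ∪ Fb) _ (fun i hi => ?_) ?_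
    · rw [Finset.notMem_union] at hi
      rw [xa0 i hi.1, xb0 i hi.2]
      simp
    · have hY := mvU_comp_mvV q (∐ X)
      have e1 : ∀ i, (biprod.lift (xa i) (xb i) ≫ mvV q (X i)) ≫
          ((q.jst ⋙ q.jls) ⋙ (q.fst ⋙ q.fls)).map (Sigma.ι X i) =
          (((xa i ≫ q.jls.map (q.jst.map (Sigma.ι X i))) ≫
            q.adjF.unit.app (q.jls.obj (q.jst.obj (∐ X))) :
              N ⟶ q.fls.obj (q.fst.obj (q.jls.obj (q.jst.obj (∐ X))))) -
          ((xb i ≫ q.fls.map (q.fst.map (Sigma.ι X i))) ≫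
            q.fls.map (q.fst.map (q.adjJ.unit.app (∐ X))) :
              N ⟶ q.fls.obj (q.fst.obj (q.jls.obj (q.jst.obj (∐ X)))))) := by
        intro i
        have n1 := q.adjF.unit.naturality (q.jls.map (q.jst.map (Sigma.ι X i)))
        dsimp at n1
        have n2 := congrArg (fun t => q.fls.map (q.fst.map t)) (hnatJ i)
        simp only [Functor.map_comp] at n2
        rw [biprod.lift_desc, Preadditive.comp_neg, ← sub_eq_add_neg, Preadditive.sub_comp]
        dsimp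
        simp only [Category.assoc]
        rw [n1, n2]
      rw [Finset.sum_congr rfl (fun i _ => e1 i), Finset.sum_sub_distrib,
        ← Preadditive.sum_comp, ← Preadditive.sum_comp, ← hxa', ← hxb']
      rw [biprod.lift_desc, Preadditive.comp_neg, ← sub_eq_add_neg] at hY
      rw [Category.assoc, Category.assoc, ← Preadditive.comp_sub, hY, comp_zero]
  choose d hd using fun i => exists_mv_triangle q hq (X i)
  obtain ⟨dY, hdY⟩ := exists_mv_triangle q hq (∐ X)
  have hex : ∀ i, ∃ hh : N ⟶ X i, biprod.lift (xa i) (xb i) = hh ≫ mvU q (X i) :=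
    fun i => Triangle.coyoneda_exact₂ _ (hd i) (biprod.lift (xa i) (xb i)) (hΨ i)
  choose hh hhu using hex
  have hha : ∀ i, hh i ≫ q.adjJ.unit.app (X i) = xa i := by
    intro i
    have := congrArg (fun t => t ≫ biprod.fst) (hhu i)
    simp only [Category.assoc, biprod.lift_fst] at this
    exact this.symm
  have hhb : ∀ i, hh i ≫ q.adjF.unit.app (X i) = xb i := by
    intro i
    have := congrArg (fun t => t ≫ biprod.snd) (hhu i)
    simp only [Category.assoc, biprod.lift_snd] at this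
    exact this.symm
  have h0 : (h - ∑ i ∈ Fa ∪ Fb, hh i ≫ Sigma.ι X i) ≫ mvU q (∐ X) = 0 := by
    apply biprod.hom_ext
    · rw [Category.assoc, biprod.lift_fst, zero_comp, Preadditive.sub_comp, hxa',
        Preadditive.sum_comp, sub_eq_zero]
      refine Finset.sum_congr rfl fun i _ => ?_
      rw [Category.assoc, hnatJ, ← Category.assoc, hha]
    · rw [Category.assoc, biprod.lift_snd, zero_comp, Preadditive.sub_comp, hxb',
        Preadditive.sum_comp, sub_eq_zero]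
      refine Finset.sum_congr rfl fun i _ => ?_
      rw [Category.assoc, hnatF, ← Category.assoc, hhb]
  have hz : (h - ∑ i ∈ Fa ∪ Fb, hh i ≫ Sigma.ι X i)⟦(1 : ℤ)⟧' ≫ (mvU q (∐ X))⟦(1 : ℤ)⟧' = 0 := by
    rw [← Functor.map_comp, h0, Functor.map_zero]
  obtain ⟨g, hg⟩ : ∃ g : N⟦(1 : ℤ)⟧ ⟶ q.fls.obj (q.fst.obj (q.jls.obj (q.jst.obj (∐ X)))),
      (h - ∑ i ∈ Fa ∪ Fb, hh i ≫ Sigma.ι X i)⟦(1 : ℤ)⟧' = g ≫ dY :=
    Triangle.coyoneda_exact₁ _ hdY ((h - ∑ i ∈ Fa ∪ Fb, hh i ≫ Sigma.ι X i)⟦(1 : ℤ)⟧') hz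
  have hK : CohDer.IsCompactObject (q.gst.obj (q.jst.obj (N⟦(1 : ℤ)⟧))) :=
    isCompact_of_iso (((q.jst ⋙ q.gst).commShiftIso (1 : ℤ)).app N).symm (isCompact_shift hU' 1)
  obtain ⟨F', gg, gg0, hgg⟩ := finSum_FJ q hq (N⟦(1 : ℤ)⟧) hK X g
  have hnat : ∀ i, d i ≫ (Sigma.ι X i)⟦(1 : ℤ)⟧' =
      q.fls.map (q.fst.map (q.jls.map (q.jst.map (Sigma.ι X i)))) ≫ dY :=
    fun i => mv_naturality q hq (X i) (∐ X) (Sigma.ι X i) (d i) dY (hd i) hdY
  have h1 : h - ∑ i ∈ Fa ∪ Fb, hh i ≫ Sigma.ι X i =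
      ∑ i ∈ F', (shiftFunctor S (1 : ℤ)).preimage (gg i ≫ d i) ≫ Sigma.ι X i := by
    apply (shiftFunctor S (1 : ℤ)).map_injective
    rw [hg, hgg, Functor.map_sum, Preadditive.sum_comp]
    refine Finset.sum_congr rfl fun i _ => ?_
    rw [Functor.map_comp, Functor.map_preimage, Category.assoc, Category.assoc, hnat]
  have h2 : h = ∑ i ∈ Fa ∪ Fb, hh i ≫ Sigma.ι X i +
      ∑ i ∈ F', (shiftFunctor S (1 : ℤ)).preimage (gg i ≫ d i) ≫ Sigma.ι X i := by
    rw [← h1]; abel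
  rw [h2]
  exact (FinSum.of_sum _ _ _).add (FinSum.of_sum _ _ _)

end MV

end Groth.Agent.Lib.Helper40.MV
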