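import Groth.Agent.Lib.Helper40.MVSq

set_option autoImplicit false
set_option linter.unusedSectionVars false
universe v u
open CategoryTheory CategoryTheory.Limits CategoryTheory.Pretriangulated
open W4c3perfectstacks W4c3perfectstacks.MVSq

namespace Groth.Agent.Lib.Helper40.MV

lemma isIso_of_isIso_biprod_map {C : Type*} [Category C] [Preadditive C]
    [HasBinaryBiproducts C] {A A' B B' : C} (f : A ⟶ A') (g : B ⟶ B')
    (h : IsIso (biprod.map f g)) : IsIso g := by
  refine ⟨biprod.inr ≫ inv (biprod.map f g) ≫ biprod.snd, ?_, ?_⟩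
  · rw [← Category.assoc, ← biprod.inr_map (f := f), Category.assoc, IsIso.hom_inv_id_assoc,
      biprod.inr_snd]
  · rw [Category.assoc, Category.assoc, ← biprod.map_snd (f := f), IsIso.inv_hom_id_assoc,
      biprod.inr_snd]

section MV
variable {S S' R R' : Type u} [Category.{v} S] [Category.{v} S'] [Category.{v} R] [Category.{v} R']
    [Preadditive S] [Preadditive S'] [Preadditive R] [Preadditive R']
    [HasZeroObject S] [HasZeroObject S'] [HasZeroObject R] [HasZeroObject R']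
    [HasShift S ℤ] [HasShift S' ℤ] [HasShift R ℤ] [HasShift R' ℤ]
    [∀ n : ℤ, (shiftFunctor S n).Additive] [∀ n : ℤ, (shiftFunctor S' n).Additive]
    [∀ n : ℤ, (shiftFunctor R n).Additive] [∀ n : ℤ, (shiftFunctor R' n).Additive]
    [Pretriangulated S] [Pretriangulated S'] [Pretriangulated R] [Pretriangulated R']
    (q : W4c3perfectstacks.MVSq S S' R R')
    [q.jst.CommShift ℤ] [q.fst.CommShift ℤ] [q.jpst.CommShift ℤ] [q.gst.CommShift ℤ]
    [q.jst.IsTriangulated] [q.fst.IsTriangulated] [q.jpst.IsTriangulated] [q.gst.IsTriangulated]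

lemma glue_isIso_left (hq : q.IsMV) (NU : R) (N' : S') (δ : q.jpst.obj N' ≅ q.gst.obj NU) (N : S)
    (a : N ⟶ q.jls.obj NU ⊞ q.fls.obj N')
    (d : q.fls.obj (q.jpls.obj (q.gst.obj NU)) ⟶ N⟦(1 : ℤ)⟧)
    (hT : Triangle.mk a
      (biprod.desc (q.adjF.unit.app (q.jls.obj NU) ≫ q.fls.map (q.bc2App NU))
        (-(q.fls.map (q.adjJp.unit.app N' ≫ q.jpls.map δ.hom)))) d ∈ distTriang S) :
    IsIso (q.jst.map (a ≫ biprod.fst)) := by
  have hjT := q.jst.map_distinguished _ hT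
  have hx : IsIso (q.jpst.map (q.adjJp.unit.app N' ≫ q.jpls.map δ.hom)) := by
    rw [Functor.map_comp]
    have := isIso_jpst_map_unitJp q hq N'
    infer_instance
  have hx2 := isIso_jst_map_fls_map q hq _ hx
  have e1 : q.jst.map (biprod.inl : q.jls.obj NU ⟶ q.jls.obj NU ⊞ q.fls.obj N') ≫
      q.jst.map biprod.fst = 𝟙 _ := by
    rw [← Functor.map_comp, biprod.inl_fst, CategoryTheory.Functor.map_id]
  have e2 : q.jst.map (biprod.inr : q.fls.obj N' ⟶ q.jls.obj NU ⊞ q.fls.obj N') ≫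
      q.jst.map biprod.fst = 0 := by
    rw [← Functor.map_comp, biprod.inr_fst, Functor.map_zero]
  have e3 : q.jst.map (biprod.fst : q.jls.obj NU ⊞ q.fls.obj N' ⟶ _) ≫
      q.jst.map biprod.inl + q.jst.map biprod.snd ≫ q.jst.map biprod.inr = 𝟙 _ := by
    rw [← Functor.map_comp, ← Functor.map_comp, ← Functor.map_add, biprod.total,
      CategoryTheory.Functor.map_id]
  have e4 : IsIso (q.jst.map (biprod.inr : q.fls.obj N' ⟶ q.jls.obj NU ⊞ q.fls.obj N') ≫
      q.jst.map (biprod.desc (q.adjF.unit.app (q.jls.obj NU) ≫ q.fls.map (q.bc2App NU))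
        (-(q.fls.map (q.adjJp.unit.app N' ≫ q.jpls.map δ.hom))))) := by
    rw [← Functor.map_comp, biprod.inr_desc, Functor.map_neg]
    exact isIso_neg _
  have h := isIso_mor₁_comp_fst _ hjT (q.jst.map biprod.inl) (q.jst.map biprod.inr)
      (q.jst.map biprod.fst) (q.jst.map biprod.snd) e1 e2 e3 e4
  rw [Functor.map_comp]
  exact h

lemma glue_rel (NU : R) (N' : S') (δ : q.jpst.obj N' ≅ q.gst.obj NU) (N : S)
    (a : N ⟶ q.jls.obj NU ⊞ q.fls.obj N')
    (d : q.fls.obj (q.jpls.obj (q.gst.obj NU)) ⟶ N⟦(1 : ℤ)⟧)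
    (hT : Triangle.mk a
      (biprod.desc (q.adjF.unit.app (q.jls.obj NU) ≫ q.fls.map (q.bc2App NU))
        (-(q.fls.map (q.adjJp.unit.app N' ≫ q.jpls.map δ.hom)))) d ∈ distTriang S) :
    q.fst.map (a ≫ biprod.fst) ≫ q.bc2App NU =
      (q.adjF.homEquiv N N').symm (a ≫ biprod.snd) ≫ q.adjJp.unit.app N' ≫ q.jpls.map δ.hom := by
  have h12 : a ≫ biprod.desc (q.adjF.unit.app (q.jls.obj NU) ≫ q.fls.map (q.bc2App NU))
        (-(q.fls.map (q.adjJp.unit.app N' ≫ q.jpls.map δ.hom))) = 0 :=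
    comp_distTriang_mor_zero₁₂ _ hT
  rw [biprod.desc_eq, Preadditive.comp_add, Preadditive.comp_neg, Preadditive.comp_neg,
    add_neg_eq_zero] at h12
  apply (q.adjF.homEquiv _ _).injective
  rw [Adjunction.homEquiv_naturality_right, Adjunction.homEquiv_naturality_right,
    Equiv.apply_symm_apply, Adjunction.homEquiv_unit]
  have hnat := q.adjF.unit.naturality (a ≫ biprod.fst)
  dsimp at hnat
  rw [← hnat]
  simpa [Category.assoc] using h12

lemma glue_isIso_jpst_map (hq : q.IsMV) (NU : R) (N' : S') (δ : q.jpst.obj N' ≅ q.gst.obj NU) (N : S)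
    (a : N ⟶ q.jls.obj NU ⊞ q.fls.obj N')
    (d : q.fls.obj (q.jpls.obj (q.gst.obj NU)) ⟶ N⟦(1 : ℤ)⟧)
    (hT : Triangle.mk a
      (biprod.desc (q.adjF.unit.app (q.jls.obj NU) ≫ q.fls.map (q.bc2App NU))
        (-(q.fls.map (q.adjJp.unit.app N' ≫ q.jpls.map δ.hom)))) d ∈ distTriang S) :
    IsIso (q.jpst.map ((q.adjF.homEquiv N N').symm (a ≫ biprod.snd))) := by
  have hrel := congrArg (fun t => q.jpst.map t) (glue_rel q NU N' δ N a d hT)
  simp only [Functor.map_comp] at hrel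
  have h1 : IsIso (q.jpst.map (q.fst.map a) ≫ q.jpst.map (q.fst.map biprod.fst)) := by
    rw [← Functor.map_comp, ← Functor.map_comp]
    exact isIso_jpst_map_fst_map q _ (glue_isIso_left q hq NU N' δ N a d hT)
  have h2 : IsIso (q.jpst.map (q.bc2App NU)) := by
    have := hq.isIso_bc2App NU
    infer_instance
  have h3 : IsIso (q.jpst.map (q.adjJp.unit.app N')) := isIso_jpst_map_unitJp q hq N'
  have h4 : IsIso (q.jpst.map (q.jpls.map δ.hom)) := inferInstance
  have h5 : q.jpst.map ((q.adjF.homEquiv N N').symm (a ≫ biprod.snd)) =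
      ((q.jpst.map (q.fst.map a) ≫ q.jpst.map (q.fst.map biprod.fst)) ≫
        q.jpst.map (q.bc2App NU)) ≫ inv (q.jpst.map (q.jpls.map δ.hom)) ≫
          inv (q.jpst.map (q.adjJp.unit.app N')) := by
    rw [hrel]
    simp
  rw [h5]
  infer_instance

lemma glue_isIso_fls_map (hq : q.IsMV) (NU : R) (N' : S') (δ : q.jpst.obj N' ≅ q.gst.obj NU) (N : S)
    (a : N ⟶ q.jls.obj NU ⊞ q.fls.obj N')
    (d : q.fls.obj (q.jpls.obj (q.gst.obj NU)) ⟶ N⟦(1 : ℤ)⟧)
    (hT : Triangle.mk a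
      (biprod.desc (q.adjF.unit.app (q.jls.obj NU) ≫ q.fls.map (q.bc2App NU))
        (-(q.fls.map (q.adjJp.unit.app N' ≫ q.jpls.map δ.hom)))) d ∈ distTriang S) :
    IsIso (q.fls.map ((q.adjF.homEquiv N N').symm (a ≫ biprod.snd))) := by
  set α := (q.adjJ.homEquiv N NU).symm (a ≫ biprod.fst) with hα
  set β := (q.adjF.homEquiv N N').symm (a ≫ biprod.snd) with hβ
  have hαu : q.adjJ.unit.app N ≫ q.jls.map α = a ≫ biprod.fst := by
    have h := (q.adjJ.homEquiv N NU).apply_symm_apply (a ≫ biprod.fst)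
    rw [Adjunction.homEquiv_unit] at h
    exact h
  have hβu : q.adjF.unit.app N ≫ q.fls.map β = a ≫ biprod.snd := by
    have h := (q.adjF.homEquiv N N').apply_symm_apply (a ≫ biprod.snd)
    rw [Adjunction.homEquiv_unit] at h
    exact h
  have hαiso : IsIso α := by
    have h1 := glue_isIso_left q hq NU N' δ N a d hT
    have h2 := hq.isIso_counitJ
    rw [hα, Adjunction.homEquiv_counit]
    infer_instance
  obtain ⟨dN, hdN⟩ := exists_mv_triangle q hq N
  have comm1 : mvU q N ≫ biprod.map (q.jls.map α) (q.fls.map β) = 𝟙 N ≫ a := by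
    apply biprod.hom_ext
    · simp only [Category.assoc, biprod.map_fst, biprod.lift_fst_assoc, Category.id_comp, hαu]
    · simp only [Category.assoc, biprod.map_snd, biprod.lift_snd_assoc, Category.id_comp, hβu]
  have hrel := glue_rel q NU N' δ N a d hT
  have hFJ := q.adjF.unit.naturality (q.jls.map α)
  dsimp at hFJ
  have comm2 : mvV q N ≫ q.fls.map (q.fst.map (q.jls.map α) ≫ q.bc2App NU) =
      biprod.map (q.jls.map α) (q.fls.map β) ≫
        biprod.desc (q.adjF.unit.app (q.jls.obj NU) ≫ q.fls.map (q.bc2App NU))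
        (-(q.fls.map (q.adjJp.unit.app N' ≫ q.jpls.map δ.hom))) := by
    apply biprod.hom_ext'
    · simp only [biprod.inl_desc_assoc, biprod.inl_map_assoc, biprod.inl_desc, Functor.map_comp,
        reassoc_of% hFJ]
    · simp only [biprod.inr_desc_assoc, biprod.inr_map_assoc, biprod.inr_desc,
        Preadditive.neg_comp, Preadditive.comp_neg, ← Functor.map_comp]
      rw [← Category.assoc, ← q.fst.map_comp, hαu, hrel]
  obtain ⟨c, hc1, hc2⟩ : ∃ c : q.fls.obj (q.fst.obj (q.jls.obj (q.jst.obj N))) ⟶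
      q.fls.obj (q.jpls.obj (q.gst.obj NU)),
      mvV q N ≫ c = biprod.map (q.jls.map α) (q.fls.map β) ≫
        biprod.desc (q.adjF.unit.app (q.jls.obj NU) ≫ q.fls.map (q.bc2App NU))
        (-(q.fls.map (q.adjJp.unit.app N' ≫ q.jpls.map δ.hom))) ∧
      dN ≫ (shiftFunctor S (1 : ℤ)).map (𝟙 N) = c ≫ d :=
    complete_distinguished_triangle_morphism _ _ hdN hT (𝟙 N)
      (biprod.map (q.jls.map α) (q.fls.map β)) comm1
  have h0 : mvV q N ≫ (c - q.fls.map (q.fst.map (q.jls.map α) ≫ q.bc2App NU)) = 0 := by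
    rw [Preadditive.comp_sub, hc1, comm2, sub_self]
  obtain ⟨ψ, hψ⟩ : ∃ ψ : N⟦(1 : ℤ)⟧ ⟶ _,
      c - q.fls.map (q.fst.map (q.jls.map α) ≫ q.bc2App NU) = dN ≫ ψ :=
    Triangle.yoneda_exact₃ _ hdN _ h0
  rw [mv_d_comp_eq_zero q hq N dN hdN (isLocal_fls_jpls q _) ψ, sub_eq_zero] at hψ
  have hciso : IsIso c := by
    rw [hψ]
    have := hq.isIso_bc2App NU
    infer_instance
  let Φ : Triangle.mk (mvU q N) (mvV q N) dN ⟶ Triangle.mk a
      (biprod.desc (q.adjF.unit.app (q.jls.obj NU) ≫ q.fls.map (q.bc2App NU))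
        (-(q.fls.map (q.adjJp.unit.app N' ≫ q.jpls.map δ.hom)))) d :=
    Triangle.homMk _ _ (𝟙 N) (biprod.map (q.jls.map α) (q.fls.map β)) c comm1 hc1 hc2
  have hm : IsIso (biprod.map (q.jls.map α) (q.fls.map β)) :=
    isIso₂_of_isIso₁₃ Φ hdN hT (inferInstanceAs (IsIso (𝟙 N))) hciso
  exact isIso_of_isIso_biprod_map _ _ hm

lemma isIso_of_isIso_jpst_map_of_isIso_fls_map (hq : q.IsMV) {M M' : S'} (β : M ⟶ M')
    (h1 : IsIso (q.jpst.map β)) (h2 : IsIso (q.fls.map β)) : IsIso β := by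
  let _ : q.fls.CommShift ℤ := q.adjF.rightAdjointCommShift ℤ
  have : q.adjF.CommShift ℤ := q.adjF.commShift_of_leftAdjoint ℤ
  have : q.fls.IsTriangulated := q.adjF.isTriangulated_rightAdjoint
  obtain ⟨E, p, r, hT⟩ := distinguished_cocone_triangle β
  have hE1 : IsZero (q.jpst.obj E) :=
    (Triangle.isZero₃_iff_isIso₁ _ (q.jpst.map_distinguished _ hT)).2 h1
  have hE2 : IsZero (q.fls.obj E) :=
    (Triangle.isZero₃_iff_isIso₁ _ (q.fls.map_distinguished _ hT)).2 h2
  have hc := hq.isIso_counitF E hE1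
  have hE : IsZero E := (q.fst.map_isZero hE2).of_iso (asIso (q.adjF.counit.app E)).symm
  exact (Triangle.isZero₃_iff_isIso₁ _ hT).1 hE

lemma glue_isIso (hq : q.IsMV) (NU : R) (N' : S') (δ : q.jpst.obj N' ≅ q.gst.obj NU) (N : S)
    (a : N ⟶ q.jls.obj NU ⊞ q.fls.obj N')
    (d : q.fls.obj (q.jpls.obj (q.gst.obj NU)) ⟶ N⟦(1 : ℤ)⟧)
    (hT : Triangle.mk a
      (biprod.desc (q.adjF.unit.app (q.jls.obj NU) ≫ q.fls.map (q.bc2App NU))
        (-(q.fls.map (q.adjJp.unit.app N' ≫ q.jpls.map δ.hom)))) d ∈ distTriang S) :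
    IsIso ((q.adjJ.homEquiv N NU).symm (a ≫ biprod.fst)) ∧
      IsIso ((q.adjF.homEquiv N N').symm (a ≫ biprod.snd)) := by
  constructor
  · have h1 := glue_isIso_left q hq NU N' δ N a d hT
    have h2 := hq.isIso_counitJ
    rw [Adjunction.homEquiv_counit]
    infer_instance
  · exact isIso_of_isIso_jpst_map_of_isIso_fls_map q hq _
      (glue_isIso_jpst_map q hq NU N' δ N a d hT) (glue_isIso_fls_map q hq NU N' δ N a d hT)

end MV

end Groth.Agent.Lib.Helper40.MV
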