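import Mathlib.CategoryTheory.Triangulated.Functor
import Mathlib.CategoryTheory.Triangulated.Adjunction
import Mathlib.CategoryTheory.Shift.Adjunction
import Mathlib.CategoryTheory.Adjunction.Additive
import Groth.Prelude.Def_W4c3perfectstacksMV

set_option autoImplicit false
set_option linter.unusedSectionVars false
universe v u
open CategoryTheory CategoryTheory.Limits CategoryTheory.Pretriangulated
open W4c3perfectstacks W4c3perfectstacks.MVSq

namespace Groth.Agent.Lib.Helper40.MV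

section General

variable {C : Type*} [Category C] [Preadditive C] [HasZeroObject C] [HasShift C ℤ]
  [∀ n : ℤ, (shiftFunctor C n).Additive] [Pretriangulated C]

lemma isIso_inr_comp_mor₂ (T : Triangle C) (hT : T ∈ distTriang C) {A B : C}
    (ia : A ⟶ T.obj₂) (ib : B ⟶ T.obj₂) (pa : T.obj₂ ⟶ A) (pb : T.obj₂ ⟶ B)
    (hbb : ib ≫ pb = 𝟙 B) (hba : ib ≫ pa = 0)
    (htot : pa ≫ ia + pb ≫ ib = 𝟙 T.obj₂) (h : IsIso (T.mor₁ ≫ pa)) : IsIso (ib ≫ T.mor₂) := by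
  set s := inv (T.mor₁ ≫ pa) with hs
  have hfr : T.mor₁ ≫ pa ≫ s = 𝟙 _ := by
    rw [← Category.assoc]; exact IsIso.hom_inv_id _
  have hmono : Mono T.mor₁ := by
    have : SplitMono T.mor₁ := ⟨pa ≫ s, hfr⟩
    exact this.mono
  have h3 : T.mor₃ = 0 := T.mor₃_eq_zero_of_mono₁ hT hmono
  have hepi : Epi T.mor₂ := T.epi₂ hT h3
  obtain ⟨k, hk⟩ := T.yoneda_exact₂ hT ((𝟙 _ - pa ≫ s ≫ T.mor₁) ≫ pb) (by
    rw [Preadditive.comp_sub_assoc, Category.comp_id]
    rw [reassoc_of% hfr, sub_self, zero_comp])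
  refine ⟨k, ?_, ?_⟩
  · rw [Category.assoc, ← hk, Preadditive.sub_comp, Preadditive.comp_sub, Category.id_comp, hbb]
    rw [Category.assoc, Category.assoc, ← Category.assoc ib pa, hba, zero_comp, sub_zero]
  · rw [← cancel_epi T.mor₂, ← Category.assoc, ← Category.assoc, ← hk, Category.comp_id]
    have h1 : pb ≫ ib = 𝟙 _ - pa ≫ ia := by rw [← htot]; abel
    rw [Category.assoc _ pb ib, h1]
    simp only [Preadditive.sub_comp, Preadditive.comp_sub, Category.id_comp, Category.comp_id,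
      Category.assoc]
    have h12 := comp_distTriang_mor_zero₁₂ T hT
    have e1 : pa ≫ s ≫ T.mor₁ ≫ T.mor₂ = 0 := by rw [h12]; simp
    have e2 : pa ≫ s ≫ T.mor₁ ≫ pa ≫ ia ≫ T.mor₂ = pa ≫ ia ≫ T.mor₂ := by
      have : s ≫ T.mor₁ ≫ pa = 𝟙 _ := IsIso.inv_hom_id _
      rw [← Category.assoc T.mor₁ pa, ← Category.assoc s, this, Category.id_comp]
    rw [e1, e2]; abel

lemma isIso_mor₁_comp_fst (T : Triangle C) (hT : T ∈ distTriang C) {A B : C}
    (ia : A ⟶ T.obj₂) (ib : B ⟶ T.obj₂) (pa : T.obj₂ ⟶ A) (pb : T.obj₂ ⟶ B)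
    (haa : ia ≫ pa = 𝟙 A) (hba : ib ≫ pa = 0)
    (htot : pa ≫ ia + pb ≫ ib = 𝟙 T.obj₂) (h : IsIso (ib ≫ T.mor₂)) : IsIso (T.mor₁ ≫ pa) := by
  set t := inv (ib ≫ T.mor₂) with ht
  have hsg : (t ≫ ib) ≫ T.mor₂ = 𝟙 _ := by
    rw [Category.assoc]; exact IsIso.inv_hom_id _
  have hepi : Epi T.mor₂ := by
    have : SplitEpi T.mor₂ := ⟨t ≫ ib, hsg⟩
    exact this.epi
  have h3 : T.mor₃ = 0 := T.mor₃_eq_zero_of_epi₂ hT hepi
  have hmono : Mono T.mor₁ := T.mono₁ hT h3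
  obtain ⟨k, hk⟩ := T.coyoneda_exact₂ hT (ia ≫ (𝟙 _ - T.mor₂ ≫ t ≫ ib)) (by
    rw [Category.assoc, Preadditive.sub_comp, Category.id_comp]
    have : (T.mor₂ ≫ t ≫ ib) ≫ T.mor₂ = T.mor₂ := by
      rw [Category.assoc, hsg, Category.comp_id]
    rw [this, sub_self, comp_zero])
  refine ⟨k, ?_, ?_⟩
  · rw [← cancel_mono T.mor₁, Category.assoc, Category.assoc, ← hk, Category.id_comp]
    have h1 : pa ≫ ia = 𝟙 _ - pb ≫ ib := by rw [← htot]; abel
    rw [← Category.assoc pa ia, h1]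
    simp only [Preadditive.sub_comp, Preadditive.comp_sub, Category.id_comp, Category.comp_id,
      Category.assoc]
    have h12 := comp_distTriang_mor_zero₁₂ T hT
    have e1 : T.mor₁ ≫ T.mor₂ ≫ t ≫ ib = 0 := by rw [← Category.assoc, h12, zero_comp]
    have e2 : T.mor₁ ≫ pb ≫ ib ≫ T.mor₂ ≫ t ≫ ib = T.mor₁ ≫ pb ≫ ib := by
      have : (ib ≫ T.mor₂) ≫ t = 𝟙 _ := IsIso.hom_inv_id _
      rw [← Category.assoc ib T.mor₂, ← Category.assoc (ib ≫ T.mor₂), this, Category.id_comp]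
    rw [e1, e2]; abel
  · rw [← Category.assoc, ← hk, Category.assoc, Preadditive.sub_comp, Preadditive.comp_sub,
      Category.id_comp, haa]
    rw [Category.assoc, Category.assoc, hba, comp_zero, comp_zero, comp_zero, sub_zero]

lemma isZero_rightAdjoint_obj {C D : Type*} [Category C] [Category D] [Preadditive C]
    {F : C ⥤ D} {G : D ⥤ C} (adj : F ⊣ G) (Z : D) (hZ : IsZero Z) : IsZero (G.obj Z) := by
  rw [IsZero.iff_id_eq_zero]
  apply (adj.homEquiv _ _).symm.injective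
  exact hZ.eq_of_tgt _ _

lemma isIso_map_unit_of_isIso_counit {C D : Type*} [Category C] [Category D]
    {F : C ⥤ D} {G : D ⥤ C} (adj : F ⊣ G) [IsIso adj.counit] (X : C) :
    IsIso (F.map (adj.unit.app X)) := by
  have h := adj.left_triangle_components X
  have : F.map (adj.unit.app X) = inv (adj.counit.app (F.obj X)) := by
    rw [← cancel_mono (adj.counit.app (F.obj X)), h, IsIso.inv_hom_id]
    rfl
  rw [this]; infer_instance

lemma isIso_neg {C : Type*} [Category C] [Preadditive C] {X Y : C} (f : X ⟶ Y) [IsIso f] :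
    IsIso (-f) :=
  ⟨-inv f, by simp, by simp⟩

lemma unit_shift_comp_eq_zero {C D : Type*} [Category C] [Category D] [Preadditive C]
    [HasShift C ℤ] [HasShift D ℤ] {F : C ⥤ D} {G : D ⥤ C} (adj : F ⊣ G) [F.CommShift ℤ]
    {K X : C} (g : K ⟶ X⟦(1 : ℤ)⟧)
    (hg : g ≫ (adj.unit.app X)⟦(1 : ℤ)⟧' = 0) : g ≫ adj.unit.app (X⟦(1 : ℤ)⟧) = 0 := by
  let _ : G.CommShift ℤ := adj.rightAdjointCommShift ℤ
  have : adj.CommShift ℤ := adj.commShift_of_leftAdjoint ℤ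
  rw [adj.shift_unit_app] at hg
  have h2 := congrArg (fun t => t ≫ (G.commShiftIso (1 : ℤ)).inv.app (F.obj X) ≫
    G.map ((F.commShiftIso (1 : ℤ)).inv.app X)) hg
  simp only [Category.assoc, zero_comp, Iso.hom_inv_id_app_assoc] at h2
  rw [← G.map_comp, Iso.hom_inv_id_app] at h2
  simpa using h2

end General

section MV

variable {S S' R R' : Type u} [Category.{v} S] [Category.{v} S'] [Category.{v} R] [Category.{v} R']
    [Preadditive S] [Preadditive S'] [Preadditive R] [Preadditive R']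
    [HasZeroObject S] [HasZeroObject S'] [HasZeroObject R] [HasZeroObject R']
    [HasShift S ℤ] [HasShift S' ℤ] [HasShift R ℤ] [HasShift R' ℤ]
    [∀ n : ℤ, (shiftFunctor S n).Additive] [∀ n : ℤ, (shiftFunctor S' n).Additive]
    [∀ n : ℤ, (shiftFunctor R n).Additive] [∀ n : ℤ, (shiftFunctor R' n).Additive]
    [Pretriangulated S] [Pretriangulated S'] [Pretriangulated R] [Pretriangulated R']
    (q : W4c3perfectstacks.MVSq S S' R R')
    [q.jst.CommShift ℤ] [q.fst.CommShift ℤ] [q.jpst.CommShift ℤ] [q.gst.CommShift ℤ]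
    [q.jst.IsTriangulated] [q.fst.IsTriangulated] [q.jpst.IsTriangulated] [q.gst.IsTriangulated]

def IsLocal (X : S) : Prop := ∀ K : S, IsZero (q.jst.obj K) → ∀ g : K ⟶ X, g = 0

lemma isZero_jst_shift (K : S) (hK : IsZero (q.jst.obj K)) (n : ℤ) :
    IsZero (q.jst.obj (K⟦n⟧)) := by
  have h1 : IsZero ((q.jst.obj K)⟦n⟧) := (shiftFunctor R n).map_isZero hK
  exact h1.of_iso ((q.jst.commShiftIso n).app K)

variable {q} in
lemma IsLocal.of_iso {X Y : S} (hX : IsLocal q X) (e : X ≅ Y) : IsLocal q Y := by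
  intro K hK g
  have := hX K hK (g ≫ e.inv)
  rw [← cancel_mono e.inv, this, zero_comp]

variable {q} in
lemma IsLocal.shift {X : S} (hX : IsLocal q X) (n : ℤ) : IsLocal q (X⟦n⟧) := by
  intro K hK g
  have h1 := hX _ (isZero_jst_shift q K hK (-n))
    (g⟦-n⟧' ≫ (shiftFunctorCompIsoId S n (-n) (by omega)).hom.app X)
  have h2 : g⟦-n⟧' = 0 := by
    rw [← cancel_mono ((shiftFunctorCompIsoId S n (-n) (by omega)).hom.app X), h1, zero_comp]
  apply (shiftFunctor S (-n)).map_injective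
  rw [h2, Functor.map_zero]

lemma isLocal_jls (P : R) : IsLocal q (q.jls.obj P) := by
  intro K hK g
  apply (q.adjJ.homEquiv _ _).symm.injective
  exact hK.eq_of_src _ _

lemma isLocal_fls_jpls (Q : R') : IsLocal q (q.fls.obj (q.jpls.obj Q)) := by
  intro K hK g
  apply (q.adjF.homEquiv _ _).symm.injective
  apply (q.adjJp.homEquiv _ _).symm.injective
  have h1 : IsZero (q.jpst.obj (q.fst.obj K)) :=
    ((q.gst.map_isZero hK)).of_iso (q.e.symm.app K)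
  exact h1.eq_of_src _ _

lemma isLocal_F_jls (hq : q.IsMV) (P : R) :
    IsLocal q (q.fls.obj (q.fst.obj (q.jls.obj P))) := by
  have := hq.isIso_bc2App P
  exact (isLocal_fls_jpls q (q.gst.obj P)).of_iso (q.fls.mapIso (asIso (q.bc2App P)).symm)

lemma isIso_jst_map_unitJ (hq : q.IsMV) (N : S) : IsIso (q.jst.map (q.adjJ.unit.app N)) := by
  have := hq.isIso_counitJ
  exact isIso_map_unit_of_isIso_counit q.adjJ N

lemma isIso_jpst_map_unitJp (hq : q.IsMV) (M : S') : IsIso (q.jpst.map (q.adjJp.unit.app M)) := by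
  have := hq.isIso_counitJp
  exact isIso_map_unit_of_isIso_counit q.adjJp M

lemma exists_gamma (hq : q.IsMV) (N : S) :
    ∃ (Γ : S) (γ : Γ ⟶ N) (h : q.jls.obj (q.jst.obj N) ⟶ Γ⟦(1 : ℤ)⟧),
      Triangle.mk γ (q.adjJ.unit.app N) h ∈ distTriang S ∧ IsZero (q.jst.obj Γ) := by
  obtain ⟨Γ, γ, h, hT⟩ := distinguished_cocone_triangle₁ (q.adjJ.unit.app N)
  refine ⟨Γ, γ, h, hT, ?_⟩
  have hT' := q.jst.map_distinguished _ hT
  have := isIso_jst_map_unitJ q hq N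
  exact (Triangle.isZero₁_iff_isIso₂ _ hT').2 this

lemma unitF_comp_bijective (hq : q.IsMV) (K : S) (hK : IsZero (q.jst.obj K)) (N : S) :
    Function.Bijective (fun g : K ⟶ N => g ≫ q.adjF.unit.app N) := by
  let _ : q.fls.CommShift ℤ := q.adjF.rightAdjointCommShift ℤ
  have : q.adjF.CommShift ℤ := q.adjF.commShift_of_leftAdjoint ℤ
  have : q.fls.IsTriangulated := q.adjF.isTriangulated_rightAdjoint
  obtain ⟨Γ, γ, h, hT, hΓ⟩ := exists_gamma q hq N
  have hFT := q.fls.map_distinguished _ (q.fst.map_distinguished _ hT)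
  have hiso : IsIso (q.adjF.unit.app Γ) := hq.isIso_unitF Γ hΓ
  have hnat : γ ≫ q.adjF.unit.app N = q.adjF.unit.app Γ ≫ q.fls.map (q.fst.map γ) :=
    q.adjF.unit.naturality γ
  constructor
  · intro g₁ g₂ hg
    dsimp only at hg
    rw [← sub_eq_zero]
    have hg0 : (g₁ - g₂) ≫ q.adjF.unit.app N = 0 := by
      rw [Preadditive.sub_comp, hg, sub_self]
    generalize g₁ - g₂ = g at hg0
    have h1 : g ≫ q.adjJ.unit.app N = 0 := isLocal_jls q _ K hK _
    obtain ⟨g', hg'⟩ : ∃ g' : K ⟶ Γ, g = g' ≫ γ := Triangle.coyoneda_exact₂ _ hT g h1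
    subst hg'
    have h2 : (g' ≫ q.adjF.unit.app Γ) ≫ q.fls.map (q.fst.map γ) = 0 := by
      rw [Category.assoc, ← hnat, ← Category.assoc]; exact hg0
    obtain ⟨w, hw⟩ := Triangle.coyoneda_exact₂ _ (inv_rot_of_distTriang _ hFT)
      (g' ≫ q.adjF.unit.app Γ) h2
    have hw0 : w = 0 := (isLocal_F_jls q hq (q.jst.obj N)).shift (-1) K hK w
    rw [hw0, zero_comp] at hw
    have : g' = 0 := by
      rw [← cancel_mono (q.adjF.unit.app Γ)]
      exact hw.trans zero_comp.symm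
    rw [this, zero_comp]
  · intro t
    have h1 : t ≫ q.fls.map (q.fst.map (q.adjJ.unit.app N)) = 0 :=
      isLocal_F_jls q hq (q.jst.obj N) K hK _
    obtain ⟨t', ht'⟩ : ∃ t' : K ⟶ q.fls.obj (q.fst.obj Γ), t = t' ≫ q.fls.map (q.fst.map γ) :=
      Triangle.coyoneda_exact₂ _ hFT t h1
    refine ⟨(t' ≫ inv (q.adjF.unit.app Γ)) ≫ γ, ?_⟩
    dsimp only
    rw [Category.assoc, hnat, Category.assoc, IsIso.inv_hom_id_assoc, ht']

lemma isZero_jst_fls (hq : q.IsMV) (M : S') (hM : IsZero (q.jpst.obj M)) :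
    IsZero (q.jst.obj (q.fls.obj M)) := by
  have := hq.isIso_bcApp M
  exact (isZero_rightAdjoint_obj q.adjG _ hM).of_iso (asIso (q.bcApp M))

lemma fst_map_bijective (hq : q.IsMV) (K : S) (hK : IsZero (q.jst.obj K)) (N : S) :
    Function.Bijective (fun g : K ⟶ N => q.fst.map g) := by
  have h : (fun g : K ⟶ N => q.fst.map g) =
      (q.adjF.homEquiv K (q.fst.obj N)).symm ∘ (fun g : K ⟶ N => g ≫ q.adjF.unit.app N) := by
    funext g
    simp [Adjunction.homEquiv_counit]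
  rw [h]
  exact (Equiv.bijective _).comp (unitF_comp_bijective q hq K hK N)

lemma bcApp_naturality {M M' : S'} (x : M ⟶ M') :
    q.jst.map (q.fls.map x) ≫ q.bcApp M' = q.bcApp M ≫ q.gls.map (q.jpst.map x) := by
  unfold MVSq.bcApp
  have h1 := q.adjG.unit.naturality (q.jst.map (q.fls.map x))
  have h2 := q.e.hom.naturality (q.fls.map x)
  have h3 := q.adjF.counit.naturality x
  dsimp at h1 h2 h3
  rw [reassoc_of% h1, ← q.gls.map_comp_assoc, h2]
  simp only [Category.assoc, ← Functor.map_comp]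
  rw [h3]

lemma bc2App_naturality {P P' : R} (x : P ⟶ P') :
    q.fst.map (q.jls.map x) ≫ q.bc2App P' = q.bc2App P ≫ q.jpls.map (q.gst.map x) := by
  unfold MVSq.bc2App
  have h1 := q.adjJp.unit.naturality (q.fst.map (q.jls.map x))
  have h2 := q.e.inv.naturality (q.jls.map x)
  have h3 := q.adjJ.counit.naturality x
  dsimp at h1 h2 h3
  rw [reassoc_of% h1, ← q.jpls.map_comp_assoc, h2]
  simp only [Category.assoc, ← Functor.map_comp]
  rw [h3]

lemma isIso_jst_map_fls_map (hq : q.IsMV) {M M' : S'} (x : M ⟶ M')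
    (hx : IsIso (q.jpst.map x)) : IsIso (q.jst.map (q.fls.map x)) := by
  have h1 := hq.isIso_bcApp M
  have h2 := hq.isIso_bcApp M'
  have h := bcApp_naturality q x
  have : q.jst.map (q.fls.map x) = q.bcApp M ≫ q.gls.map (q.jpst.map x) ≫ inv (q.bcApp M') := by
    rw [← Category.assoc, ← h, Category.assoc, IsIso.hom_inv_id, Category.comp_id]
  rw [this]; infer_instance

lemma isIso_jpst_map_fst_map {N N' : S} (y : N ⟶ N') (hy : IsIso (q.jst.map y)) :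
    IsIso (q.jpst.map (q.fst.map y)) := by
  have h := q.e.hom.naturality y
  dsimp at h
  have : q.jpst.map (q.fst.map y) = q.e.inv.app N ≫ q.gst.map (q.jst.map y) ≫ q.e.hom.app N' := by
    rw [h, Iso.inv_hom_id_app_assoc]
  rw [this]; infer_instance

lemma isIso_jst_map_F_unitJ (hq : q.IsMV) (N : S) :
    IsIso (q.jst.map (q.fls.map (q.fst.map (q.adjJ.unit.app N)))) :=
  isIso_jst_map_fls_map q hq _ (isIso_jpst_map_fst_map q _ (isIso_jst_map_unitJ q hq N))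

lemma isIso_of_isLocal_of_isIso_jst_map {X Y : S} (φ : X ⟶ Y) (hX : IsLocal q X)
    (hY : IsLocal q Y) (hφ : IsIso (q.jst.map φ)) : IsIso φ := by
  obtain ⟨Q, a, b, hT⟩ := distinguished_cocone_triangle₁ φ
  have hQ : IsZero (q.jst.obj Q) :=
    (Triangle.isZero₁_iff_isIso₂ _ (q.jst.map_distinguished _ hT)).2 hφ
  have ha : a = 0 := hX Q hQ a
  have h0 : 𝟙 Q ≫ a = 0 := by rw [ha, comp_zero]
  obtain ⟨w, hw⟩ := Triangle.coyoneda_exact₂ _ (inv_rot_of_distTriang _ hT) (𝟙 Q) h0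
  have hw0 : w = 0 := hY.shift (-1) Q hQ w
  rw [hw0, zero_comp] at hw
  have hQ0 : IsZero Q := (IsZero.iff_id_eq_zero Q).2 hw
  exact (Triangle.isZero₁_iff_isIso₂ _ hT).1 hQ0

noncomputable abbrev mvU (N : S) : N ⟶ q.jls.obj (q.jst.obj N) ⊞ q.fls.obj (q.fst.obj N) :=
  biprod.lift (q.adjJ.unit.app N) (q.adjF.unit.app N)

noncomputable abbrev mvV (N : S) : q.jls.obj (q.jst.obj N) ⊞ q.fls.obj (q.fst.obj N) ⟶
    q.fls.obj (q.fst.obj (q.jls.obj (q.jst.obj N))) :=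
  biprod.desc (q.adjF.unit.app (q.jls.obj (q.jst.obj N)))
    (-(q.fls.map (q.fst.map (q.adjJ.unit.app N))))

lemma mvU_comp_mvV (N : S) : mvU q N ≫ mvV q N = 0 := by
  have h := q.adjF.unit.naturality (q.adjJ.unit.app N)
  dsimp at h
  rw [biprod.lift_desc, Preadditive.comp_neg, h]
  exact add_neg_cancel _

lemma unitF_shift_comp_eq_zero (K X : S) (g : K ⟶ X⟦(1 : ℤ)⟧)
    (hg : g ≫ (q.adjF.unit.app X)⟦(1 : ℤ)⟧' = 0) : g ≫ q.adjF.unit.app (X⟦(1 : ℤ)⟧) = 0 := by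
  let _ : q.fls.CommShift ℤ := q.adjF.rightAdjointCommShift ℤ
  have : q.adjF.CommShift ℤ := q.adjF.commShift_of_leftAdjoint ℤ
  rw [q.adjF.shift_unit_app] at hg
  have h2 := congrArg (fun t => t ≫ (q.fls.commShiftIso (1 : ℤ)).inv.app (q.fst.obj X) ≫
    q.fls.map ((q.fst.commShiftIso (1 : ℤ)).inv.app X)) hg
  simp only [Category.assoc, zero_comp, Iso.hom_inv_id_app_assoc] at h2
  rw [← q.fls.map_comp, Iso.hom_inv_id_app] at h2
  simpa using h2

lemma isLocal_cone_mvU (hq : q.IsMV) (N : S) {C' : S}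
    (v' : q.jls.obj (q.jst.obj N) ⊞ q.fls.obj (q.fst.obj N) ⟶ C') (d' : C' ⟶ N⟦(1 : ℤ)⟧)
    (hT' : Triangle.mk (mvU q N) v' d' ∈ distTriang S) : IsLocal q C' := by
  intro K hK a
  have h31 : d' ≫ (mvU q N)⟦(1 : ℤ)⟧' = 0 := comp_distTriang_mor_zero₃₁ _ hT'
  have h1 : (a ≫ d') ≫ (q.adjF.unit.app N)⟦(1 : ℤ)⟧' = 0 := by
    have : (q.adjF.unit.app N)⟦(1 : ℤ)⟧' = (mvU q N)⟦(1 : ℤ)⟧' ≫ (biprod.snd)⟦(1 : ℤ)⟧' := by
      rw [← Functor.map_comp, biprod.lift_snd]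
    rw [this, Category.assoc, reassoc_of% h31, zero_comp, comp_zero]
  have h2 := unitF_shift_comp_eq_zero q K N (a ≫ d') h1
  have h3 : a ≫ d' = 0 := by
    apply (unitF_comp_bijective q hq K hK (N⟦(1 : ℤ)⟧)).1
    dsimp only
    rw [h2, zero_comp]
  obtain ⟨y, hy⟩ : ∃ y : K ⟶ q.jls.obj (q.jst.obj N) ⊞ q.fls.obj (q.fst.obj N), a = y ≫ v' :=
    Triangle.coyoneda_exact₃ _ hT' a h3
  obtain ⟨x, hx⟩ := (unitF_comp_bijective q hq K hK N).2 (y ≫ biprod.snd)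
  dsimp only at hx
  have hyx : y = x ≫ mvU q N := by
    apply biprod.hom_ext
    · rw [Category.assoc, biprod.lift_fst]
      rw [isLocal_jls q _ K hK (y ≫ biprod.fst), isLocal_jls q _ K hK (x ≫ q.adjJ.unit.app N)]
    · rw [Category.assoc, biprod.lift_snd, hx]
  rw [hy, hyx, Category.assoc]
  have h12 : mvU q N ≫ v' = 0 := comp_distTriang_mor_zero₁₂ _ hT'
  rw [h12, comp_zero]

lemma exists_mv_triangle (hq : q.IsMV) (N : S) :
    ∃ d : q.fls.obj (q.fst.obj (q.jls.obj (q.jst.obj N))) ⟶ N⟦(1 : ℤ)⟧,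
      Triangle.mk (mvU q N) (mvV q N) d ∈ distTriang S := by
  obtain ⟨C', v', d', hT'⟩ := distinguished_cocone_triangle (mvU q N)
  obtain ⟨φ, hφ⟩ : ∃ φ : C' ⟶ q.fls.obj (q.fst.obj (q.jls.obj (q.jst.obj N))),
      mvV q N = v' ≫ φ := Triangle.yoneda_exact₂ _ hT' (mvV q N) (mvU_comp_mvV q N)
  have hloc' : IsLocal q C' := isLocal_cone_mvU q hq N v' d' hT'
  have hloc : IsLocal q (q.fls.obj (q.fst.obj (q.jls.obj (q.jst.obj N)))) :=
    isLocal_F_jls q hq _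
  have hjT := q.jst.map_distinguished _ hT'
  have e1 : q.jst.map (biprod.inr : q.fls.obj (q.fst.obj N) ⟶
      q.jls.obj (q.jst.obj N) ⊞ q.fls.obj (q.fst.obj N)) ≫ q.jst.map biprod.snd = 𝟙 _ := by
    rw [← Functor.map_comp, biprod.inr_snd, CategoryTheory.Functor.map_id]
  have e2 : q.jst.map (biprod.inr : q.fls.obj (q.fst.obj N) ⟶
      q.jls.obj (q.jst.obj N) ⊞ q.fls.obj (q.fst.obj N)) ≫ q.jst.map biprod.fst = 0 := by
    rw [← Functor.map_comp, biprod.inr_fst, Functor.map_zero]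
  have e3 : q.jst.map (biprod.fst : q.jls.obj (q.jst.obj N) ⊞ q.fls.obj (q.fst.obj N) ⟶ _) ≫
      q.jst.map biprod.inl + q.jst.map biprod.snd ≫ q.jst.map biprod.inr = 𝟙 _ := by
    rw [← Functor.map_comp, ← Functor.map_comp, ← Functor.map_add, biprod.total, CategoryTheory.Functor.map_id]
  have e4 : IsIso (q.jst.map (mvU q N) ≫ q.jst.map biprod.fst) := by
    rw [← Functor.map_comp, biprod.lift_fst]
    exact isIso_jst_map_unitJ q hq N
  have hi1 : IsIso (q.jst.map biprod.inr ≫ q.jst.map v') :=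
    isIso_inr_comp_mor₂ _ hjT (q.jst.map biprod.inl) (q.jst.map biprod.inr)
      (q.jst.map biprod.fst) (q.jst.map biprod.snd) e1 e2 e3 e4
  have hi2 : IsIso ((q.jst.map biprod.inr ≫ q.jst.map v') ≫ q.jst.map φ) := by
    have : (q.jst.map biprod.inr ≫ q.jst.map v') ≫ q.jst.map φ =
        -(q.jst.map (q.fls.map (q.fst.map (q.adjJ.unit.app N)))) := by
      rw [Category.assoc, ← Functor.map_comp, ← Functor.map_comp, ← hφ, biprod.inr_desc,
        Functor.map_neg]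
    rw [this]
    have := isIso_jst_map_F_unitJ q hq N
    exact isIso_neg _
  have hi3 : IsIso (q.jst.map φ) := IsIso.of_isIso_comp_left (q.jst.map biprod.inr ≫ q.jst.map v') (q.jst.map φ)
  have hφiso : IsIso φ := isIso_of_isLocal_of_isIso_jst_map q φ hloc' hloc hi3
  refine ⟨inv φ ≫ d', ?_⟩
  refine isomorphic_distinguished _ hT' _ ?_
  refine Triangle.isoMk _ _ (Iso.refl _) (Iso.refl _) (asIso φ).symm ?_ ?_ ?_
  · exact (Category.comp_id _).trans (Category.id_comp _).symm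
  · change mvV q N ≫ inv φ = 𝟙 _ ≫ v'
    rw [hφ, Category.assoc, IsIso.hom_inv_id, Category.comp_id, Category.id_comp]
  · change (inv φ ≫ d') ≫ (shiftFunctor S (1 : ℤ)).map (𝟙 N) = inv φ ≫ d'
    rw [CategoryTheory.Functor.map_id, Category.comp_id]

lemma mv_d_comp_eq_zero (hq : q.IsMV) (N : S)
    (d : q.fls.obj (q.fst.obj (q.jls.obj (q.jst.obj N))) ⟶ N⟦(1 : ℤ)⟧)
    (hT : Triangle.mk (mvU q N) (mvV q N) d ∈ distTriang S) {T : S} (hloc : IsLocal q T)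
    (ψ : N⟦(1 : ℤ)⟧ ⟶ T) : d ≫ ψ = 0 := by
  have h31 : d ≫ (mvU q N)⟦(1 : ℤ)⟧' = 0 := comp_distTriang_mor_zero₃₁ _ hT
  have h1 : d ≫ (q.adjJ.unit.app N)⟦(1 : ℤ)⟧' = 0 := by
    have : (q.adjJ.unit.app N)⟦(1 : ℤ)⟧' = (mvU q N)⟦(1 : ℤ)⟧' ≫ (biprod.fst)⟦(1 : ℤ)⟧' := by
      rw [← Functor.map_comp, biprod.lift_fst]
    rw [this, reassoc_of% h31, zero_comp]
  have h2 := unit_shift_comp_eq_zero q.adjJ d h1
  obtain ⟨Γ, γ, h, hΓT, hΓ⟩ := exists_gamma q hq (N⟦(1 : ℤ)⟧)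
  obtain ⟨d'', hd''⟩ : ∃ d'' : _ ⟶ Γ, d = d'' ≫ γ := Triangle.coyoneda_exact₂ _ hΓT d h2
  rw [hd'', Category.assoc, hloc Γ hΓ (γ ≫ ψ), comp_zero]

lemma mv_naturality (hq : q.IsMV) (N₁ N₂ : S) (φ : N₁ ⟶ N₂)
    (d₁ : q.fls.obj (q.fst.obj (q.jls.obj (q.jst.obj N₁))) ⟶ N₁⟦(1 : ℤ)⟧)
    (d₂ : q.fls.obj (q.fst.obj (q.jls.obj (q.jst.obj N₂))) ⟶ N₂⟦(1 : ℤ)⟧)
    (h₁ : Triangle.mk (mvU q N₁) (mvV q N₁) d₁ ∈ distTriang S)
    (h₂ : Triangle.mk (mvU q N₂) (mvV q N₂) d₂ ∈ distTriang S) :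
    d₁ ≫ (shiftFunctor S (1 : ℤ)).map φ = q.fls.map (q.fst.map (q.jls.map (q.jst.map φ))) ≫ d₂ := by
  have hJ := q.adjJ.unit.naturality φ
  have hF := q.adjF.unit.naturality φ
  have hFJ := q.adjF.unit.naturality (q.jls.map (q.jst.map φ))
  dsimp at hJ hF hFJ
  have comm1 : mvU q N₁ ≫ biprod.map (q.jls.map (q.jst.map φ)) (q.fls.map (q.fst.map φ)) =
      φ ≫ mvU q N₂ := by
    apply biprod.hom_ext
    · simp only [Category.assoc, biprod.map_fst, biprod.lift_fst, biprod.lift_fst_assoc, hJ]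
    · simp only [Category.assoc, biprod.map_snd, biprod.lift_snd, biprod.lift_snd_assoc, hF]
  have comm2 : mvV q N₁ ≫ q.fls.map (q.fst.map (q.jls.map (q.jst.map φ))) =
      biprod.map (q.jls.map (q.jst.map φ)) (q.fls.map (q.fst.map φ)) ≫ mvV q N₂ := by
    apply biprod.hom_ext'
    · simp only [biprod.inl_desc_assoc, biprod.inl_map_assoc, biprod.inl_desc, hFJ]
    · simp only [biprod.inr_desc_assoc, biprod.inr_map_assoc, biprod.inr_desc,
        Preadditive.neg_comp, Preadditive.comp_neg, ← Functor.map_comp, hJ]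
  obtain ⟨c, hc1, hc2⟩ : ∃ c : q.fls.obj (q.fst.obj (q.jls.obj (q.jst.obj N₁))) ⟶
      q.fls.obj (q.fst.obj (q.jls.obj (q.jst.obj N₂))),
      mvV q N₁ ≫ c = biprod.map (q.jls.map (q.jst.map φ)) (q.fls.map (q.fst.map φ)) ≫ mvV q N₂ ∧
      d₁ ≫ (shiftFunctor S (1 : ℤ)).map φ = c ≫ d₂ :=
    complete_distinguished_triangle_morphism _ _ h₁ h₂ φ
      (biprod.map (q.jls.map (q.jst.map φ)) (q.fls.map (q.fst.map φ))) comm1
  have h0 : mvV q N₁ ≫ (c - q.fls.map (q.fst.map (q.jls.map (q.jst.map φ)))) = 0 := by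
    rw [Preadditive.comp_sub, hc1, comm2, sub_self]
  obtain ⟨ψ, hψ⟩ : ∃ ψ : N₁⟦(1 : ℤ)⟧ ⟶ _, c - q.fls.map (q.fst.map (q.jls.map (q.jst.map φ))) =
      d₁ ≫ ψ := Triangle.yoneda_exact₃ _ h₁ _ h0
  rw [mv_d_comp_eq_zero q hq N₁ d₁ h₁ (isLocal_F_jls q hq _) ψ, sub_eq_zero] at hψ
  rw [hc2, hψ]

lemma mv_unique (hq : q.IsMV) (N : S)
    (d₁ d₂ : q.fls.obj (q.fst.obj (q.jls.obj (q.jst.obj N))) ⟶ N⟦(1 : ℤ)⟧)
    (h₁ : Triangle.mk (mvU q N) (mvV q N) d₁ ∈ distTriang S)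
    (h₂ : Triangle.mk (mvU q N) (mvV q N) d₂ ∈ distTriang S) : d₁ = d₂ := by
  have h := mv_naturality q hq N N (𝟙 N) d₁ d₂ h₁ h₂
  simpa using h

end MV

end Groth.Agent.Lib.Helper40.MV
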