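import Mathlib

set_option autoImplicit false

universe u

open CategoryTheory CategoryTheory.Limits AlgebraicGeometry

namespace Groth.Agent.Lib.Helper40.NeronUnqFC

set_option backward.isDefEq.respectTransparency.types false in
/-- A point closed in its fibre (of a morphism locally of finite type) has finite residue field
extension. -/
theorem finite_residueFieldMap_of_isClosed_asFiber {Z S : Scheme.{u}} (q : Z ⟶ S)
    [LocallyOfFiniteType q] (c : Z) (hc : IsClosed ({q.asFiber c} : Set (q.fiber (q c)))) :
    (q.residueFieldMap c).hom.Finite := by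
  have hcl : IsClosedImmersion (q.asFiberHom c) :=
    IsClosedImmersion.of_isPreimmersion _ (by rw [Scheme.Hom.range_asFiberHom]; exact hc)
  have hlft : LocallyOfFiniteType (q.fiberToSpecResidueField (q c)) :=
    MorphismProperty.pullback_snd _ _ inferInstance
  have h1 : LocallyOfFiniteType (q.asFiberHom c ≫ q.fiberToSpecResidueField (q c)) :=
    inferInstance
  have h2 : IsFinite (q.asFiberHom c ≫ q.fiberToSpecResidueField (q c)) :=
    (isFinite_iff_locallyOfFiniteType_of_jacobsonSpace).mpr h1
  rw [Scheme.Hom.asFiberHom_fiberToSpecResidueField] at h2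
  exact (IsFinite.SpecMap_iff _).mp h2

theorem finite_residueFieldMap_of_isClosed {Z S : Scheme.{u}} (q : Z ⟶ S)
    [LocallyOfFiniteType q] (y : S) (c : Z) (hc : q c = y)
    (hx : IsClosed ({(q.fiberHomeo y).symm ⟨c, hc⟩} : Set (q.fiber y))) :
    (q.residueFieldMap c).hom.Finite := by
  subst hc
  exact finite_residueFieldMap_of_isClosed_asFiber q c hx

theorem exists_mem_finite_residueFieldMap {Z S : Scheme.{u}} (q : Z ⟶ S) [LocallyOfFiniteType q]
    (C : Set Z) (hC : IsClosed C) (hne : C.Nonempty) :
    ∃ c ∈ C, (q.residueFieldMap c).hom.Finite := by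
  obtain ⟨z, hz⟩ := hne
  set y : S := q z with hy
  let C' : Set (q.fiber y) := (q.fiberι y) ⁻¹' C
  have hC' : IsClosed C' := hC.preimage (q.fiberι y).continuous
  have hne' : C'.Nonempty := ⟨q.asFiber z, by
    change q.fiberι _ (q.asFiber z) ∈ C
    rw [Scheme.Hom.fiberι_asFiber]; exact hz⟩
  have hcl := JacobsonSpace.closure_inter_closedPoints hC'
  have hne'' : (C' ∩ closedPoints (q.fiber y)).Nonempty := by
    by_contra h
    rw [Set.not_nonempty_iff_eq_empty] at h
    rw [h, closure_empty] at hcl
    exact hne'.ne_empty hcl.symm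
  obtain ⟨x, hxC, hxcl⟩ := hne''
  have hxcl' : IsClosed ({x} : Set (q.fiber y)) := hxcl
  refine ⟨q.fiberι y x, hxC, ?_⟩
  have hmem : q.fiberι y x ∈ q ⁻¹' {y} := ((q.fiberHomeo y) x).2
  refine finite_residueFieldMap_of_isClosed q y (q.fiberι y x) hmem ?_
  have : (q.fiberHomeo y).symm ⟨q.fiberι y x, hmem⟩ = x := by
    have := (q.fiberHomeo y).symm_apply_apply x
    convert this
    rfl
  rw [this]
  exact hxcl'

end Groth.Agent.Lib.Helper40.NeronUnqFC
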