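import Mathlib

/-!
# A monomorphism representing an open subfunctor is an open immersion (for helper22, S5326)
-/

universe u
set_option autoImplicit false
open CategoryTheory CategoryTheory.Limits AlgebraicGeometry

namespace Groth.Agent.Lib.Helper40.NeutRepISO

theorem isOpenImmersion_of_represents {X Y : Scheme.{u}} (i : Y ⟶ X) [Mono i] (E : Set X)
    (hE : IsOpen E)
    (hrep : ∀ (T : Scheme.{u}) (g : T ⟶ X), (∃ z : T ⟶ Y, z ≫ i = g) ↔ Set.range g.base ⊆ E) :
    IsOpenImmersion i ∧ Set.range i.base = E := by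
  let U : X.Opens := ⟨E, hE⟩
  have hiE : Set.range i.base ⊆ E := (hrep Y i).1 ⟨𝟙 Y, Category.id_comp _⟩
  have hUr : Set.range U.ι.base = E := by
    rw [Scheme.Opens.range_ι]
    rfl
  have hle : Set.range i.base ⊆ Set.range U.ι.base := by rw [hUr]; exact hiE
  let j : Y ⟶ U := IsOpenImmersion.lift U.ι i hle
  have hj : j ≫ U.ι = i := IsOpenImmersion.lift_fac _ _ _
  obtain ⟨z, hz⟩ := (hrep U U.ι).2 (by rw [hUr])
  have h1 : j ≫ z = 𝟙 Y := by
    rw [← cancel_mono i, Category.assoc, hz, hj, Category.id_comp]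
  have h2 : z ≫ j = 𝟙 _ := by
    rw [← cancel_mono U.ι, Category.assoc, hj, hz, Category.id_comp]
  have : IsIso j := ⟨z, h1, h2⟩
  have hi : i = j ≫ U.ι := hj.symm
  refine ⟨by rw [hi]; infer_instance, ?_⟩
  apply Set.Subset.antisymm hiE
  intro x hx
  have hx' : x ∈ Set.range U.ι.base := by rw [hUr]; exact hx
  obtain ⟨u, rfl⟩ := hx'
  refine ⟨z.base u, ?_⟩
  have := congrArg (fun f => f.base u) hz
  simpa using this

end Groth.Agent.Lib.Helper40.NeutRepISO
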