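import Mathlib

/-!
# A local domain that is not a field embeds in the product of its quotients by nonzero nonunits
(for helper22, S5326)
-/

universe u
set_option autoImplicit false
open CategoryTheory CategoryTheory.Limits AlgebraicGeometry

namespace Groth.Agent.Lib.Helper40.NeutRepK4

theorem injective_pi_quotient (A : Type u) [CommRing A] [IsDomain A] [IsLocalRing A]
    (hA : ¬ IsField A) :
    Function.Injective (RingHom.pi (fun a : {a : A // a ≠ 0 ∧ ¬ IsUnit a} =>
      Ideal.Quotient.mk (Ideal.span {(a : A)}))) := by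
  rw [injective_iff_map_eq_zero]
  intro b hb
  by_contra hb0
  have hmem : ∀ a : {a : A // a ≠ 0 ∧ ¬ IsUnit a}, b ∈ Ideal.span {(a : A)} := by
    intro a
    have := congrFun hb a
    simpa [Ideal.Quotient.eq_zero_iff_mem] using this
  by_cases hu : IsUnit b
  · -- pick a nonzero nonunit
    have : ∃ a : A, a ≠ 0 ∧ ¬ IsUnit a := by
      by_contra hcon
      simp only [not_exists, not_and, not_not] at hcon
      apply hA
      refine ⟨⟨0, 1, zero_ne_one⟩, mul_comm, ?_⟩
      intro a ha
      exact (hcon a ha).exists_right_inv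
    obtain ⟨a, ha0, hau⟩ := this
    have h := hmem ⟨a, ha0, hau⟩
    rw [Ideal.mem_span_singleton] at h
    exact hau (isUnit_of_dvd_unit h hu)
  · have h := hmem ⟨b ^ 2, pow_ne_zero 2 hb0, fun h => hu (isUnit_of_dvd_unit (dvd_pow_self b two_ne_zero) h)⟩
    rw [Ideal.mem_span_singleton] at h
    obtain ⟨c, hc⟩ := h
    have h1 : b * 1 = b * (b * c) := by
      rw [mul_one]
      calc b = b ^ 2 * c := hc
        _ = b * (b * c) := by ring
    have h2 : 1 = b * c := mul_left_cancel₀ hb0 h1
    exact hu (IsUnit.of_mul_eq_one c h2.symm)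

end Groth.Agent.Lib.Helper40.NeutRepK4
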