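import Groth.Agent.S14952
import Groth.Agent.S14953
import Groth.Agent.S14954

set_option autoImplicit false
universe u

namespace Groth.Agent.Lib.Helper40.PinchAlg

open TensorProduct

variable {B A A' : Type u} [CommRing B] [CommRing A] [Algebra B A] [CommRing A'] [Algebra B A']

abbrev Q (B A A' : Type u) [CommRing B] [CommRing A] [Algebra B A] [CommRing A'] [Algebra B A'] :
    Type u :=
  A ⧸ Ideal.map (algebraMap B A) (RingHom.ker (algebraMap B A'))

theorem ker_le_ker_algebraMap_Q :
    RingHom.ker (algebraMap B A') ≤ RingHom.ker (algebraMap B (Q B A A')) := by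
  intro i hi
  rw [RingHom.mem_ker, IsScalarTower.algebraMap_apply B A (Q B A A'), Ideal.Quotient.algebraMap_eq,
    Ideal.Quotient.eq_zero_iff_mem]
  exact Ideal.mem_map_of_mem _ hi

noncomputable def toQ (hsurj : Function.Surjective (algebraMap B A')) : A' →+* Q B A A' :=
  RingHom.liftOfSurjective (algebraMap B A') hsurj
    ⟨algebraMap B (Q B A A'), ker_le_ker_algebraMap_Q⟩

theorem toQ_algebraMap (hsurj : Function.Surjective (algebraMap B A')) (b : B) :
    toQ (A := A) hsurj (algebraMap B A' b) = algebraMap B (Q B A A') b :=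
  RingHom.liftOfRightInverse_comp_apply _ _ _ _ b

theorem isFibreSquare_of_pinch (hsurj : Function.Surjective (algebraMap B A'))
    (h1 : RingHom.ker (algebraMap B A) ⊓ RingHom.ker (algebraMap B A') = ⊥)
    (h2 : ∀ a ∈ Ideal.map (algebraMap B A) (RingHom.ker (algebraMap B A')),
      ∃ i ∈ RingHom.ker (algebraMap B A'), algebraMap B A i = a) :
    letI : Algebra A' (Q B A A') := (toQ (A := A) hsurj).toAlgebra
    haveI : IsScalarTower B A' (Q B A A') :=
      IsScalarTower.of_algebraMap_eq fun b => (toQ_algebraMap hsurj b).symm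
    EtMil.IsFibreSquare B A' A (Q B A A') := by
  letI : Algebra A' (Q B A A') := (toQ (A := A) hsurj).toAlgebra
  haveI : IsScalarTower B A' (Q B A A') :=
    IsScalarTower.of_algebraMap_eq fun b => (toQ_algebraMap hsurj b).symm
  refine ⟨Ideal.Quotient.mk_surjective, ?_⟩
  intro b a' hba
  obtain ⟨b₀, rfl⟩ := hsurj b
  have h3 : algebraMap B A b₀ - a' ∈ Ideal.map (algebraMap B A) (RingHom.ker (algebraMap B A')) := by
    rw [← Ideal.Quotient.eq]
    have : algebraMap A' (Q B A A') (algebraMap B A' b₀) = algebraMap B (Q B A A') b₀ :=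
      toQ_algebraMap hsurj b₀
    rw [this, IsScalarTower.algebraMap_apply B A (Q B A A')] at hba
    exact hba
  obtain ⟨i, hi, hia⟩ := h2 _ h3
  refine ⟨b₀ - i, ⟨?_, ?_⟩, ?_⟩
  · rw [map_sub, (RingHom.mem_ker).mp hi, sub_zero]
  · rw [map_sub, hia, sub_sub_cancel]
  · rintro y ⟨hy1, hy2⟩
    have : y - (b₀ - i) ∈ RingHom.ker (algebraMap B A) ⊓ RingHom.ker (algebraMap B A') := by
      refine ⟨?_, ?_⟩
      · change _ ∈ RingHom.ker (algebraMap B A)
        rw [RingHom.mem_ker, map_sub, hy2, map_sub, hia, sub_sub_cancel, sub_self]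
      · change _ ∈ RingHom.ker (algebraMap B A')
        rw [RingHom.mem_ker, map_sub, hy1, map_sub, (RingHom.mem_ker).mp hi, sub_zero, sub_self]
    rw [h1] at this
    exact sub_eq_zero.mp this

theorem flat_of_pinch {M : Type u} [AddCommGroup M] [Module B M]
    (hsurj : Function.Surjective (algebraMap B A'))
    (h1 : RingHom.ker (algebraMap B A) ⊓ RingHom.ker (algebraMap B A') = ⊥)
    (h2 : ∀ a ∈ Ideal.map (algebraMap B A) (RingHom.ker (algebraMap B A')),
      ∃ i ∈ RingHom.ker (algebraMap B A'), algebraMap B A i = a)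
    (hA : Module.Flat A (A ⊗[B] M)) (hA' : Module.Flat A' (A' ⊗[B] M)) : Module.Flat B M := by
  letI : Algebra A' (Q B A A') := (toQ (A := A) hsurj).toAlgebra
  haveI : IsScalarTower B A' (Q B A A') :=
    IsScalarTower.of_algebraMap_eq fun b => (toQ_algebraMap hsurj b).symm
  exact Groth.Agent.S14952.result B A' A (Q B A A') (isFibreSquare_of_pinch hsurj h1 h2) M

theorem finitePresentation_of_pinch {M : Type u} [AddCommGroup M] [Module B M]
    (hsurj : Function.Surjective (algebraMap B A'))
    (h1 : RingHom.ker (algebraMap B A) ⊓ RingHom.ker (algebraMap B A') = ⊥)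
    (h2 : ∀ a ∈ Ideal.map (algebraMap B A) (RingHom.ker (algebraMap B A')),
      ∃ i ∈ RingHom.ker (algebraMap B A'), algebraMap B A i = a)
    (hA : Module.Flat A (A ⊗[B] M)) (hA' : Module.Flat A' (A' ⊗[B] M))
    (hAp : Module.FinitePresentation A (A ⊗[B] M))
    (hAp' : Module.FinitePresentation A' (A' ⊗[B] M)) : Module.FinitePresentation B M := by
  letI : Algebra A' (Q B A A') := (toQ (A := A) hsurj).toAlgebra
  haveI : IsScalarTower B A' (Q B A A') :=
    IsScalarTower.of_algebraMap_eq fun b => (toQ_algebraMap hsurj b).symm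
  exact Groth.Agent.S14954.result B A' A (Q B A A') (isFibreSquare_of_pinch hsurj h1 h2) M

end Groth.Agent.Lib.Helper40.PinchAlg
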