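import Mathlib.AlgebraicGeometry.Modules.Tilde
import Groth.Agent.Lib.Lead.PullbackAff2
import Groth.Agent.Lib.Lead.QCohPush
import Groth.Agent.Lib.Helper40.AffBC1

set_option autoImplicit false
universe u
open CategoryTheory CategoryTheory.Limits Opposite AlgebraicGeometry TopologicalSpace

namespace Groth.Agent.Lib.Helper40.PushColim
set_option backward.isDefEq.respectTransparency.types false

variable {J : Type u} [SmallCategory J]

/-- sections over `U` as a functor to abelian groups -/
noncomputable def secF {Y : Scheme.{u}} (U : Y.Opens) : Y.Modules ⥤ Ab.{u} :=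
  Scheme.Modules.toPresheaf Y ⋙ (evaluation _ _).obj (op U)

theorem preservesColimit_Γ {R : CommRingCat.{u}} (K : J ⥤ (Spec R).Modules)
    (hK : ∀ j, (K.obj j).IsQuasicoherent) :
    PreservesColimit K (moduleSpecΓFunctor (R := R)) := by
  let D : J ⥤ ModuleCat.{u} R := K ⋙ moduleSpecΓFunctor
  have e : D ⋙ tilde.functor R ≅ K :=
    NatIso.ofComponents (fun j =>
      @asIso _ _ _ _ (Scheme.Modules.fromTildeΓ (R := R) (K.obj j))
        (@Scheme.Modules.isIso_fromTildeΓ_of_isQuasicoherent R (K.obj j) (hK j)))
      (fun f => Scheme.Modules.fromTildeΓNatTrans.naturality (K.map f))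
  have : PreservesColimit (D ⋙ tilde.functor R) (moduleSpecΓFunctor (R := R)) := by
    apply preservesColimit_of_preserves_colimit_cocone
      (isColimitOfPreserves (tilde.functor R) (colimit.isColimit D))
    have h1 : PreservesColimit D (tilde.functor R ⋙ moduleSpecΓFunctor) :=
      preservesColimit_of_natIso D tilde.toTildeΓNatIso
    exact isColimitOfPreserves (tilde.functor R ⋙ moduleSpecΓFunctor) (colimit.isColimit D)
  exact preservesColimit_of_iso_diagram _ e

noncomputable def ΓIso (R : CommRingCat.{u}) :
    moduleSpecΓFunctor (R := R) ⋙ forget₂ (ModuleCat.{u} R) Ab.{u} ≅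
      secF (⊤ : (Spec R).Opens) :=
  NatIso.ofComponents (fun M => Iso.refl _) (fun f => by rfl)

theorem preservesColimit_secF_top {R : CommRingCat.{u}} (K : J ⥤ (Spec R).Modules)
    (hK : ∀ j, (K.obj j).IsQuasicoherent) :
    PreservesColimit K (secF (⊤ : (Spec R).Opens)) := by
  haveI := preservesColimit_Γ K hK
  exact preservesColimit_of_natIso K (ΓIso R)

noncomputable def restrictSecIso {W Y : Scheme.{u}} (j : W ⟶ Y) [IsOpenImmersion j] (V : W.Opens) :
    Scheme.Modules.restrictFunctor j ⋙ secF V ≅ secF (j ''ᵁ V) :=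
  NatIso.ofComponents (fun M => Iso.refl _) (fun f => by rfl)

theorem preservesColimit_secF {Y : Scheme.{u}} {U : Y.Opens} (hU : IsAffineOpen U)
    (K : J ⥤ Y.Modules) (hK : ∀ j, (K.obj j).IsQuasicoherent) :
    PreservesColimit K (secF U) := by
  have h : hU.fromSpec ''ᵁ ⊤ = U := Groth.Agent.Lib.Lead.PullbackAff.fromSpec_image_top hU
  haveI : PreservesColimit K (Scheme.Modules.restrictFunctor hU.fromSpec) := inferInstance
  haveI : PreservesColimit (K ⋙ Scheme.Modules.restrictFunctor hU.fromSpec)
      (secF (⊤ : (Spec Γ(Y, U)).Opens)) :=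
    preservesColimit_secF_top _ (fun j => by
      haveI := hK j
      exact inferInstanceAs ((K.obj j).restrict hU.fromSpec).IsQuasicoherent)
  haveI : PreservesColimit K (Scheme.Modules.restrictFunctor hU.fromSpec ⋙
      secF (⊤ : (Spec Γ(Y, U)).Opens)) := inferInstance
  have : PreservesColimit K (secF (hU.fromSpec ''ᵁ ⊤)) :=
    preservesColimit_of_natIso K (restrictSecIso hU.fromSpec ⊤)
  rwa [h] at this

noncomputable def pushSecIso {X S : Scheme.{u}} (f : X ⟶ S) (V : S.Opens) :
    Scheme.Modules.pushforward f ⋙ secF V ≅ secF (f ⁻¹ᵁ V) :=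
  NatIso.ofComponents (fun M => Iso.refl _) (fun f => by rfl)

theorem isIso_post_pushforward {X S : Scheme.{u}} (f : X ⟶ S) [IsAffineHom f]
    (K : J ⥤ X.Modules) (hK : ∀ j, (K.obj j).IsQuasicoherent) :
    IsIso (colimit.post K (Scheme.Modules.pushforward f)) := by
  apply Groth.Agent.Lib.Helper40.AffBC.isIso_of_app_bijective_of_basis _ S.isBasis_affineOpens
  rintro V (hV : IsAffineOpen V)
  haveI : PreservesColimit (K ⋙ Scheme.Modules.pushforward f) (secF V) :=
    preservesColimit_secF hV _ (fun j => by
      haveI := hK j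
      exact inferInstanceAs ((Scheme.Modules.pushforward f).obj (K.obj j)).IsQuasicoherent)
  haveI : PreservesColimit K (secF (f ⁻¹ᵁ V)) := preservesColimit_secF (hV.preimage f) K hK
  haveI : PreservesColimit K (Scheme.Modules.pushforward f ⋙ secF V) :=
    preservesColimit_of_natIso K (pushSecIso f V).symm
  have h := colimit.post_post K (Scheme.Modules.pushforward f) (secF V)
  have h2 : IsIso ((secF V).map (colimit.post K (Scheme.Modules.pushforward f))) := by
    have h3 : IsIso (colimit.post (K ⋙ Scheme.Modules.pushforward f) (secF V) ≫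
        (secF V).map (colimit.post K (Scheme.Modules.pushforward f))) := by
      rw [h]; infer_instance
    exact IsIso.of_isIso_comp_left (colimit.post (K ⋙ Scheme.Modules.pushforward f) (secF V)) _
  exact (ConcreteCategory.isIso_iff_bijective _).1 h2

end Groth.Agent.Lib.Helper40.PushColim
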