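import Groth.Prelude.Def_RelSpec2
import Groth.Agent.Lib.Helper40.BMod
import Groth.Agent.Lib.Helper40.PushColim


set_option autoImplicit false
universe u
open CategoryTheory CategoryTheory.Limits Opposite AlgebraicGeometry TopologicalSpace

namespace Groth.Agent.Lib.Helper40.PushColim
set_option backward.isDefEq.respectTransparency.types false

variable {J : Type u} [SmallCategory J]

theorem preservesColimit_pushforward {X S : Scheme.{u}} (f : X ⟶ S) [IsAffineHom f]
    (K : J ⥤ X.Modules) (hK : ∀ j, (K.obj j).IsQuasicoherent) :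
    PreservesColimit K (Scheme.Modules.pushforward f) :=
  haveI := isIso_post_pushforward f K hK
  preservesColimit_of_isIso_post _ _

instance reflectsIsomorphisms_restrictScalars {C : Type u} [SmallCategory C]
    {Jt : GrothendieckTopology C} {R R' : Sheaf Jt RingCat.{u}} (α : R ⟶ R') :
    (SheafOfModules.restrictScalars.{u} α).ReflectsIsomorphisms := by
  have : (SheafOfModules.restrictScalars.{u} α ⋙ SheafOfModules.toSheaf.{u} R).ReflectsIsomorphisms := by
    rw [Groth.Agent.Lib.Helper40.BMod.restrictScalars_comp_toSheaf]
    infer_instance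
  exact reflectsIsomorphisms_of_comp _ (SheafOfModules.toSheaf.{u} R)

theorem preservesColimit_dirImg {X S : Scheme.{u}} (f : X ⟶ S) [IsAffineHom f]
    (K : J ⥤ X.Modules) (hK : ∀ j, (K.obj j).IsQuasicoherent) :
    PreservesColimit K (AMod.dirImg f) := by
  haveI : PreservesColimit K (AMod.dirImg f ⋙ AMod.toOS _) := preservesColimit_pushforward f K hK
  haveI : (AMod.toOS (RelSpec.QCAlg.directImage f)).ReflectsIsomorphisms :=
    reflectsIsomorphisms_restrictScalars _
  haveI : PreservesColimitsOfSize.{u, u} (AMod.toOS (RelSpec.QCAlg.directImage f)) :=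
    inferInstanceAs (PreservesColimitsOfSize.{u, u} (SheafOfModules.restrictScalars.{u} _))
  haveI : ReflectsColimit (K ⋙ AMod.dirImg f) (AMod.toOS (RelSpec.QCAlg.directImage f)) :=
    reflectsColimit_of_reflectsIsomorphisms _ _
  exact preservesColimit_of_reflects_of_preserves (AMod.dirImg f) (AMod.toOS _)

end Groth.Agent.Lib.Helper40.PushColim
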