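import Groth.Agent.Lib.Helper40.SubSh10
import Groth.Agent.Lib.Helper2.QCAlgMod

set_option autoImplicit false
universe u

open AlgebraicGeometry CategoryTheory Opposite TopologicalSpace Limits

namespace Groth.Agent.Lib.Helper40.QCAlgGen

open Groth.Agent.Lib.Lead.QCohAff Groth.Agent.Lib.Lead.CohAff Groth.Agent.Lib.Helper2.QCAlgMod
open Groth.Agent.Lib.Helper40.SSh Groth.Agent.Lib.Helper40.QCohLim

set_option backward.isDefEq.respectTransparency.types false

variable {X : Scheme.{u}} (B : RelSpec.QCAlg X) {E : X.Modules} (j : E ⟶ B.toModule)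

/-- the subring of `B(T)` generated by the functions and the sections of `E`. -/
def genRing (T : X.Opens) : Subring (B.presheaf.obj (op T)) :=
  Subring.closure (Set.range (B.str.app (op T)).hom ∪
    Set.range (fun e : E.val.obj (op T) ↦
      (show B.presheaf.obj (op T) from (j.val.app (op T)).hom e)))

theorem str_mem_genRing (T : X.Opens) (r : Γ(X, T)) : (B.str.app (op T)).hom r ∈ genRing B j T :=
  Subring.subset_closure (Or.inl ⟨r, rfl⟩)

theorem j_mem_genRing (T : X.Opens) (e : Γ(E, T)) :
    (show B.presheaf.obj (op T) from j.app T e) ∈ genRing B j T :=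
  Subring.subset_closure (Or.inr ⟨e, rfl⟩)

theorem res_mem_genRing {T T' : X.Opens} (h : T' ≤ T) {y : B.presheaf.obj (op T)}
    (hy : y ∈ genRing B j T) : (B.presheaf.map (homOfLE h).op).hom y ∈ genRing B j T' := by
  induction hy using Subring.closure_induction with
  | mem z hz =>
    rcases hz with ⟨r, rfl⟩ | ⟨e, rfl⟩
    · rw [← str_res]
      exact str_mem_genRing B j T' _
    · have := app_res j h e
      have h2 : (B.presheaf.map (homOfLE h).op).hom (show B.presheaf.obj (op T) from j.app T e) =
          (show B.presheaf.obj (op T') from j.app T' (E.presheaf.map (homOfLE h).op e)) := by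
        rw [this]; rfl
      exact h2 ▸ j_mem_genRing B j T' _
  | zero => rw [map_zero]; exact Subring.zero_mem _
  | one => rw [map_one]; exact Subring.one_mem _
  | add a b _ _ ha hb => rw [map_add]; exact Subring.add_mem _ ha hb
  | neg a _ ha => rw [map_neg]; exact Subring.neg_mem _ ha
  | mul a b _ _ ha hb => rw [map_mul]; exact Subring.mul_mem _ ha hb


/-- clearing denominators in the generated subring over a basic open of an affine open. -/
theorem exists_pow_mul_mem [E.IsQuasicoherent] {U : X.Opens} (hU : IsAffineOpen U) (f : Γ(X, U))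
    {y : B.presheaf.obj (op (X.basicOpen f))} (hy : y ∈ genRing B j (X.basicOpen f)) :
    ∃ (n : ℕ) (c : B.presheaf.obj (op U)), c ∈ genRing B j U ∧
      (B.presheaf.map (homOfLE (X.basicOpen_le f)).op).hom c =
        ((B.presheaf.map (homOfLE (X.basicOpen_le f)).op).hom ((B.str.app (op U)).hom f)) ^ n * y := by
  set ρ := (B.presheaf.map (homOfLE (X.basicOpen_le f)).op).hom with hρ
  induction hy using Subring.closure_induction with
  | mem z hz =>
    rcases hz with ⟨r, rfl⟩ | ⟨e, rfl⟩
    · haveI := hU.isLocalization_basicOpen f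
      obtain ⟨n, a, ha⟩ := IsLocalization.Away.surj f r
      refine ⟨n, (B.str.app (op U)).hom a, str_mem_genRing B j U a, ?_⟩
      have ha' : (X.presheaf.map (homOfLE (X.basicOpen_le f)).op).hom a =
          r * ((X.presheaf.map (homOfLE (X.basicOpen_le f)).op).hom f) ^ n := ha.symm
      rw [hρ, ← str_res, ← str_res, ha', map_mul, map_pow, mul_comm]
    · obtain ⟨n, s, hs⟩ := exists_res_eq_pow_smul E hU f e
      refine ⟨n, (show B.presheaf.obj (op U) from j.app U s), j_mem_genRing B j U s, ?_⟩
      have h1 := app_res j (X.basicOpen_le f) s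
      rw [hs, Scheme.Modules.Hom.app_smul] at h1
      have h2 : ρ (show B.presheaf.obj (op U) from j.app U s) =
          (show B.presheaf.obj (op (X.basicOpen f)) from
            B.toModule.presheaf.map (homOfLE (X.basicOpen_le f)).op (j.app U s)) := rfl
      rw [h2, ← h1, toModule_smul_def, map_pow, str_res]
      rfl
  | zero => exact ⟨0, 0, Subring.zero_mem _, by simp⟩
  | one => exact ⟨0, 1, Subring.one_mem _, by simp⟩
  | add a b _ _ ha hb =>
    obtain ⟨n1, c1, hc1, h1⟩ := ha
    obtain ⟨n2, c2, hc2, h2⟩ := hb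
    refine ⟨n1 + n2, ((B.str.app (op U)).hom f) ^ n2 * c1 + ((B.str.app (op U)).hom f) ^ n1 * c2,
      Subring.add_mem _ (Subring.mul_mem _ (Subring.pow_mem _ (str_mem_genRing B j U f) _) hc1)
        (Subring.mul_mem _ (Subring.pow_mem _ (str_mem_genRing B j U f) _) hc2), ?_⟩
    rw [map_add, map_mul, map_mul, map_pow, map_pow, h1, h2]
    ring
  | neg a _ ha =>
    obtain ⟨n1, c1, hc1, h1⟩ := ha
    exact ⟨n1, -c1, Subring.neg_mem _ hc1, by rw [map_neg, h1, mul_neg]⟩
  | mul a b _ _ ha hb =>
    obtain ⟨n1, c1, hc1, h1⟩ := ha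
    obtain ⟨n2, c2, hc2, h2⟩ := hb
    refine ⟨n1 + n2, c1 * c2, Subring.mul_mem _ hc1 hc2, ?_⟩
    rw [map_mul, h1, h2]
    ring


theorem genRing_basicOpen_eq_top {V : X.Opens} (hV : IsAffineOpen V) (g : Γ(X, V))
    (h : genRing B j V = ⊤) : genRing B j (X.basicOpen g) = ⊤ := by
  haveI := toModule_isQuasicoherent B
  rw [eq_top_iff]
  intro y _
  obtain ⟨n, s, hs⟩ := exists_res_eq_pow_smul B.toModule hV g (show Γ(B.toModule, X.basicOpen g) from y)
  obtain ⟨u, hu⟩ := Groth.Agent.Lib.Lead.QCohAff.isUnit_res_basicOpen g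
  have hs1 : (show B.presheaf.obj (op (X.basicOpen g)) from
      B.toModule.presheaf.map (homOfLE (X.basicOpen_le g)).op s) ∈ genRing B j (X.basicOpen g) :=
    res_mem_genRing B j (X.basicOpen_le g) (h ▸ Subring.mem_top (show B.presheaf.obj (op V) from s))
  have hy0 : ((↑(u⁻¹ ^ n) : Γ(X, X.basicOpen g))) •
      B.toModule.presheaf.map (homOfLE (X.basicOpen_le g)).op s =
      (show Γ(B.toModule, X.basicOpen g) from y) := by
    rw [hs, ← hu, smul_smul, ← Units.val_pow_eq_pow_val, ← Units.val_mul, inv_pow, inv_mul_cancel,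
      Units.val_one, one_smul]
  have hy : y = (B.str.app (op (X.basicOpen g))).hom ((↑(u⁻¹ ^ n) : Γ(X, X.basicOpen g))) *
      (show B.presheaf.obj (op (X.basicOpen g)) from
        B.toModule.presheaf.map (homOfLE (X.basicOpen_le g)).op s) := hy0.symm
  rw [hy]
  exact Subring.mul_mem _ (str_mem_genRing B j _ _) hs1

/-- the generated subring as a submodule over the functions -/
def genSub (T : X.Opens) : Submodule Γ(X, T) Γ(B.toModule, T) where
  carrier := {y | (show B.presheaf.obj (op T) from y) ∈ genRing B j T}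
  add_mem' := fun {a b} ha hb => by
    show (show B.presheaf.obj (op T) from a) + (show B.presheaf.obj (op T) from b) ∈ genRing B j T
    exact Subring.add_mem _ ha hb
  zero_mem' := by
    show (0 : B.presheaf.obj (op T)) ∈ genRing B j T
    exact Subring.zero_mem _
  smul_mem' := fun r y hy => by
    show (show B.presheaf.obj (op T) from r • y) ∈ genRing B j T
    rw [toModule_smul_def]
    exact Subring.mul_mem _ (str_mem_genRing B j T r) hy

theorem mem_genSub (T : X.Opens) (y : Γ(B.toModule, T)) :
    y ∈ genSub B j T ↔ (show B.presheaf.obj (op T) from y) ∈ genRing B j T := Iff.rfl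

/-- **local-to-global generation**: if `E` generates `B` as an algebra on the members of an
affine cover, it does on every affine open. -/
theorem genRing_eq_top_of_cover [E.IsQuasicoherent] {ι : Type*} (V : ι → X.Opens)
    (hV : ∀ l, IsAffineOpen (V l)) (hcov : ⨆ l, V l = ⊤) (htop : ∀ l, genRing B j (V l) = ⊤)
    {U : X.Opens} (hU : IsAffineOpen U) : genRing B j U = ⊤ := by
  haveI := toModule_isQuasicoherent B
  rw [eq_top_iff]
  intro b _
  rw [← mem_genSub B j U (show Γ(B.toModule, U) from b)]
  apply mem_of_locally_mem hU (genSub B j U) (show Γ(B.toModule, U) from b)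
  intro x hx
  have hx' : x ∈ ⨆ l, V l := hcov ▸ (show x ∈ (⊤ : X.Opens) from trivial)
  obtain ⟨l, hxl⟩ := Opens.mem_iSup.1 hx'
  obtain ⟨f, g, e, hxf⟩ := exists_basicOpen_le_affine_inter hU (hV l) x ⟨hx, hxl⟩
  refine ⟨f, hxf, ?_⟩
  have htopf : genRing B j (X.basicOpen f) = ⊤ := by
    rw [e]
    exact genRing_basicOpen_eq_top B j (hV l) g (htop l)
  have hbf : (B.presheaf.map (homOfLE (X.basicOpen_le f)).op).hom b ∈ genRing B j (X.basicOpen f) :=
    htopf ▸ Subring.mem_top _
  obtain ⟨n, c, hc, hcb⟩ := exists_pow_mul_mem B j hU f hbf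
  apply mem_of_pow_smul_mem_basicOpen f _ (n := n)
  have h3 : (X.presheaf.map (homOfLE (X.basicOpen_le f)).op f) ^ n •
      B.toModule.presheaf.map (homOfLE (X.basicOpen_le f)).op (show Γ(B.toModule, U) from b) =
      B.toModule.presheaf.map (homOfLE (X.basicOpen_le f)).op (show Γ(B.toModule, U) from c) := by
    rw [toModule_smul_def, map_pow, str_res]
    exact hcb.symm
  rw [h3]
  exact Submodule.subset_span ⟨c, hc, rfl⟩


/-- **EGA I 9.6.5** on a qcqs scheme: a quasi-coherent algebra of finite type is generated by a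
quasi-coherent submodule of finite type. -/
theorem exists_generating_sub [CompactSpace X] [QuasiSeparatedSpace X] (B : RelSpec.QCAlg X)
    (hB : ∀ U : X.affineOpens, (B.str.app (op (U : X.Opens))).hom.FiniteType) :
    ∃ (E : X.Modules) (j : E ⟶ B.toModule), Mono j ∧ E.IsQuasicoherent ∧
      SheafOfModules.IsFiniteType (R := X.ringCatSheaf) E ∧
      ∀ U : X.affineOpens, genRing B j U = ⊤ := by
  haveI := toModule_isQuasicoherent B
  obtain ⟨n, V, hV, hcov, -⟩ := exists_fin_cover_qcqs X ⊥ (by simp)
  have key : ∀ l, ∃ (G : X.Modules) (i : G ⟶ B.toModule), Mono i ∧ G.IsQuasicoherent ∧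
      SheafOfModules.IsFiniteType (R := X.ringCatSheaf) G ∧
      ∀ (E' : X.Modules) (j' : E' ⟶ B.toModule),
        (∀ (T : X.Opens) (a : Γ(G, T)), ∃ e : Γ(E', T), j'.app T e = i.app T a) →
        genRing B j' (V l) = ⊤ := by
    intro l
    letI := (B.str.app (op (V l))).hom.toAlgebra
    have hft : Algebra.FiniteType Γ(X, V l) (B.presheaf.obj (op (V l))) := hB ⟨V l, hV l⟩
    obtain ⟨t, ht⟩ := hft.out
    let M : Submodule Γ(X, V l) Γ(B.toModule, V l) :=
      Submodule.span Γ(X, V l) (show Set Γ(B.toModule, V l) from (t : Set (B.presheaf.obj (op (V l)))))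
    obtain ⟨G, i, hm, hq, hftG, hmem⟩ := exists_ft_sub_of_fg_qcqs B.toModule (hV l) M
      (Submodule.fg_span t.finite_toSet)
    refine ⟨G, i, hm, hq, hftG, ?_⟩
    intro E' j' hcont
    rw [eq_top_iff]
    have h1 : (Algebra.adjoin Γ(X, V l) (t : Set (B.presheaf.obj (op (V l))))).toSubring = ⊤ := by
      rw [ht]; rfl
    rw [← h1, Algebra.adjoin_eq_ring_closure, Subring.closure_le]
    rintro b (⟨r, rfl⟩ | hb)
    · exact str_mem_genRing B j' (V l) r
    · obtain ⟨g, hg⟩ := hmem (show Γ(B.toModule, V l) from b) (Submodule.subset_span hb)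
      obtain ⟨e, he⟩ := hcont (V l) g
      have := j_mem_genRing B j' (V l) e
      rw [he, hg] at this
      exact this
  choose G i hm hq hft hgen using key
  obtain ⟨E, j, hmono, hqE, hftE, hcont⟩ := exists_finsup n G i hm hq hft
  haveI := hqE
  exact ⟨E, j, hmono, hqE, hftE, fun U =>
    genRing_eq_top_of_cover B j V hV hcov (fun l => hgen l E j (hcont l)) U.2⟩

end Groth.Agent.Lib.Helper40.QCAlgGen
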