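import Groth.Agent.Lib.Helper40.QCAlgGen

set_option autoImplicit false
universe u

open AlgebraicGeometry CategoryTheory Opposite TopologicalSpace Limits

namespace Groth.Agent.Lib.Helper40.QCAlgGen

open Groth.Agent.Lib.Lead.QCohAff Groth.Agent.Lib.Lead.CohAff Groth.Agent.Lib.Helper2.QCAlgMod
open Groth.Agent.Lib.Helper40.SSh Groth.Agent.Lib.Helper40.QCohLim

set_option backward.isDefEq.respectTransparency.types false

variable {X : Scheme.{u}} (B : RelSpec.QCAlg X) {E : X.Modules} (j : E ⟶ B.toModule)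

theorem rho_rho {T T' T'' : X.Opens} (h1 : T' ≤ T) (h2 : T'' ≤ T') (s : B.presheaf.obj (op T)) :
    (B.presheaf.map (homOfLE h2).op).hom ((B.presheaf.map (homOfLE h1).op).hom s) =
      (B.presheaf.map (homOfLE (h2.trans h1)).op).hom s := by
  rw [← CommRingCat.comp_apply, ← Functor.map_comp]
  rfl

theorem rho_self {T : X.Opens} (h : T ≤ T) (s : B.presheaf.obj (op T)) :
    (B.presheaf.map (homOfLE h).op).hom s = s := by
  have : (homOfLE h).op = 𝟙 (op T) := rfl
  rw [this, B.presheaf.map_id]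
  rfl

/-- sections lying locally in the generated subring -/
def locRing (T : X.Opens) : Subring (B.presheaf.obj (op T)) where
  carrier := {s | ∀ x, x ∈ T → ∃ (T' : X.Opens) (h : T' ≤ T), x ∈ T' ∧
    (B.presheaf.map (homOfLE h).op).hom s ∈ genRing B j T'}
  mul_mem' := by
    intro a b ha hb x hx
    obtain ⟨Ta, h1a, hxa, hma⟩ := ha x hx
    obtain ⟨Tb, h1b, hxb, hmb⟩ := hb x hx
    refine ⟨Ta ⊓ Tb, inf_le_left.trans h1a, ⟨hxa, hxb⟩, ?_⟩
    rw [map_mul]
    apply Subring.mul_mem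
    · have := res_mem_genRing B j (inf_le_left : Ta ⊓ Tb ≤ Ta) hma
      rwa [rho_rho] at this
    · have := res_mem_genRing B j (inf_le_right : Ta ⊓ Tb ≤ Tb) hmb
      rwa [rho_rho] at this
  one_mem' := by
    intro x hx
    refine ⟨_, le_rfl, hx, ?_⟩
    rw [map_one]
    exact Subring.one_mem _
  add_mem' := by
    intro a b ha hb x hx
    obtain ⟨Ta, h1a, hxa, hma⟩ := ha x hx
    obtain ⟨Tb, h1b, hxb, hmb⟩ := hb x hx
    refine ⟨Ta ⊓ Tb, inf_le_left.trans h1a, ⟨hxa, hxb⟩, ?_⟩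
    rw [map_add]
    apply Subring.add_mem
    · have := res_mem_genRing B j (inf_le_left : Ta ⊓ Tb ≤ Ta) hma
      rwa [rho_rho] at this
    · have := res_mem_genRing B j (inf_le_right : Ta ⊓ Tb ≤ Tb) hmb
      rwa [rho_rho] at this
  zero_mem' := by
    intro x hx
    refine ⟨_, le_rfl, hx, ?_⟩
    rw [map_zero]
    exact Subring.zero_mem _
  neg_mem' := by
    intro a ha x hx
    obtain ⟨Ta, h1a, hxa, hma⟩ := ha x hx
    refine ⟨Ta, h1a, hxa, ?_⟩
    rw [map_neg]
    exact Subring.neg_mem _ hma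

theorem mem_locRing {T : X.Opens} (s : B.presheaf.obj (op T)) :
    s ∈ locRing B j T ↔ ∀ x, x ∈ T → ∃ (T' : X.Opens) (h : T' ≤ T), x ∈ T' ∧
      (B.presheaf.map (homOfLE h).op).hom s ∈ genRing B j T' := Iff.rfl

theorem genRing_le_locRing (T : X.Opens) : genRing B j T ≤ locRing B j T := by
  intro s hs x hx
  refine ⟨T, le_rfl, hx, ?_⟩
  rwa [rho_self]

theorem res_mem_locRing {T T' : X.Opens} (h : T' ≤ T) {s : B.presheaf.obj (op T)}
    (hs : s ∈ locRing B j T) : (B.presheaf.map (homOfLE h).op).hom s ∈ locRing B j T' := by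
  intro x hx
  obtain ⟨T1, h1, hx1, hm⟩ := hs x (h hx)
  refine ⟨T1 ⊓ T', inf_le_right, ⟨hx1, hx⟩, ?_⟩
  rw [rho_rho]
  have := res_mem_genRing B j (inf_le_left : T1 ⊓ T' ≤ T1) hm
  rwa [rho_rho] at this

theorem locRing_local {T : X.Opens} (s : B.presheaf.obj (op T))
    (hs : ∀ x, x ∈ T → ∃ (T' : X.Opens) (h : T' ≤ T), x ∈ T' ∧
      (B.presheaf.map (homOfLE h).op).hom s ∈ locRing B j T') : s ∈ locRing B j T := by
  intro x hx
  obtain ⟨T1, hT1, hxT1, hmem⟩ := hs x hx
  obtain ⟨T', h1, hx', hm⟩ := hmem x hxT1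
  refine ⟨T', h1.trans hT1, hx', ?_⟩
  rwa [rho_rho] at hm

/-- on an affine open, the sections locally in the generated subring are in it. -/
theorem locRing_affine [E.IsQuasicoherent] {U : X.Opens} (hU : IsAffineOpen U) :
    locRing B j U = genRing B j U := by
  haveI := toModule_isQuasicoherent B
  apply le_antisymm _ (genRing_le_locRing B j U)
  intro b hb
  rw [← mem_genSub B j U (show Γ(B.toModule, U) from b)]
  apply mem_of_locally_mem hU (genSub B j U) (show Γ(B.toModule, U) from b)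
  intro x hx
  obtain ⟨T', hT', hxT', hm⟩ := hb x hx
  obtain ⟨f, hfT, hxf⟩ := hU.exists_basicOpen_le (V := T') ⟨x, hxT'⟩ hx
  refine ⟨f, hxf, ?_⟩
  have hbf : (B.presheaf.map (homOfLE (X.basicOpen_le f)).op).hom b ∈ genRing B j (X.basicOpen f) := by
    have := res_mem_genRing B j hfT hm
    rwa [rho_rho] at this
  obtain ⟨n, c, hc, hcb⟩ := exists_pow_mul_mem B j hU f hbf
  apply mem_of_pow_smul_mem_basicOpen f _ (n := n)
  have h3 : (X.presheaf.map (homOfLE (X.basicOpen_le f)).op f) ^ n •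
      B.toModule.presheaf.map (homOfLE (X.basicOpen_le f)).op (show Γ(B.toModule, U) from b) =
      B.toModule.presheaf.map (homOfLE (X.basicOpen_le f)).op (show Γ(B.toModule, U) from c) := by
    rw [toModule_smul_def, map_pow, str_res]
    exact hcb.symm
  rw [h3]
  exact Submodule.subset_span ⟨c, hc, rfl⟩

end Groth.Agent.Lib.Helper40.QCAlgGen
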