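import Groth.Agent.Lib.Helper40.QCAlgSub1

set_option autoImplicit false
universe u

open AlgebraicGeometry CategoryTheory Opposite TopologicalSpace Limits

namespace Groth.Agent.Lib.Helper40.QCAlgGen

open Groth.Agent.Lib.Lead.QCohAff Groth.Agent.Lib.Lead.CohAff Groth.Agent.Lib.Helper2.QCAlgMod
open Groth.Agent.Lib.Helper40.SSh Groth.Agent.Lib.Helper40.QCohLim

set_option backward.isDefEq.respectTransparency.types false

variable {X : Scheme.{u}} (B : RelSpec.QCAlg X) {E : X.Modules} (j : E ⟶ B.toModule)

/-- the presheaf of subrings `locRing` -/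
def subPresheaf : TopCat.Presheaf CommRingCat.{u} X.carrier where
  obj T := CommRingCat.of (locRing B j T.unop)
  map {T T'} i := CommRingCat.ofHom ((B.presheaf.map i).hom.restrict (locRing B j T.unop)
    (locRing B j T'.unop) (fun s hs => res_mem_locRing B j (leOfHom i.unop) hs))
  map_id T := by
    ext s
    show (B.presheaf.map (𝟙 T)).hom s.1 = s.1
    rw [B.presheaf.map_id]
    rfl
  map_comp {T T' T''} i i' := by
    ext s
    show (B.presheaf.map (i ≫ i')).hom s.1 = (B.presheaf.map i').hom ((B.presheaf.map i).hom s.1)
    rw [B.presheaf.map_comp]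
    rfl

theorem subPresheaf_map_val {T T' : (Opens X.carrier)ᵒᵖ} (i : T ⟶ T')
    (s : (subPresheaf B j).obj T) :
    (((subPresheaf B j).map i).hom s : locRing B j T'.unop).1 =
      (B.presheaf.map i).hom (s : locRing B j T.unop).1 := rfl


theorem isSheaf_subPresheaf : (subPresheaf B j).IsSheaf := by
  refine (TopCat.Presheaf.isSheaf_iff_isSheafUniqueGluing _).2 ?_
  intro ι U sf hsf
  have hF := (TopCat.Presheaf.isSheaf_iff_isSheafUniqueGluing _).1 B.isSheaf
  let val : ∀ T : X.Opens, ToType ((subPresheaf B j).obj (op T)) → B.presheaf.obj (op T) :=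
    fun T a => (show ↥(locRing B j T) from a).1
  have hval : ∀ (T : X.Opens) (a : ToType ((subPresheaf B j).obj (op T))),
      val T a ∈ locRing B j T := fun T a => (show ↥(locRing B j T) from a).2
  obtain ⟨s, hs, hs'⟩ := hF U (fun i => val (U i) (sf i)) (by
    intro i k
    exact congrArg Subtype.val (hsf i k))
  have hmem : s ∈ locRing B j (iSup U) := by
    apply locRing_local
    intro x hx
    obtain ⟨i, hi⟩ := Opens.mem_iSup.1 hx
    refine ⟨U i, le_iSup U i, hi, ?_⟩
    have := hs i
    change (B.presheaf.map (homOfLE (le_iSup U i)).op).hom s = _ at this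
    rw [this]
    exact hval _ _
  refine ⟨(⟨s, hmem⟩ : locRing B j (iSup U)), ?_, ?_⟩
  · intro i
    exact Subtype.ext (hs i)
  · intro t ht
    apply Subtype.ext
    apply hs'
    intro i
    exact congrArg Subtype.val (ht i)


/-- the structure map of the subalgebra -/
def subStr : X.presheaf ⟶ subPresheaf B j where
  app T := CommRingCat.ofHom ((B.str.app T).hom.codRestrict (locRing B j T.unop)
    (fun r => genRing_le_locRing B j _ (str_mem_genRing B j _ r)))
  naturality T T' i := by
    ext r
    apply Subtype.ext
    show (B.str.app T').hom ((X.presheaf.map i).hom r) = (B.presheaf.map i).hom ((B.str.app T).hom r)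
    exact congr($(B.str.naturality i) r)

theorem subStr_val (T : X.Opens) (r : Γ(X, T)) :
    (((subStr B j).app (op T)).hom r : locRing B j T).1 = (B.str.app (op T)).hom r := rfl

theorem isQC_sub [E.IsQuasicoherent] : RelSpec.IsQC (subPresheaf B j) (subStr B j) := by
  intro U hU r
  letI := ((subPresheaf B j).map (homOfLE (X.basicOpen_le r)).op).hom.toAlgebra
  have halg : ∀ c : (subPresheaf B j).obj (op U),
      (algebraMap ((subPresheaf B j).obj (op U)) ((subPresheaf B j).obj (op (X.basicOpen r))) c :
        locRing B j (X.basicOpen r)).1 =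
      (B.presheaf.map (homOfLE (X.basicOpen_le r)).op).hom (c : locRing B j U).1 := fun c => rfl
  have hstr : algebraMap ((subPresheaf B j).obj (op U)) ((subPresheaf B j).obj (op (X.basicOpen r)))
      (((subStr B j).app (op U)).hom r) =
      ((subStr B j).app (op (X.basicOpen r))).hom
        ((X.presheaf.map (homOfLE (X.basicOpen_le r)).op).hom r) := by
    apply Subtype.ext
    rw [halg, subStr_val, subStr_val, str_res]
  refine (isLocalization_iff _ _).2 ⟨?_, ?_, ?_⟩
  · rintro ⟨_, n, rfl⟩
    rw [map_pow, hstr]
    exact ((isUnit_res_basicOpen r).map ((subStr B j).app (op (X.basicOpen r))).hom).pow n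
  · intro z
    have hz : (z : locRing B j (X.basicOpen r)).1 ∈ genRing B j (X.basicOpen r) := by
      rw [← locRing_affine B j (hU.basicOpen r)]
      exact (z : locRing B j (X.basicOpen r)).2
    obtain ⟨n, c, hc, hcz⟩ := exists_pow_mul_mem B j hU r hz
    refine ⟨(⟨c, genRing_le_locRing B j U hc⟩, ⟨(((subStr B j).app (op U)).hom r) ^ n, n, rfl⟩), ?_⟩
    apply Subtype.ext
    rw [halg]
    show (z : locRing B j (X.basicOpen r)).1 *
      (algebraMap ((subPresheaf B j).obj (op U)) ((subPresheaf B j).obj (op (X.basicOpen r)))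
        ((((subStr B j).app (op U)).hom r) ^ n) : locRing B j (X.basicOpen r)).1 = _
    rw [halg, hcz, mul_comm]
    have hp : ((((subStr B j).app (op U)).hom r) ^ n : locRing B j U).1 =
        ((B.str.app (op U)).hom r) ^ n :=
      Subring.coe_pow (locRing B j U) (show locRing B j U from ((subStr B j).app (op U)).hom r) n
    rw [hp, map_pow]
  · intro x y hxy
    letI := (B.presheaf.map (homOfLE (X.basicOpen_le r)).op).hom.toAlgebra
    haveI : IsLocalization.Away ((B.str.app (op U)).hom r) (B.presheaf.obj (op (X.basicOpen r))) :=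
      B.isQC U hU r
    have h1 : algebraMap (B.presheaf.obj (op U)) (B.presheaf.obj (op (X.basicOpen r)))
        (x : locRing B j U).1 =
        algebraMap (B.presheaf.obj (op U)) (B.presheaf.obj (op (X.basicOpen r)))
          (y : locRing B j U).1 := by
      have := congrArg Subtype.val hxy
      rwa [halg, halg] at this
    obtain ⟨⟨_, n, rfl⟩, hc⟩ :=
      IsLocalization.exists_of_eq (M := Submonoid.powers ((B.str.app (op U)).hom r)) h1
    refine ⟨⟨(((subStr B j).app (op U)).hom r) ^ n, n, rfl⟩, ?_⟩
    apply Subtype.ext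
    exact hc


/-- the quasi-coherent subalgebra of `B` generated by `E` -/
def subAlg [E.IsQuasicoherent] : RelSpec.QCAlg X where
  presheaf := subPresheaf B j
  isSheaf := isSheaf_subPresheaf B j
  str := subStr B j
  isQC := isQC_sub B j

/-- the inclusion of the generated subalgebra -/
def subAlgι [E.IsQuasicoherent] : subAlg B j ⟶ B where
  hom :=
    { app := fun T => CommRingCat.ofHom (locRing B j T.unop).subtype
      naturality := fun _ _ _ => rfl }
  comm := rfl

theorem subAlgι_injective [E.IsQuasicoherent] (T : X.Opens) :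
    Function.Injective ((subAlgι B j).hom.app (op T)).hom :=
  fun _ _ h => Subtype.ext h

theorem mem_range_subAlgι [E.IsQuasicoherent] {T : X.Opens} (e : Γ(E, T)) :
    (show B.presheaf.obj (op T) from j.app T e) ∈ Set.range ((subAlgι B j).hom.app (op T)).hom :=
  ⟨⟨_, genRing_le_locRing B j T (j_mem_genRing B j T e)⟩, rfl⟩

/-- the generated subalgebra is of finite type over every affine open where `E` has finitely
generated sections. -/
theorem subAlg_finiteType [E.IsQuasicoherent] {V : X.Opens} (hV : IsAffineOpen V)
    (hfin : Module.Finite Γ(X, V) Γ(E, V)) :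
    ((subAlg B j).str.app (op V)).hom.FiniteType := by
  letI alg : Algebra Γ(X, V) (locRing B j V) := ((subStr B j).app (op V)).hom.toAlgebra
  show Algebra.FiniteType Γ(X, V) (locRing B j V)
  have halg : ∀ r : Γ(X, V), (algebraMap Γ(X, V) (locRing B j V) r).1 = (B.str.app (op V)).hom r :=
    fun r => rfl
  let jj : Γ(E, V) →ₗ[Γ(X, V)] (locRing B j V) :=
    { toFun := fun e => ⟨(show B.presheaf.obj (op V) from j.app V e),
        genRing_le_locRing B j V (j_mem_genRing B j V e)⟩
      map_add' := fun a b => Subtype.ext (by
        show (show B.presheaf.obj (op V) from j.app V (a + b)) = _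
        rw [map_add]; rfl)
      map_smul' := fun r a => Subtype.ext (by
        show (show B.presheaf.obj (op V) from j.app V (r • a)) = _
        rw [Scheme.Modules.Hom.app_smul, toModule_smul_def]
        rfl) }
  obtain ⟨t, ht⟩ := Module.finite_def.1 hfin
  classical
  refine ⟨⟨t.image jj, ?_⟩⟩
  rw [eq_top_iff]
  rintro ⟨z, hz⟩ -
  have hjj : ∀ e : Γ(E, V), jj e ∈ Algebra.adjoin Γ(X, V) ((t.image jj : Finset (locRing B j V)) : Set (locRing B j V)) := by
    intro e
    have he : e ∈ Submodule.span Γ(X, V) (t : Set Γ(E, V)) := ht ▸ Submodule.mem_top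
    induction he using Submodule.span_induction with
    | mem x hx => exact Algebra.subset_adjoin (Finset.mem_coe.2 (Finset.mem_image_of_mem _ hx))
    | zero => rw [map_zero]; exact Subalgebra.zero_mem _
    | add a b _ _ ha hb => rw [map_add]; exact Subalgebra.add_mem _ ha hb
    | smul r a _ ha => rw [map_smul]; exact Subalgebra.smul_mem _ ha r
  have hz' : z ∈ genRing B j V := by rwa [← locRing_affine B j hV]
  have key : ∀ (y : B.presheaf.obj (op V)) (hy : y ∈ genRing B j V),
      (⟨y, genRing_le_locRing B j V hy⟩ : locRing B j V) ∈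
        Algebra.adjoin Γ(X, V) ((t.image jj : Finset (locRing B j V)) : Set (locRing B j V)) := by
    intro y hy
    induction hy using Subring.closure_induction with
    | mem y hy =>
      rcases hy with ⟨r, rfl⟩ | ⟨e, rfl⟩
      · exact Subalgebra.algebraMap_mem _ r
      · exact hjj e
    | zero => exact Subalgebra.zero_mem _
    | one => exact Subalgebra.one_mem _
    | add a b _ _ ha hb => exact Subalgebra.add_mem _ ha hb
    | neg a _ ha => exact Subalgebra.neg_mem _ ha
    | mul a b _ _ ha hb => exact Subalgebra.mul_mem _ ha hb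
  exact key z hz'

end Groth.Agent.Lib.Helper40.QCAlgGen
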