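import Groth.Prelude.Def_QCohCat
import Groth.Agent.Lib.Helper40.ExtFP3
import Groth.Agent.Lib.Helper40.QCohCoprod
import Groth.Agent.Lib.Helper21.QCohColim
import Groth.Agent.Lib.Helper2.QCohLim
import Groth.Agent.Lib.Helper2.LocFreeAff
import Mathlib.CategoryTheory.Limits.FullSubcategory
import Mathlib.CategoryTheory.Abelian.Subcategory
import Mathlib.CategoryTheory.Abelian.Subobject
import Mathlib.CategoryTheory.Subobject.WellPowered

set_option autoImplicit false
universe u
open CategoryTheory AlgebraicGeometry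
open QCohCat

namespace Groth.Agent.Lib.Helper40.QCohAb
open Limits Opposite TopologicalSpace Groth.Agent.Lib.Helper40
  Groth.Agent.Lib.Helper40.SSh Groth.Agent.Lib.Helper40.SSh.SubSh

variable (X : Scheme.{u})

instance isClosedUnderIso : (isQCoh X).IsClosedUnderIsomorphisms :=
  ⟨fun e h => QCohCoprod.qc_of_iso e h⟩

instance isClosedUnderColim (J : Type u) [SmallCategory J] :
    (isQCoh X).IsClosedUnderColimitsOfShape J :=
  ObjectProperty.IsClosedUnderColimitsOfShape.mk' (by
    rintro _ ⟨D, hD⟩
    exact Groth.Agent.Lib.Helper21.QCohColim.isQuasicoherent_colimit D hD)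

instance : HasColimits (QCoh X) := ⟨fun J _ => inferInstance⟩

instance containsZero : (isQCoh X).ContainsZero where
  exists_zero := by
    haveI : (FlatMod.freeMod X 0).IsQuasicoherent :=
      Groth.Agent.Lib.Helper2.LocFreeAff.freeMod_isQuasicoherent X 0
    refine ⟨cokernel (𝟙 (FlatMod.freeMod X 0)), isZero_cokernel_of_epi _, ?_⟩
    exact Groth.Agent.Lib.Helper21.QCohKernel.isQuasicoherent_cokernel _

instance closedKer : (isQCoh X).IsClosedUnderKernels where
  kernels_le := by
    rintro _ ⟨f, k, hk, hA, hB⟩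
    rename_i A B
    haveI : A.IsQuasicoherent := hA
    haveI : B.IsQuasicoherent := hB
    have hq := Groth.Agent.Lib.Helper21.QCohKernel.isQuasicoherent_kernel f
    exact QCohCoprod.qc_of_iso (IsLimit.conePointUniqueUpToIso (kernelIsKernel f) hk) hq

instance closedCoker : (isQCoh X).IsClosedUnderCokernels where
  cokernels_le := by
    rintro _ ⟨f, k, hk, hA, hB⟩
    rename_i A B
    haveI : A.IsQuasicoherent := hA
    haveI : B.IsQuasicoherent := hB
    have hq := Groth.Agent.Lib.Helper21.QCohKernel.isQuasicoherent_cokernel f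
    exact QCohCoprod.qc_of_iso (IsColimit.coconePointUniqueUpToIso (cokernelIsCokernel f) hk) hq

instance closedBinProd : (isQCoh X).IsClosedUnderBinaryProducts :=
  ObjectProperty.IsClosedUnderLimitsOfShape.mk' (by
    rintro _ ⟨D, hD⟩
    haveI : (D.obj ⟨WalkingPair.left⟩).IsQuasicoherent := hD _
    haveI : (D.obj ⟨WalkingPair.right⟩).IsQuasicoherent := hD _
    have hq := Groth.Agent.Lib.Helper2.KerSec.isQuasicoherent_biprod
      (D.obj ⟨WalkingPair.left⟩) (D.obj ⟨WalkingPair.right⟩)
    let e : limit D ≅ D.obj ⟨WalkingPair.left⟩ ⨯ D.obj ⟨WalkingPair.right⟩ :=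
      HasLimit.isoOfNatIso (diagramIsoPair D)
    exact QCohCoprod.qc_of_iso ((biprod.isoProd _ _) ≪≫ e.symm) hq)

instance closedFinProd : (isQCoh X).IsClosedUnderFiniteProducts :=
  ObjectProperty.IsClosedUnderFiniteProducts.mk'

noncomputable instance : Abelian (QCoh X) := inferInstance

/-- monomorphisms of `QCoh X` are monomorphisms of modules -/
theorem mono_hom {X : Scheme.{u}} {A B : QCoh X} (f : A ⟶ B) [Mono f] : Mono f.hom := by
  haveI : A.obj.IsQuasicoherent := A.property
  haveI : B.obj.IsQuasicoherent := B.property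
  apply Preadditive.mono_of_kernel_zero
  let K : QCoh X := ⟨kernel f.hom, Groth.Agent.Lib.Helper21.QCohKernel.isQuasicoherent_kernel f.hom⟩
  let κ : K ⟶ A := ObjectProperty.homMk (kernel.ι f.hom)
  let z : K ⟶ A := ObjectProperty.homMk 0
  have h : κ ≫ f = z ≫ f := by
    apply ObjectProperty.hom_ext
    change kernel.ι f.hom ≫ f.hom = 0 ≫ f.hom
    rw [kernel.condition, zero_comp]
  have h2 := (cancel_mono f).mp h
  exact congrArg (fun φ => φ.hom) h2

instance wellPowered : WellPowered.{u} (QCoh X) where
  subobject_small A := by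
    let Φ : Subobject A → SubSh A.obj := fun N => ofHom N.arrow.hom
    apply small_of_injective (f := Φ)
    intro N N' h
    haveI := mono_hom N.arrow
    haveI := mono_hom N'.arrow
    have h1 : ∀ (T : X.Opens) (a : Γ((N : QCoh X).obj, T)),
        ∃ b : Γ((N' : QCoh X).obj, T), N'.arrow.hom.app T b = N.arrow.hom.app T a := by
      intro T a
      have : N.arrow.hom.app T a ∈ (Φ N).obj T := ⟨a, rfl⟩
      rw [h] at this
      exact this
    have h2 : ∀ (T : X.Opens) (a : Γ((N' : QCoh X).obj, T)),
        ∃ b : Γ((N : QCoh X).obj, T), N.arrow.hom.app T b = N'.arrow.hom.app T a := by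
      intro T a
      have : N'.arrow.hom.app T a ∈ (Φ N').obj T := ⟨a, rfl⟩
      rw [← h] at this
      exact this
    obtain ⟨k, hk⟩ := exists_factor_of_range_le N.arrow.hom N'.arrow.hom h1
    obtain ⟨k', hk'⟩ := exists_factor_of_range_le N'.arrow.hom N.arrow.hom h2
    apply le_antisymm
    · exact Subobject.le_of_comm (ObjectProperty.homMk k) (by
        apply ObjectProperty.hom_ext
        exact hk)
    · exact Subobject.le_of_comm (ObjectProperty.homMk k') (by
        apply ObjectProperty.hom_ext
        exact hk')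

instance wellPoweredOp : WellPowered.{u} (QCoh X)ᵒᵖ := inferInstance

end Groth.Agent.Lib.Helper40.QCohAb
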