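import Groth.Agent.S9828
import Groth.Agent.Lib.Helper40.HomColim6
import Groth.Agent.Lib.Helper40.PushColim
import Groth.Agent.Lib.Helper21.QCohColim
import Groth.Agent.Lib.Helper60.TensorMod

set_option autoImplicit false
universe u
open CategoryTheory AlgebraicGeometry

namespace Groth.Agent.Lib.Helper40.QCohColim2
open Limits Opposite TopologicalSpace Groth.Agent.Lib.Helper40 Groth.Agent.Lib.Helper40.ExtFP
  Groth.Agent.S9828

/-- sections of a filtered colimit of q.c. modules over an affine open -/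
theorem sec_colim {X : Scheme.{u}} {J : Type u} [SmallCategory J] [IsFiltered J]
    (K : J ⥤ X.Modules) (hK : ∀ j, (K.obj j).IsQuasicoherent) (c : Cocone K) (hc : IsColimit c)
    {V : X.Opens} (hV : IsAffineOpen V) :
    (∀ t : Γ(c.pt, V), ∃ (j : J) (tj : Γ(K.obj j, V)), (c.ι.app j).app V tj = t) ∧
    (∀ (j : J) (ε : Γ(K.obj j, V)), (c.ι.app j).app V ε = 0 →
      ∃ (j₁ : J) (ψ : j ⟶ j₁), (K.map ψ).app V ε = 0) := by
  haveI := PushColim.preservesColimit_secF hV K hK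
  have h := isColimitOfPreserves (PushColim.secF V) hc
  constructor
  · intro t
    obtain ⟨j, y, hy⟩ := Concrete.isColimit_exists_rep (K ⋙ PushColim.secF V) h t
    exact ⟨j, y, hy⟩
  · intro j ε hε
    obtain ⟨k, f, g, hfg⟩ := Concrete.isColimit_exists_of_rep_eq (K ⋙ PushColim.secF V) h
      (i := j) (j := j) ε (0 : Γ(K.obj j, V)) (by
        refine Eq.trans hε ?_
        exact (map_zero _).symm)
    refine ⟨k, f, ?_⟩
    refine Eq.trans hfg ?_
    exact map_zero _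

/-- a cocone of q.c. modules over a filtered diagram which is a colimit on sections over affine
opens is a colimit -/
theorem isColimit_of_sections {X : Scheme.{u}} {J : Type u} [SmallCategory J] [IsFiltered J]
    (K : J ⥤ X.Modules) (hK : ∀ j, (K.obj j).IsQuasicoherent) (c : Cocone K)
    [hpt : c.pt.IsQuasicoherent]
    (C1 : ∀ (V : X.Opens), IsAffineOpen V → ∀ t : Γ(c.pt, V),
      ∃ (j : J) (tj : Γ(K.obj j, V)), (c.ι.app j).app V tj = t)
    (C2 : ∀ (V : X.Opens), IsAffineOpen V → ∀ (j : J) (ε : Γ(K.obj j, V)),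
      (c.ι.app j).app V ε = 0 → ∃ (j₁ : J) (ψ : j ⟶ j₁), (K.map ψ).app V ε = 0) :
    Nonempty (IsColimit c) := by
  let u : colimit K ⟶ c.pt := colimit.desc K c
  have hu : ∀ j, colimit.ι K j ≫ u = c.ι.app j := fun j => colimit.ι_desc c j
  have hu' : ∀ j (V : X.Opens) (t : Γ(K.obj j, V)),
      u.app V ((colimit.ι K j).app V t) = (c.ι.app j).app V t := fun j V t =>
    congr($(congrArg (fun φ : K.obj j ⟶ c.pt => φ.app V) (hu j)) t)
  haveI : (colimit K).IsQuasicoherent :=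
    Groth.Agent.Lib.Helper21.QCohColim.isQuasicoherent_colimit K hK
  haveI : IsIso u := by
    apply Groth.Agent.Lib.Helper60.TensorLib.isIso_of_app_bijective
    intro T
    apply bijective_of_affine
    intro W hW _
    obtain ⟨D1, D2⟩ := sec_colim K hK _ (colimit.isColimit K) hW
    constructor
    · rw [injective_iff_map_eq_zero]
      intro z hz
      obtain ⟨j, tj, rfl⟩ := D1 z
      change u.app W ((colimit.ι K j).app W tj) = 0 at hz
      rw [hu'] at hz
      obtain ⟨j₁, ψ, hψ⟩ := C2 W hW j tj hz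
      have h1 : K.map ψ ≫ colimit.ι K j₁ = colimit.ι K j := colimit.w K ψ
      have h2 := congr($(congrArg (fun φ : K.obj j ⟶ colimit K => φ.app W) h1) tj)
      change (colimit.ι K j).app W tj = 0
      rw [← h2]
      change (colimit.ι K j₁).app W ((K.map ψ).app W tj) = 0
      rw [hψ, map_zero]
    · intro t
      obtain ⟨j, tj, rfl⟩ := C1 W hW t
      exact ⟨(colimit.ι K j).app W tj, hu' j W tj⟩
  haveI : IsIso ((colimit.isColimit K).desc c) := ‹IsIso u›
  exact ⟨IsColimit.ofPointIso (colimit.isColimit K)⟩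

section SysCompact

variable {X : Scheme.{u}} [CompactSpace X] [QuasiSeparatedSpace X] {P F : X.Modules} (π : P ⟶ F)
  [P.IsQuasicoherent] [F.IsQuasicoherent]

omit [CompactSpace X] [QuasiSeparatedSpace X] in
theorem qc_Dobj (N : J π) : (Dobj π N).IsQuasicoherent := by
  haveI := (spec π N).2.1
  exact Groth.Agent.Lib.Helper21.QCohKernel.isQuasicoherent_cokernel _

omit [CompactSpace X] [QuasiSeparatedSpace X] [P.IsQuasicoherent] [F.IsQuasicoherent] in
theorem Dmap_comp {N N' N'' : J π} (h : N ≤ N') (h' : N' ≤ N'') :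
    Dmap π h ≫ Dmap π h' = Dmap π (h.trans h') := by
  rw [← cancel_epi (q π N), q_Dmap_assoc, q_Dmap, q_Dmap]

omit [CompactSpace X] [QuasiSeparatedSpace X] [P.IsQuasicoherent] [F.IsQuasicoherent] in
theorem Dmap_toF {N N' : J π} (h : N ≤ N') : Dmap π h ≫ toF π N' = toF π N := by
  rw [← cancel_epi (q π N), q_Dmap_assoc, q_toF, q_toF]

variable [Epi π]

theorem sys_C1 (V : X.Opens) (hV : IsAffineOpen V) (t : Γ(F, V)) :
    ∃ (k : (J π)ᵒᵖ) (tk : Γ(Dobj π k.unop, V)), (toF π k.unop).app V tk = t := by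
  haveI := nonempty_J π
  haveI := directed_J π
  obtain ⟨N, tN, h⟩ := (sec_colim (Dfun π) (qc_Dobj π) _ (isColimit π) hV).1 t
  exact ⟨op N, tN, h⟩

theorem sys_C2 (V : X.Opens) (hV : IsAffineOpen V) (k : (J π)ᵒᵖ) (ε : Γ(Dobj π k.unop, V))
    (h : (toF π k.unop).app V ε = 0) :
    ∃ (k₁ : (J π)ᵒᵖ) (ψ₁ : k₁ ⟶ k), ∀ (k₂ : (J π)ᵒᵖ) (ψ₂ : k₂ ⟶ k₁),
      (Dmap π (leOfHom (ψ₂ ≫ ψ₁).unop)).app V ε = 0 := by
  haveI := nonempty_J π
  haveI := directed_J π
  obtain ⟨N₁, ψ, hψ⟩ := (sec_colim (Dfun π) (qc_Dobj π) _ (isColimit π) hV).2 k.unop ε h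
  refine ⟨op N₁, ψ.op, fun k₂ ψ₂ => ?_⟩
  have h1 : Dmap π (leOfHom (ψ₂ ≫ ψ.op).unop) =
      Dmap π (leOfHom ψ) ≫ Dmap π (leOfHom ψ₂.unop) := (Dmap_comp π _ _).symm
  rw [h1]
  change (Dmap π (leOfHom ψ₂.unop)).app V ((Dmap π (leOfHom ψ)).app V ε) = 0
  have h2 : (Dmap π (leOfHom ψ)).app V ε = 0 := hψ
  rw [h2, map_zero]

/-- compactness, existence: a map from a f.p. module to `F` lifts to a stage -/
theorem exists_lift (Q : X.Modules) [SheafOfModules.IsFinitePresentation (R := X.ringCatSheaf) Q]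
    (h : Q ⟶ F) : ∃ (N : J π) (h' : Q ⟶ Dobj π N), h' ≫ toF π N = h := by
  haveI := nonempty_J π
  haveI := directed_J π
  obtain ⟨k, hk, hfac⟩ := HomColim.exists_factor Q (K := (J π)ᵒᵖ)
    (fun k => Dobj π k.unop) F (fun ψ => Dmap π (leOfHom ψ.unop)) (fun k => toF π k.unop)
    (fun ψ => Dmap_toF π _) (sys_C1 π) (sys_C2 π) h
  exact ⟨k.unop, hk, hfac⟩

/-- compactness, uniqueness: two lifts agree at a later stage -/
theorem exists_eq (Q : X.Modules) [SheafOfModules.IsFinitePresentation (R := X.ringCatSheaf) Q]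
    (N : J π) (h h' : Q ⟶ Dobj π N) (hh : h ≫ toF π N = h' ≫ toF π N) :
    ∃ (N' : J π) (hle : N ≤ N'), h ≫ Dmap π hle = h' ≫ Dmap π hle := by
  haveI := nonempty_J π
  haveI := directed_J π
  obtain ⟨k₁, ψ₁, h₁⟩ := HomColim.exists_stage_hom_eq Q (K := (J π)ᵒᵖ)
    (fun k => Dobj π k.unop) F (fun ψ => Dmap π (leOfHom ψ.unop)) (fun k => toF π k.unop)
    (sys_C2 π) (op N) h h' hh
  exact ⟨k₁.unop, leOfHom ψ₁.unop, h₁⟩

end SysCompact

end Groth.Agent.Lib.Helper40.QCohColim2
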