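import Groth.Agent.Lib.Helper40.ExtFP3
import Groth.Agent.Lib.Helper40.QCohAb
import Groth.Agent.Lib.Helper21.CohPullback
import Groth.Agent.Lib.Helper35.AbSheaf

set_option autoImplicit false
universe u
open CategoryTheory AlgebraicGeometry

namespace Groth.Agent.Lib.Helper40.QCohSmall
open Limits Opposite TopologicalSpace Groth.Agent.Lib.Helper40 Groth.Agent.Lib.Helper40.ExtFP
  Groth.Agent.Lib.Helper40.SSh Groth.Agent.Lib.Helper40.SSh.SubSh
  Groth.Agent.Lib.Lead.CohAff Groth.Agent.Lib.Helper21.QCohSections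
  Groth.Agent.Lib.Helper35.GlobGen Groth.Agent.Lib.Helper2.KerSec

/-- on an affine scheme, a q.c. module of finite type is a quotient of a free module of finite
rank by a subsheaf: representatives in a small family -/
theorem exists_quot_rep (V : Scheme.{u}) [IsAffine V] (Q : V.Modules) [Q.IsQuasicoherent]
    (hQ : SheafOfModules.IsFiniteType (R := V.ringCatSheaf) Q) :
    ∃ (n : ℕ) (N : SubSh (FlatMod.freeMod V n)) (hN : N.IsLocal),
      (N.toMod hN).IsQuasicoherent ∧ Nonempty (Q ≅ cokernel (N.ι hN)) := by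
  have hV : IsAffineOpen (⊤ : V.Opens) := isAffineOpen_top V
  haveI : Module.Finite Γ(V, ⊤) Γ(Q, ⊤) := finite_sections_of_isFiniteType Q hQ hV
  obtain ⟨r, g, hg⟩ := Module.Finite.exists_fin (R := Γ(V, ⊤)) (M := Γ(Q, ⊤))
  let Fr : V.Modules := FlatMod.freeMod V r
  haveI hFq : Fr.IsQuasicoherent := Groth.Agent.Lib.Helper2.LocFreeAff.freeMod_isQuasicoherent V r
  let α : Fr ⟶ Q := Sigma.desc (fun l : Fin r => secHom Q (g l))
  have hα : ∀ l : Fin r, ∃ e : Γ(Fr, ⊤), α.app ⊤ e = g l := by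
    intro l
    refine ⟨(Sigma.ι (fun _ : Fin r => Coh.structureModule V) l).app ⊤
      (show Γ(Coh.structureModule V, ⊤) from (1 : Γ(V, ⊤))), ?_⟩
    have e1 : Sigma.ι (fun _ : Fin r => Coh.structureModule V) l ≫ α = secHom Q (g l) :=
      Sigma.ι_desc _ _
    have e2 := congrArg (fun φ : Coh.structureModule V ⟶ Q =>
      (Scheme.Modules.Hom.app φ ⊤).hom (show Γ(Coh.structureModule V, ⊤) from (1 : Γ(V, ⊤)))) e1
    refine e2.trans ((secHom_app_one Q (g l) ⊤).trans ?_)
    have : (homOfLE (le_top : (⊤ : V.Opens) ≤ ⊤)).op = 𝟙 (op ⊤) := rfl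
    rw [this, Q.presheaf.map_id]
    rfl
  have hsurj : Function.Surjective (α.app ⊤) := by
    intro t
    have ht : t ∈ Submodule.span Γ(V, ⊤) (Set.range g) := hg ▸ Submodule.mem_top
    induction ht using Submodule.span_induction with
    | mem z hz =>
      obtain ⟨l, rfl⟩ := hz
      exact hα l
    | zero => exact ⟨0, map_zero _⟩
    | add a b _ _ ha hb =>
      obtain ⟨ea, hea⟩ := ha
      obtain ⟨eb, heb⟩ := hb
      exact ⟨ea + eb, by rw [map_add, hea, heb]⟩
    | smul c a _ ha =>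
      obtain ⟨ea, hea⟩ := ha
      refine ⟨c • ea, ?_⟩
      have e1 := (appL α ⊤).map_smul c ea
      simp only [appL_apply] at e1
      rw [e1, hea]
  haveI : Epi α := by
    apply epi_of_affine_cover α {⊤} (fun U hU => by rw [Set.mem_singleton_iff.mp hU]; exact hV)
      (fun x => ⟨⊤, rfl, trivial⟩)
    intro U hU
    rw [Set.mem_singleton_iff.mp hU]
    exact hsurj
  let N : SubSh Fr := ofHom (kernel.ι α)
  have hN : N.IsLocal := isLocal_ofHom (kernel.ι α)
  obtain ⟨e, he⟩ := exists_iso_of_range_eq (N.ι hN) (kernel.ι α)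
    (fun T a => by
      have h1 : N.val hN a ∈ N.obj T := N.val_mem hN a
      obtain ⟨b, hb⟩ := h1
      exact ⟨b, hb.trans (N.ι_app_apply hN a).symm⟩)
    (fun T b => by
      have h1 : (kernel.ι α).app T b ∈ N.obj T := ⟨b, rfl⟩
      exact ⟨N.sec hN ⟨_, h1⟩, (N.ι_app_apply hN _).trans (N.val_sec hN _)⟩)
  let c0 := IsColimit.coconePointUniqueUpToIso
      (Abelian.epiIsCokernelOfKernel (KernelFork.ofι (kernel.ι α) (kernel.condition α))
        (kernelIsKernel α)) (cokernelIsCokernel (kernel.ι α))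
  let c1 : Q ≅ cokernel (kernel.ι α) := c0
  let c2 : cokernel (N.ι hN) ≅ cokernel (kernel.ι α) :=
    cokernel.mapIso (N.ι hN) (kernel.ι α) e (Iso.refl _) (by rw [he]; simp)
  have hKq : (kernel α).IsQuasicoherent :=
    Groth.Agent.Lib.Helper21.QCohKernel.isQuasicoherent_kernel α
  exact ⟨r, N, hN, QCohCoprod.qc_of_iso e.symm hKq, ⟨c1 ≪≫ c2.symm⟩⟩

section Family

variable (X : Scheme.{u}) [CompactSpace X] [QuasiSeparatedSpace X]

theorem exists_cover : ∃ s : Set X.affineOpens, s.Finite ∧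
    (⊤ : X.Opens) = ⨆ a ∈ s, (a : X.Opens) :=
  (isCompact_iff_finite_and_eq_biUnion_affineOpens (U := (⊤ : X.Opens))).1
    (by rw [Opens.coe_top]; exact isCompact_univ)

noncomputable def cov : Set X.affineOpens := (exists_cover X).choose

instance : Finite (cov X) := (exists_cover X).choose_spec.1.to_subtype

theorem cov_spec : (⊤ : X.Opens) = ⨆ a ∈ cov X, (a : X.Opens) := (exists_cover X).choose_spec.2

theorem exists_mem_cov (x : X) : ∃ a : cov X, x ∈ a.1.1 := by
  have hx : x ∈ (⊤ : X.Opens) := trivial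
  rw [cov_spec X] at hx
  obtain ⟨V, hx⟩ := Opens.mem_iSup.mp hx
  obtain ⟨hV, hxV⟩ := Opens.mem_iSup.mp hx
  exact ⟨⟨V, hV⟩, hxV⟩

instance (a : cov X) : IsAffine (a.1.1 : Scheme.{u}) := a.1.2

/-- index for the local data -/
def BIdx : Type u := ∀ a : cov X, Σ n : ℕ,
  {N : SubSh (FlatMod.freeMod (a.1.1 : Scheme.{u}) n) // ∃ hN : N.IsLocal,
    (N.toMod hN).IsQuasicoherent}

variable {X}

noncomputable def Qa (β : BIdx X) (a : cov X) : (a.1.1 : Scheme.{u}).Modules :=
  cokernel ((β a).2.1.ι (β a).2.2.choose)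

instance (β : BIdx X) (a : cov X) : (Qa β a).IsQuasicoherent := by
  haveI := (β a).2.2.choose_spec
  haveI : (FlatMod.freeMod (a.1.1 : Scheme.{u}) (β a).1).IsQuasicoherent :=
    Groth.Agent.Lib.Helper2.LocFreeAff.freeMod_isQuasicoherent _ _
  exact Groth.Agent.Lib.Helper21.QCohKernel.isQuasicoherent_cokernel _

noncomputable def Bfac (β : BIdx X) (a : cov X) : X.Modules :=
  (Scheme.Modules.pushforward a.1.1.ι).obj (Qa β a)

instance (β : BIdx X) (a : cov X) : (Bfac β a).IsQuasicoherent := by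
  haveI := quasiCompact_ι_of_isCompact a.1.1 a.1.2.isCompact
  exact Groth.Agent.Lib.Helper2.KerSec.isQuasicoherent_pushforward_of_qcqs a.1.1.ι _

noncomputable abbrev Bobj (β : BIdx X) : X.Modules := ∏ᶜ fun a : cov X => Bfac β a

instance (β : BIdx X) : (Bobj β).IsQuasicoherent :=
  (QCohCat.isQCoh X).prop_product (fun a => (inferInstance : (Bfac β a).IsQuasicoherent))

theorem isFiniteType_restrict (U : X.Opens) (G : X.Modules)
    [G.IsQuasicoherent] (hG : SheafOfModules.IsFiniteType (R := X.ringCatSheaf) G) :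
    SheafOfModules.IsFiniteType (R := (U : Scheme.{u}).ringCatSheaf) (G.restrict U.ι) := by
  have h1 := Groth.Agent.Lib.Helper21.CohPullback.isFiniteType_pullback U.ι G hG
  let e : (Scheme.Modules.restrictFunctor U.ι).obj G ≅ (Scheme.Modules.pullback U.ι).obj G :=
    (Scheme.Modules.restrictFunctorIsoPullback U.ι).app G
  exact Groth.Agent.Lib.Helper21.CohNoeth.isFiniteType_of_epi e.inv h1

open Groth.Agent.Lib.Helper35.AbSheaf in
theorem exists_embedding (G : X.Modules) [G.IsQuasicoherent]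
    (hG : SheafOfModules.IsFiniteType (R := X.ringCatSheaf) G) :
    ∃ (β : BIdx X) (m : G ⟶ Bobj β), Mono m := by
  have hex : ∀ a : cov X, ∃ (n : ℕ) (N : SubSh (FlatMod.freeMod (a.1.1 : Scheme.{u}) n))
      (hN : N.IsLocal), (N.toMod hN).IsQuasicoherent ∧
        Nonempty (G.restrict a.1.1.ι ≅ cokernel (N.ι hN)) := fun a =>
    exists_quot_rep (a.1.1 : Scheme.{u}) (G.restrict a.1.1.ι) (isFiniteType_restrict a.1.1 G hG)
  choose n N hN hq hiso using hex
  let β : BIdx X := fun a => ⟨n a, N a, hN a, hq a⟩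
  let iso : ∀ a : cov X, G.restrict a.1.1.ι ≅ Qa β a := fun a => (hiso a).some
  let P : ∀ a : cov X, (HV a.1.1).obj G ≅ Bfac β a := fun a =>
    (Scheme.Modules.pushforward a.1.1.ι).mapIso (iso a)
  let ma : ∀ a : cov X, G ⟶ Bfac β a := fun a => ηV a.1.1 G ≫ (P a).hom
  refine ⟨β, Pi.lift ma, ?_⟩
  apply Preadditive.mono_of_cancel_zero
  intro Z h hh
  have h1 : ∀ a : cov X, h ≫ ηV a.1.1 G = 0 := by
    intro a
    have h2 : h ≫ ma a = 0 := by
      have := congr($hh ≫ Pi.π (fun a : cov X => Bfac β a) a)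
      rw [Category.assoc, Pi.lift_π, zero_comp] at this
      exact this
    have h3 : (h ≫ ηV a.1.1 G) ≫ (P a).hom = 0 ≫ (P a).hom := by
      rw [Category.assoc, zero_comp]
      exact h2
    exact (cancel_mono (P a).hom).1 h3
  apply Scheme.Modules.hom_ext
  intro T
  ext t
  change h.app T t = 0
  refine ext_cover G.presheaf G.isSheaf
    (fun a : cov X => a.1.1.ι ''ᵁ (a.1.1.ι ⁻¹ᵁ T)) (fun a => a.1.1.ι.image_preimage_le T) ?_ _ _
    (fun a => ?_)
  · intro x hx
    obtain ⟨a, ha⟩ := exists_mem_cov X x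
    exact Opens.mem_iSup.mpr ⟨a, (Groth.Agent.Lib.Helper26.ModMV.mem_FW a.1.1 T x).2 ⟨ha, hx⟩⟩
  · rw [map_zero]
    have h5 := congr($(congrArg (fun φ : Z ⟶ (HV a.1.1).obj G => φ.app T) (h1 a)) t)
    exact h5

variable (X) in
def GIdx : Type u := Σ β : BIdx X,
  {N : SubSh (Bobj β) // ∃ hN : N.IsLocal, (N.toMod hN).IsQuasicoherent}

noncomputable def Gobj (i : GIdx X) : QCohCat.QCoh X :=
  ⟨i.2.1.toMod i.2.2.choose, i.2.2.choose_spec⟩

variable (X) in
def famP : ObjectProperty (QCohCat.QCoh X) := fun A => ∃ i : GIdx X, Gobj i = A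

instance : ObjectProperty.Small.{u} (famP X) :=
  small_of_surjective (f := fun i : GIdx X => (⟨Gobj i, i, rfl⟩ : Subtype (famP X)))
    (by rintro ⟨A, i, rfl⟩; exact ⟨i, rfl⟩)

theorem exists_rep (G : X.Modules) [G.IsQuasicoherent]
    (hG : SheafOfModules.IsFiniteType (R := X.ringCatSheaf) G) :
    ∃ i : GIdx X, Nonempty ((Gobj i).obj ≅ G) := by
  obtain ⟨β, m, hm⟩ := exists_embedding G hG
  let N : SubSh (Bobj β) := ofHom m
  have hN : N.IsLocal := isLocal_ofHom m
  obtain ⟨e, he⟩ := exists_iso_of_range_eq (N.ι hN) m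
    (fun T a => by
      have h1 : N.val hN a ∈ N.obj T := N.val_mem hN a
      obtain ⟨b, hb⟩ := h1
      exact ⟨b, hb.trans (N.ι_app_apply hN a).symm⟩)
    (fun T b => by
      have h1 : m.app T b ∈ N.obj T := ⟨b, rfl⟩
      exact ⟨N.sec hN ⟨_, h1⟩, (N.ι_app_apply hN _).trans (N.val_sec hN _)⟩)
  have hq : (N.toMod hN).IsQuasicoherent := QCohCoprod.qc_of_iso e.symm inferInstance
  exact ⟨⟨β, N, hN, hq⟩, ⟨e⟩⟩

end Family

end Groth.Agent.Lib.Helper40.QCohSmall
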