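import Groth.Agent.Lib.Helper40.SubSh1
import Groth.Agent.Lib.Helper40.QCohLim

/-!
# Sectionwise subsheaves: ranges of morphisms, and extension by closure from an open subscheme
-/

set_option autoImplicit false
universe u

open AlgebraicGeometry CategoryTheory Opposite TopologicalSpace Limits

namespace Groth.Agent.Lib.Helper40.SSh

open Groth.Agent.Lib.Lead.QCohAff Groth.Agent.Lib.Helper40.QCohLim

set_option backward.isDefEq.respectTransparency.types false

namespace SubSh

section OfHom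

variable {Y : Scheme.{u}} {G F' : Y.Modules}

/-- The sectionwise range of a morphism. -/
def ofHom (i : G ⟶ F') : SubSh F' where
  obj T :=
    { carrier := Set.range (i.app T)
      add_mem' := by
        rintro _ _ ⟨a, rfl⟩ ⟨b, rfl⟩
        exact ⟨a + b, map_add _ _ _⟩
      zero_mem' := ⟨0, map_zero _⟩
      smul_mem' := by
        rintro r _ ⟨a, rfl⟩
        exact ⟨r • a, Scheme.Modules.Hom.app_smul i r a⟩ }
  res_mem := by
    intro T T' h s hs
    obtain ⟨a, rfl⟩ := hs
    exact ⟨_, app_res i h a⟩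

theorem mem_ofHom (i : G ⟶ F') {T : Y.Opens} (s : Γ(F', T)) :
    s ∈ (ofHom i).obj T ↔ ∃ a : Γ(G, T), i.app T a = s := Iff.rfl

theorem isLocal_ofHom (i : G ⟶ F') [Mono i] : (ofHom i).IsLocal := by
  intro T s hs
  choose T' hT' hxT' a ha using hs
  -- glue the `a x`
  let Gs : TopCat.Sheaf Ab Y := ⟨G.presheaf, G.isSheaf⟩
  let Fs : TopCat.Sheaf Ab Y := ⟨F'.presheaf, F'.isSheaf⟩
  have hcov : T ≤ ⨆ x : T, T' x.1 x.2 := fun x hx => Opens.mem_iSup.2 ⟨⟨x, hx⟩, hxT' x hx⟩
  have hcompat : TopCat.Presheaf.IsCompatible Gs.1 (fun x : T => T' x.1 x.2)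
      (fun x => a x.1 x.2) := by
    intro x y
    apply app_injective_of_mono i
    have h1 := app_res i (inf_le_left : T' x.1 x.2 ⊓ T' y.1 y.2 ≤ T' x.1 x.2) (a x.1 x.2)
    have h2 := app_res i (inf_le_right : T' x.1 x.2 ⊓ T' y.1 y.2 ≤ T' y.1 y.2) (a y.1 y.2)
    refine (h1.trans ?_).trans h2.symm
    rw [ha x.1 x.2, ha y.1 y.2, res_res, res_res]
  obtain ⟨g, hg, -⟩ := Gs.existsUnique_gluing' (fun x : T => T' x.1 x.2) T
    (fun x => homOfLE (hT' x.1 x.2)) hcov (fun x => a x.1 x.2) hcompat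
  refine ⟨g, ?_⟩
  apply Fs.eq_of_locally_eq' (fun x : T => T' x.1 x.2) T (fun x => homOfLE (hT' x.1 x.2)) hcov
  intro x
  have h1 := app_res i (hT' x.1 x.2) g
  have h2 := hg x
  change G.presheaf.map (homOfLE (hT' x.1 x.2)).op g = a x.1 x.2 at h2
  rw [h2, ha x.1 x.2] at h1
  exact h1.symm

theorem qcOn_ofHom (i : G ⟶ F') [G.IsQuasicoherent] {V : Y.Opens} (hV : IsAffineOpen V) :
    (ofHom i).QCOn V := by
  rintro f _ ⟨t', rfl⟩
  obtain ⟨n, s', hs'⟩ := exists_res_eq_pow_smul G hV f t'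
  refine ⟨n, i.app V s', ⟨s', rfl⟩, ?_⟩
  rw [← app_res, hs', Scheme.Modules.Hom.app_smul]

theorem fg_ofHom (i : G ⟶ F') {V : Y.Opens} (hfin : Module.Finite Γ(Y, V) Γ(G, V)) :
    ((ofHom i).obj V).FG := by
  obtain ⟨S, hS⟩ := Module.finite_def.1 hfin
  classical
  refine ⟨S.image (i.app V), ?_⟩
  apply le_antisymm
  · rw [Submodule.span_le]
    intro y hy
    simp only [Finset.coe_image, Set.mem_image] at hy
    obtain ⟨a, -, rfl⟩ := hy
    exact ⟨a, rfl⟩
  · rintro _ ⟨a, rfl⟩
    have ha : a ∈ Submodule.span Γ(Y, V) (S : Set Γ(G, V)) := hS ▸ Submodule.mem_top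
    induction ha using Submodule.span_induction with
    | mem x hx =>
      apply Submodule.subset_span
      simp only [Finset.coe_image, Set.mem_image]
      exact ⟨x, hx, rfl⟩
    | zero => rw [map_zero]; exact Submodule.zero_mem _
    | add x y _ _ hx hy => rw [map_add]; exact Submodule.add_mem _ hx hy
    | smul r x _ hx =>
      rw [Scheme.Modules.Hom.app_smul]
      exact Submodule.smul_mem _ _ hx

end OfHom

section Push

variable {X : Scheme.{u}} {F : X.Modules} (U : X.Opens)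

/-- A section of `F` over `U.ι ''ᵁ T'`, seen as a section of the restriction. -/
def rsec (T' : U.toScheme.Opens) (y : Γ(F, U.ι ''ᵁ T')) : Γ(F.restrict U.ι, T') := y

theorem rsec_add (T' : U.toScheme.Opens) (y z : Γ(F, U.ι ''ᵁ T')) :
    rsec U T' (y + z) = rsec U T' y + rsec U T' z := rfl

theorem rsec_zero (T' : U.toScheme.Opens) : rsec U T' (0 : Γ(F, U.ι ''ᵁ T')) = 0 := rfl

theorem rsec_smul (T' : U.toScheme.Opens) (r : Γ(X, U.ι ''ᵁ T')) (y : Γ(F, U.ι ''ᵁ T')) :
    rsec U T' (r • y) = (show Γ(U, T') from r) • rsec U T' y := by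
  change r • y = ((U.ι.appIso T').inv r) • y
  rw [Scheme.Opens.ι_appIso]
  rfl

theorem rsec_res {T' T'' : U.toScheme.Opens} (h : T'' ≤ T') (y : Γ(F, U.ι ''ᵁ T')) :
    rsec U T'' (F.presheaf.map (homOfLE (U.ι.image_mono h)).op y) =
      (F.restrict U.ι).presheaf.map (homOfLE h).op (rsec U T' y) := rfl

/-- Extension by closure: sections of `F` all of whose restrictions to opens of `U` lie in `N'`. -/
def push (N' : SubSh (F.restrict U.ι)) : SubSh F where
  obj T :=
    { carrier := {s | ∀ (T' : U.toScheme.Opens) (h : U.ι ''ᵁ T' ≤ T),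
          rsec U T' (F.presheaf.map (homOfLE h).op s) ∈ N'.obj T'}
      add_mem' := by
        intro a b ha hb T' h
        rw [map_add, rsec_add]
        exact (N'.obj T').add_mem (ha T' h) (hb T' h)
      zero_mem' := by
        intro T' h
        rw [map_zero, rsec_zero]
        exact (N'.obj T').zero_mem
      smul_mem' := by
        intro r s hs T' h
        rw [res_smul, rsec_smul]
        exact (N'.obj T').smul_mem _ (hs T' h) }
  res_mem := by
    intro T T2 h s hs T' h'
    rw [res_res]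
    exact hs T' (h'.trans h)

theorem mem_push (N' : SubSh (F.restrict U.ι)) {T : X.Opens} (s : Γ(F, T)) :
    s ∈ (push U N').obj T ↔ ∀ (T' : U.toScheme.Opens) (h : U.ι ''ᵁ T' ≤ T),
      rsec U T' (F.presheaf.map (homOfLE h).op s) ∈ N'.obj T' := Iff.rfl

theorem mem_push_image (N' : SubSh (F.restrict U.ι)) (T' : U.toScheme.Opens)
    (s : Γ(F, U.ι ''ᵁ T')) :
    s ∈ (push U N').obj (U.ι ''ᵁ T') ↔ rsec U T' s ∈ N'.obj T' := by
  constructor
  · intro h
    have := h T' le_rfl
    rwa [res_self] at this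
  · intro h T'' h''
    have hle : T'' ≤ T' := (U.ι.image_le_image_iff _ _).1 h''
    exact N'.res_mem hle h

theorem isLocal_push (N' : SubSh (F.restrict U.ι)) (hN' : N'.IsLocal) : (push U N').IsLocal := by
  intro T s hs T' h
  apply hN'
  intro x' hx'
  have hx : (U.ι x' : X) ∈ T := h ⟨x', hx', rfl⟩
  obtain ⟨T1, hT1, hxT1, hmem⟩ := hs _ hx
  refine ⟨T' ⊓ U.ι ⁻¹ᵁ T1, inf_le_left, ⟨hx', hxT1⟩, ?_⟩
  have h2 : U.ι ''ᵁ (T' ⊓ U.ι ⁻¹ᵁ T1) ≤ T1 := by
    rintro _ ⟨y, hy, rfl⟩
    exact hy.2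
  have := hmem _ h2
  rw [res_res] at this
  rw [← rsec_res, res_res]
  exact this

theorem push_closed (N' : SubSh (F.restrict U.ι)) {T : X.Opens} (s : Γ(F, T))
    (h : F.presheaf.map (homOfLE (inf_le_left : T ⊓ U ≤ T)).op s ∈ (push U N').obj (T ⊓ U)) :
    s ∈ (push U N').obj T := by
  intro T' h'
  have h2 : U.ι ''ᵁ T' ≤ T ⊓ U := le_inf h' (U.ι_image_le T')
  have := h T' h2
  rwa [res_res] at this

theorem image_basicOpen_eq (V' : U.toScheme.Opens) (f : Γ(X, U.ι ''ᵁ V')) :
    U.ι ''ᵁ (U.toScheme.basicOpen (show Γ(U, V') from f)) = X.basicOpen f := by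
  ext x
  constructor
  · rintro ⟨y, hy, rfl⟩
    exact Scheme.Opens.mem_basicOpen_toScheme.1 hy
  · intro hx
    have hxU : x ∈ U := U.ι_image_le V' (X.basicOpen_le f hx)
    exact ⟨⟨x, hxU⟩, Scheme.Opens.mem_basicOpen_toScheme.2 hx, rfl⟩

theorem qcOn_push (N' : SubSh (F.restrict U.ι)) {V' : U.toScheme.Opens} (hq : N'.QCOn V') :
    (push U N').QCOn (U.ι ''ᵁ V') := by
  intro f t ht
  have hD := image_basicOpen_eq U V' f
  have ht' := ht (U.toScheme.basicOpen (show Γ(U, V') from f)) hD.le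
  obtain ⟨n, s', hs', h⟩ := hq (show Γ(U, V') from f) _ ht'
  refine ⟨n, s', (mem_push_image U N' V' s').2 hs', ?_⟩
  apply res_injective_of_eq F hD
  rw [res_res, res_smul, map_pow, res_resX]
  have h3 := congrArg (fun z : Γ(F.restrict U.ι, U.toScheme.basicOpen (show Γ(U, V') from f)) =>
    (show Γ(F, U.ι ''ᵁ (U.toScheme.basicOpen (show Γ(U, V') from f))) from z)) h
  refine Eq.trans ?_ (h3.trans ?_)
  · rfl
  · change rsec U _ _ = _
    rw [← rsec_smul]
    rfl

theorem fg_push (N' : SubSh (F.restrict U.ι)) {V' : U.toScheme.Opens} (h : (N'.obj V').FG) :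
    ((push U N').obj (U.ι ''ᵁ V')).FG := by
  obtain ⟨S, hS⟩ := h
  let S' : Finset Γ(F, U.ι ''ᵁ V') := S
  refine ⟨S', ?_⟩
  apply le_antisymm
  · rw [Submodule.span_le]
    intro y hy
    apply (mem_push_image U N' V' y).2
    rw [← hS]
    exact Submodule.subset_span hy
  · intro y hy
    have hy' : rsec U V' y ∈ Submodule.span Γ(U, V') (S : Set Γ(F.restrict U.ι, V')) := by
      rw [hS]
      exact (mem_push_image U N' V' y).1 hy
    have key : ∀ z : Γ(F.restrict U.ι, V'),
        z ∈ Submodule.span Γ(U, V') (S : Set Γ(F.restrict U.ι, V')) →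
        (show Γ(F, U.ι ''ᵁ V') from z) ∈
          Submodule.span Γ(X, U.ι ''ᵁ V') (S' : Set Γ(F, U.ι ''ᵁ V')) := by
      intro z hz
      induction hz using Submodule.span_induction with
      | mem x hx => exact Submodule.subset_span hx
      | zero => exact Submodule.zero_mem _
      | add x z _ _ hx hz => exact Submodule.add_mem _ hx hz
      | smul r x _ hx =>
        have h1 := Submodule.smul_mem _ (show Γ(X, U.ι ''ᵁ V') from r) hx
        have h2 := rsec_smul U V' (show Γ(X, U.ι ''ᵁ V') from r)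
          (show Γ(F, U.ι ''ᵁ V') from x)
        have h3 : (show Γ(F, U.ι ''ᵁ V') from r • x) =
            (show Γ(X, U.ι ''ᵁ V') from r) • (show Γ(F, U.ι ''ᵁ V') from x) := h2.symm
        rw [h3]
        exact h1
    exact key _ hy'

end Push

end SubSh

end Groth.Agent.Lib.Helper40.SSh
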