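import Groth.Agent.Lib.Helper40.SubSh1

/-!
# The subsheaf generated by a submodule of sections over an affine open
-/

set_option autoImplicit false
universe u

open AlgebraicGeometry CategoryTheory Opposite TopologicalSpace Limits

namespace Groth.Agent.Lib.Helper40.SSh

open Groth.Agent.Lib.Lead.QCohAff

set_option backward.isDefEq.respectTransparency.types false

variable {X : Scheme.{u}} {F : X.Modules}

/-- The span of the restrictions of a set of sections. -/
noncomputable def ext {T : X.Opens} (S : Set Γ(F, T)) (T' : X.Opens) (h : T' ≤ T) :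
    Submodule Γ(X, T') Γ(F, T') :=
  Submodule.span Γ(X, T') ((fun m => F.presheaf.map (homOfLE h).op m) '' S)

theorem ext_res {T T' T'' : X.Opens} (S : Set Γ(F, T)) (h : T' ≤ T) (h' : T'' ≤ T')
    {y : Γ(F, T')} (hy : y ∈ ext S T' h) :
    F.presheaf.map (homOfLE h').op y ∈ ext S T'' (h'.trans h) := by
  induction hy using Submodule.span_induction with
  | mem z hz =>
    obtain ⟨m, hm, rfl⟩ := hz
    rw [res_res]
    exact Submodule.subset_span ⟨m, hm, rfl⟩
  | zero => rw [map_zero]; exact Submodule.zero_mem _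
  | add a b _ _ ha hb => rw [map_add]; exact Submodule.add_mem _ ha hb
  | smul r a _ ha => rw [res_smul]; exact Submodule.smul_mem _ _ ha

theorem ext_le_ext_ext {T T' T'' : X.Opens} (S : Set Γ(F, T)) (h : T' ≤ T) (h' : T'' ≤ T') :
    ext S T'' (h'.trans h) ≤ ext (ext S T' h : Set Γ(F, T')) T'' h' := by
  apply Submodule.span_le.2
  rintro _ ⟨m, hm, rfl⟩
  apply Submodule.subset_span
  refine ⟨F.presheaf.map (homOfLE h).op m, Submodule.subset_span ⟨m, hm, rfl⟩, ?_⟩
  exact res_res F h h' m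

theorem ext_le_of_mem (P : SubSh F) {T T' : X.Opens} (S : Set Γ(F, T)) (h : T' ≤ T)
    (hS : ∀ m ∈ S, m ∈ P.obj T) : ext S T' h ≤ P.obj T' := by
  apply Submodule.span_le.2
  rintro _ ⟨m, hm, rfl⟩
  exact P.res_mem h (hS m hm)

namespace SubSh

/-- The subsheaf of `F` generated over `V` by a set `M` of sections over `V` (no condition
outside `V`). -/
noncomputable def gen (V : X.Opens) (M : Set Γ(F, V)) : SubSh F where
  obj T :=
    { carrier := {s | ∀ x, x ∈ T → x ∈ V → ∃ (T' : X.Opens) (h1 : T' ≤ T) (h2 : T' ≤ V),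
          x ∈ T' ∧ F.presheaf.map (homOfLE h1).op s ∈ ext M T' h2}
      add_mem' := by
        intro a b ha hb x hxT hxV
        obtain ⟨Ta, h1a, h2a, hxa, hma⟩ := ha x hxT hxV
        obtain ⟨Tb, h1b, h2b, hxb, hmb⟩ := hb x hxT hxV
        refine ⟨Ta ⊓ Tb, inf_le_left.trans h1a, inf_le_left.trans h2a, ⟨hxa, hxb⟩, ?_⟩
        rw [map_add]
        apply Submodule.add_mem
        · have := ext_res M h2a (inf_le_left : Ta ⊓ Tb ≤ Ta) hma
          rwa [res_res] at this
        · have := ext_res M h2b (inf_le_right : Ta ⊓ Tb ≤ Tb) hmb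
          rwa [res_res] at this
      zero_mem' := by
        intro x hxT hxV
        refine ⟨T ⊓ V, inf_le_left, inf_le_right, ⟨hxT, hxV⟩, ?_⟩
        rw [map_zero]
        exact Submodule.zero_mem _
      smul_mem' := by
        intro r s hs x hxT hxV
        obtain ⟨T', h1, h2, hx, hm⟩ := hs x hxT hxV
        refine ⟨T', h1, h2, hx, ?_⟩
        rw [res_smul]
        exact Submodule.smul_mem _ _ hm }
  res_mem := by
    intro T T2 h s hs x hxT2 hxV
    obtain ⟨T', h1, h2, hx, hm⟩ := hs x (h hxT2) hxV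
    refine ⟨T' ⊓ T2, inf_le_right, inf_le_left.trans h2, ⟨hx, hxT2⟩, ?_⟩
    rw [res_res]
    have := ext_res M h2 (inf_le_left : T' ⊓ T2 ≤ T') hm
    rwa [res_res] at this

theorem mem_gen (V : X.Opens) (M : Set Γ(F, V)) {T : X.Opens} (s : Γ(F, T)) :
    s ∈ (gen V M).obj T ↔ ∀ x, x ∈ T → x ∈ V → ∃ (T' : X.Opens) (h1 : T' ≤ T) (h2 : T' ≤ V),
      x ∈ T' ∧ F.presheaf.map (homOfLE h1).op s ∈ ext M T' h2 := Iff.rfl

theorem isLocal_gen (V : X.Opens) (M : Set Γ(F, V)) : (gen V M).IsLocal := by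
  intro T s hs x hxT hxV
  obtain ⟨T1, hT1, hxT1, hmem⟩ := hs x hxT
  obtain ⟨T', h1, h2, hx, hm⟩ := hmem x hxT1 hxV
  refine ⟨T', h1.trans hT1, h2, hx, ?_⟩
  rwa [res_res] at hm

theorem gen_closed (V : X.Opens) (M : Set Γ(F, V)) {T : X.Opens} (s : Γ(F, T))
    (h : F.presheaf.map (homOfLE (inf_le_left : T ⊓ V ≤ T)).op s ∈ (gen V M).obj (T ⊓ V)) :
    s ∈ (gen V M).obj T := by
  intro x hxT hxV
  obtain ⟨T', h1, h2, hx, hm⟩ := h x ⟨hxT, hxV⟩ hxV
  refine ⟨T', h1.trans inf_le_left, h2, hx, ?_⟩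
  rwa [res_res] at hm

theorem subset_gen (V : X.Opens) (M : Set Γ(F, V)) {m : Γ(F, V)} (hm : m ∈ M) :
    m ∈ (gen V M).obj V := by
  intro x hx _
  exact ⟨V, le_rfl, le_rfl, hx, Submodule.subset_span ⟨m, hm, rfl⟩⟩

theorem gen_le (V : X.Opens) (M : Set Γ(F, V)) (P : SubSh F) (hP : P.IsLocal)
    (hM : ∀ m ∈ M, m ∈ P.obj V) {T : X.Opens} (hT : T ≤ V) :
    (gen V M).obj T ≤ P.obj T := by
  intro s hs
  apply hP
  intro x hx
  obtain ⟨T', h1, h2, hxT', hm⟩ := hs x hx (hT hx)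
  exact ⟨T', h1, hxT', ext_le_of_mem P M h2 hM hm⟩

end SubSh

/-- Clearing denominators on a basic open of an affine open. -/
theorem clear_denom {W : X.Opens} (hW : IsAffineOpen W) (g : Γ(X, W))
    (M' : Submodule Γ(X, W) Γ(F, W)) {y : Γ(F, X.basicOpen g)}
    (hy : y ∈ ext (M' : Set Γ(F, W)) (X.basicOpen g) (X.basicOpen_le g)) :
    ∃ (k : ℕ) (m' : Γ(F, W)), m' ∈ M' ∧
      F.presheaf.map (homOfLE (X.basicOpen_le g)).op m' =
        (X.presheaf.map (homOfLE (X.basicOpen_le g)).op g) ^ k • y := by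
  induction hy using Submodule.span_induction with
  | mem z hz =>
    obtain ⟨m, hm, rfl⟩ := hz
    exact ⟨0, m, hm, by simp⟩
  | zero => exact ⟨0, 0, M'.zero_mem, by simp⟩
  | add a b _ _ ha hb =>
    obtain ⟨k1, m1, hm1, h1⟩ := ha
    obtain ⟨k2, m2, hm2, h2⟩ := hb
    refine ⟨k1 + k2, g ^ k2 • m1 + g ^ k1 • m2,
      M'.add_mem (M'.smul_mem _ hm1) (M'.smul_mem _ hm2), ?_⟩
    rw [map_add, res_smul, res_smul, h1, h2, map_pow, map_pow, smul_add, smul_smul, smul_smul,
      ← pow_add, ← pow_add, add_comm k2 k1]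
  | smul a z _ hz =>
    obtain ⟨k, m, hm, h⟩ := hz
    haveI := hW.isLocalization_basicOpen g
    obtain ⟨n, b, hb⟩ := IsLocalization.Away.surj g a
    have hb' : a * (X.presheaf.map (homOfLE (X.basicOpen_le g)).op g) ^ n =
        X.presheaf.map (homOfLE (X.basicOpen_le g)).op b := hb
    refine ⟨n + k, b • m, M'.smul_mem _ hm, ?_⟩
    rw [res_smul, h, smul_smul, smul_smul, ← hb', pow_add]
    congr 1
    ring

/-- Local-to-global membership in a submodule of sections of a quasi-coherent module over an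
affine open. -/
theorem mem_of_locally_mem [F.IsQuasicoherent] {W : X.Opens} (hW : IsAffineOpen W)
    (M' : Submodule Γ(X, W) Γ(F, W)) (t : Γ(F, W))
    (h : ∀ x ∈ W, ∃ g : Γ(X, W), x ∈ X.basicOpen g ∧
      F.presheaf.map (homOfLE (X.basicOpen_le g)).op t ∈
        ext (M' : Set Γ(F, W)) (X.basicOpen g) (X.basicOpen_le g)) : t ∈ M' := by
  choose g hxg hmem using h
  have key : ∀ x (hx : x ∈ W), ∃ N : ℕ, (g x hx) ^ N • t ∈ M' := by
    intro x hx
    obtain ⟨k, m', hm', hk⟩ := clear_denom hW (g x hx) M' (hmem x hx)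
    have h0 : F.presheaf.map (homOfLE (X.basicOpen_le (g x hx))).op (m' - (g x hx) ^ k • t) = 0 := by
      rw [map_sub, res_smul, map_pow, hk, sub_self]
    obtain ⟨n, hn⟩ := exists_pow_smul_eq_zero F hW (g x hx) _ h0
    refine ⟨n + k, ?_⟩
    rw [smul_sub, sub_eq_zero, smul_smul, ← pow_add] at hn
    rw [← hn]
    exact M'.smul_mem _ hm'
  let s : Set Γ(X, W) := Set.range (fun x : W => g x.1 x.2)
  have hspan : Ideal.span s = ⊤ := by
    apply hW.self_le_iSup_basicOpen_iff.1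
    intro x hx
    exact Opens.mem_iSup.2 ⟨⟨g x hx, ⟨⟨x, hx⟩, rfl⟩⟩, hxg x hx⟩
  refine Submodule.mem_of_span_eq_top_of_smul_pow_mem M' s hspan t ?_
  rintro ⟨_, ⟨x, rfl⟩⟩
  exact key x.1 x.2

namespace SubSh

/-- Key lemma: sections of `gen V M` over a basic open of the affine `V` are fractions of
elements of `M`. -/
theorem gen_basicOpen [F.IsQuasicoherent] {V : X.Opens} (hV : IsAffineOpen V)
    (M : Submodule Γ(X, V) Γ(F, V)) (f : Γ(X, V)) {t : Γ(F, X.basicOpen f)}
    (ht : t ∈ (gen V (M : Set Γ(F, V))).obj (X.basicOpen f)) :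
    ∃ (k : ℕ) (m : Γ(F, V)), m ∈ M ∧
      F.presheaf.map (homOfLE (X.basicOpen_le f)).op m =
        (X.presheaf.map (homOfLE (X.basicOpen_le f)).op f) ^ k • t := by
  apply clear_denom hV f M
  have hW : IsAffineOpen (X.basicOpen f) := hV.basicOpen f
  apply mem_of_locally_mem hW (ext (M : Set Γ(F, V)) (X.basicOpen f) (X.basicOpen_le f)) t
  intro x hx
  obtain ⟨T', h1, h2, hxT', hm⟩ := ht x hx (X.basicOpen_le f hx)
  obtain ⟨g, hg, hxg⟩ := hW.exists_basicOpen_le (V := T') ⟨x, hxT'⟩ hx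
  refine ⟨g, hxg, ?_⟩
  have := ext_res (M : Set Γ(F, V)) h2 hg hm
  rw [res_res] at this
  exact ext_le_ext_ext (M : Set Γ(F, V)) (X.basicOpen_le f) (X.basicOpen_le g) this

theorem qcOn_gen [F.IsQuasicoherent] {V : X.Opens} (hV : IsAffineOpen V)
    (M : Submodule Γ(X, V) Γ(F, V)) : (gen V (M : Set Γ(F, V))).QCOn V := by
  intro f t ht
  obtain ⟨k, m, hm, h⟩ := gen_basicOpen hV M f ht
  exact ⟨k, m, subset_gen V _ hm, h⟩

theorem gen_obj_self [F.IsQuasicoherent] {V : X.Opens} (hV : IsAffineOpen V)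
    (M : Submodule Γ(X, V) Γ(F, V)) : (gen V (M : Set Γ(F, V))).obj V = M := by
  apply le_antisymm
  · intro s hs
    have h1 : X.basicOpen (1 : Γ(X, V)) = V := X.basicOpen_one
    obtain ⟨k, m, hm, h⟩ := gen_basicOpen hV M 1 ((gen V (M : Set Γ(F, V))).res_mem h1.le hs)
    rw [map_one, one_pow, one_smul] at h
    have := res_injective_of_eq F h1 h
    rwa [← this]
  · intro m hm
    exact subset_gen V _ hm

end SubSh

end Groth.Agent.Lib.Helper40.SSh
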