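import Groth.Agent.Lib.Helper40.SubSh3

/-!
# The affine extension step (EGA I 9.4.7, affine case) in sectionwise form
-/

set_option autoImplicit false
universe u

open AlgebraicGeometry CategoryTheory Opposite TopologicalSpace Limits

namespace Groth.Agent.Lib.Helper40.SSh

open Groth.Agent.Lib.Lead.QCohAff

set_option backward.isDefEq.respectTransparency.types false

variable {X : Scheme.{u}} {F : X.Modules}

theorem res_mem_span {T T' : X.Opens} (h : T' ≤ T) (S : Set Γ(F, T)) {p : Γ(F, T)}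
    (hp : p ∈ Submodule.span Γ(X, T) S) :
    F.presheaf.map (homOfLE h).op p ∈ ext S T' h := by
  induction hp using Submodule.span_induction with
  | mem z hz => exact Submodule.subset_span ⟨z, hz, rfl⟩
  | zero => rw [map_zero]; exact Submodule.zero_mem _
  | add a b _ _ ha hb => rw [map_add]; exact Submodule.add_mem _ ha hb
  | smul r a _ ha => rw [res_smul]; exact Submodule.smul_mem _ _ ha

theorem mem_of_pow_smul_mem_basicOpen {V : X.Opens} (g : Γ(X, V))
    (N : Submodule Γ(X, X.basicOpen g) Γ(F, X.basicOpen g)) {n : ℕ} {t : Γ(F, X.basicOpen g)}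
    (h : (X.presheaf.map (homOfLE (X.basicOpen_le g)).op g) ^ n • t ∈ N) : t ∈ N := by
  obtain ⟨u, hu⟩ := isUnit_res_basicOpen g
  rw [← hu] at h
  have h2 := N.smul_mem ((↑(u⁻¹ ^ n) : Γ(X, X.basicOpen g))) h
  rwa [smul_smul, ← Units.val_pow_eq_pow_val, ← Units.val_mul, inv_pow, inv_mul_cancel,
    Units.val_one, one_smul] at h2

namespace SubSh

theorem fg_basicOpen (P : SubSh F) {V' : X.Opens} (hq : P.QCOn V') (hfg : (P.obj V').FG)
    (f' : Γ(X, V')) : (P.obj (X.basicOpen f')).FG := by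
  obtain ⟨S, hS⟩ := hfg
  classical
  refine ⟨S.image (fun m => F.presheaf.map (homOfLE (X.basicOpen_le f')).op m), ?_⟩
  rw [Finset.coe_image]
  apply le_antisymm
  · exact ext_le_of_mem P (S : Set Γ(F, V')) (X.basicOpen_le f')
      (fun m hm => hS ▸ Submodule.subset_span hm)
  · intro t ht
    obtain ⟨n, p, hp, h⟩ := hq f' t ht
    have hp' : p ∈ Submodule.span Γ(X, V') (S : Set Γ(F, V')) := hS ▸ hp
    have := res_mem_span (X.basicOpen_le f') (S : Set Γ(F, V')) hp'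
    rw [h] at this
    exact mem_of_pow_smul_mem_basicOpen f' _ this

/-- A local `SubSh` of a quasi-coherent module, closed relative to `V ⊓ O` (quasi-compact) and
quasi-coherent on an affine cover of `V ⊓ O`, is quasi-coherent on the affine `V`. -/
theorem qcOn_of_closed [F.IsQuasicoherent] (P : SubSh F) (hP : P.IsLocal) {V : X.Opens}
    (hV : IsAffineOpen V) (O : X.Opens) (hc : IsCompact ((V ⊓ O : X.Opens) : Set X))
    (hclos : ∀ s : Γ(F, V),
      F.presheaf.map (homOfLE (inf_le_left : V ⊓ O ≤ V)).op s ∈ P.obj (V ⊓ O) → s ∈ P.obj V)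
    (hQ : ∀ x ∈ V ⊓ O, ∃ V' : X.Opens, IsAffineOpen V' ∧ x ∈ V' ∧ V' ≤ V ⊓ O ∧ P.QCOn V') :
    P.QCOn V := by
  intro f t ht
  obtain ⟨n0, s0, hs0⟩ := exists_res_eq_pow_smul F hV f t
  choose V' hV'aff hxV' hV'le hV'q using hQ
  have key : ∀ x (hx : x ∈ V ⊓ O), ∃ N : ℕ, ∀ N', N ≤ N' →
      F.presheaf.map (homOfLE ((hV'le x hx).trans inf_le_left)).op (f ^ N' • s0) ∈
        P.obj (V' x hx) := by
    intro x hx
    have hWV : V' x hx ≤ V := (hV'le x hx).trans inf_le_left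
    let f' : Γ(X, V' x hx) := X.presheaf.map (homOfLE hWV).op f
    have hD : X.basicOpen f' = V' x hx ⊓ X.basicOpen f := X.basicOpen_res _ _
    have hD1 : X.basicOpen f' ≤ X.basicOpen f := hD.le.trans inf_le_right
    let s1 : Γ(F, V' x hx) := F.presheaf.map (homOfLE hWV).op s0
    have h1 : F.presheaf.map (homOfLE (X.basicOpen_le f')).op s1 ∈ P.obj (X.basicOpen f') := by
      have : F.presheaf.map (homOfLE (X.basicOpen_le f')).op s1 =
          F.presheaf.map (homOfLE hD1).op (F.presheaf.map (homOfLE (X.basicOpen_le f)).op s0) := by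
        rw [res_res, res_res]
      rw [this, hs0, res_smul]
      exact (P.obj _).smul_mem _ (P.res_mem hD1 ht)
    obtain ⟨n, p, hp, hpe⟩ := hV'q x hx f' _ h1
    have h0 : F.presheaf.map (homOfLE (X.basicOpen_le f')).op (f' ^ n • s1 - p) = 0 := by
      rw [map_sub, res_smul, map_pow, hpe, sub_self]
    obtain ⟨m, hm⟩ := exists_pow_smul_eq_zero F (hV'aff x hx) f' _ h0
    rw [smul_sub, sub_eq_zero, smul_smul, ← pow_add] at hm
    refine ⟨m + n, fun N' hN' => ?_⟩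
    rw [res_smul, map_pow]
    obtain ⟨d, rfl⟩ := Nat.exists_eq_add_of_le hN'
    rw [add_comm (m + n) d, pow_add, mul_smul]
    change f' ^ d • f' ^ (m + n) • s1 ∈ _
    rw [hm]
    exact (P.obj _).smul_mem _ ((P.obj _).smul_mem _ hp)
  choose N hN using key
  obtain ⟨I, hI⟩ := hc.elim_finite_subcover
    (fun x : ↥(V ⊓ O) => ((V' x.1 x.2 : X.Opens) : Set X)) (fun x => (V' x.1 x.2).isOpen)
    (fun y hy => Set.mem_iUnion.2 ⟨⟨y, hy⟩, hxV' y hy⟩)
  let N0 := I.sup (fun x => N x.1 x.2)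
  refine ⟨N0 + n0, f ^ N0 • s0, ?_, ?_⟩
  · apply hclos
    apply hP
    intro y hy
    obtain ⟨x, hxI, hyx⟩ : ∃ x ∈ I, y ∈ V' x.1 x.2 := by
      have := hI hy
      simp only [Set.mem_iUnion] at this
      obtain ⟨x, hxI, hyx⟩ := this
      exact ⟨x, hxI, hyx⟩
    refine ⟨V' x.1 x.2, hV'le x.1 x.2, hyx, ?_⟩
    rw [res_res]
    exact hN x.1 x.2 N0 (Finset.le_sup (f := fun x : ↥(V ⊓ O) => N x.1 x.2) hxI)
  · rw [res_smul, hs0, map_pow, smul_smul, ← pow_add]

/-- `M` is a good finitely generated submodule of `P(V)`: it generates `P` over `V ⊓ O`. -/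
def Good (P : SubSh F) (V O : X.Opens) (M : Submodule Γ(X, V) Γ(F, V)) : Prop :=
  M ≤ P.obj V ∧ M.FG ∧
    ∀ T : X.Opens, T ≤ V ⊓ O → (gen V (M : Set Γ(F, V))).obj T = P.obj T

/-- **The affine extension step.** -/
theorem exists_good [F.IsQuasicoherent] (P : SubSh F) (hP : P.IsLocal) {V : X.Opens}
    (hV : IsAffineOpen V) (O : X.Opens) (hc : IsCompact ((V ⊓ O : X.Opens) : Set X))
    (hclos : ∀ s : Γ(F, V),
      F.presheaf.map (homOfLE (inf_le_left : V ⊓ O ≤ V)).op s ∈ P.obj (V ⊓ O) → s ∈ P.obj V)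
    (hQF : ∀ x ∈ V ⊓ O, ∃ V' : X.Opens, IsAffineOpen V' ∧ x ∈ V' ∧ V' ≤ V ⊓ O ∧ P.QCOn V' ∧
      (P.obj V').FG) :
    ∃ M, Good P V O M := by
  have hqV : P.QCOn V := qcOn_of_closed P hP hV O hc hclos (fun x hx => by
    obtain ⟨V', h1, h2, h3, h4, -⟩ := hQF x hx
    exact ⟨V', h1, h2, h3, h4⟩)
  have hb : ∀ x ∈ V ⊓ O, ∃ f : Γ(X, V), x ∈ X.basicOpen f ∧ X.basicOpen f ≤ V ⊓ O ∧
      (P.obj (X.basicOpen f)).FG := by
    intro x hx
    obtain ⟨V', hV'aff, hxV', hV'le, hq, hfg⟩ := hQF x hx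
    obtain ⟨f, hf, hxf⟩ := hV.exists_basicOpen_le (V := V') ⟨x, hxV'⟩ hx.1
    refine ⟨f, hxf, hf.trans hV'le, ?_⟩
    have hWV : V' ≤ V := hV'le.trans inf_le_left
    have hD : X.basicOpen (X.presheaf.map (homOfLE hWV).op f) = X.basicOpen f := by
      rw [X.basicOpen_res]
      exact inf_eq_right.2 hf
    exact P.fg_of_eq hD (P.fg_basicOpen hq hfg _)
  choose f hxf hfle hffg using hb
  obtain ⟨I, hI⟩ := hc.elim_finite_subcover
    (fun x : ↥(V ⊓ O) => ((X.basicOpen (f x.1 x.2) : X.Opens) : Set X))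
    (fun x => (X.basicOpen (f x.1 x.2)).isOpen)
    (fun y hy => Set.mem_iUnion.2 ⟨⟨y, hy⟩, hxf y hy⟩)
  choose S hS using hffg
  have hl : ∀ x (hx : x ∈ V ⊓ O) (t : Γ(F, X.basicOpen (f x hx))), ∃ m : Γ(F, V),
      t ∈ P.obj (X.basicOpen (f x hx)) → (m ∈ P.obj V ∧ ∃ n : ℕ,
        F.presheaf.map (homOfLE (X.basicOpen_le (f x hx))).op m =
          (X.presheaf.map (homOfLE (X.basicOpen_le (f x hx))).op (f x hx)) ^ n • t) := by
    intro x hx t
    by_cases ht : t ∈ P.obj (X.basicOpen (f x hx))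
    · obtain ⟨n, m, hm, h⟩ := hqV (f x hx) t ht
      exact ⟨m, fun _ => ⟨hm, n, h⟩⟩
    · exact ⟨0, fun h => absurd h ht⟩
  choose lift hlift using hl
  classical
  let G : Finset Γ(F, V) := I.biUnion (fun x => (S x.1 x.2).image (lift x.1 x.2))
  let M : Submodule Γ(X, V) Γ(F, V) := Submodule.span Γ(X, V) (G : Set Γ(F, V))
  have hSmem : ∀ x hx, ∀ t ∈ S x hx, t ∈ P.obj (X.basicOpen (f x hx)) :=
    fun x hx t ht => hS x hx ▸ Submodule.subset_span ht
  have hGmem : ∀ (x : ↥(V ⊓ O)), x ∈ I → ∀ t ∈ S x.1 x.2, lift x.1 x.2 t ∈ G := by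
    intro x hxI t ht
    exact Finset.mem_biUnion.2 ⟨x, hxI, Finset.mem_image.2 ⟨t, ht, rfl⟩⟩
  have hMP : M ≤ P.obj V := by
    apply Submodule.span_le.2
    intro m hm
    obtain ⟨x, hxI, hm'⟩ := Finset.mem_biUnion.1 hm
    obtain ⟨t, ht, rfl⟩ := Finset.mem_image.1 hm'
    exact (hlift x.1 x.2 t (hSmem _ _ t ht)).1
  refine ⟨M, hMP, ⟨G, rfl⟩, ?_⟩
  intro T hT
  apply le_antisymm
  · exact gen_le V _ P hP (fun m hm => hMP hm) (hT.trans inf_le_left)
  · intro s hs y hyT hyV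
    have hyVO : y ∈ V ⊓ O := hT hyT
    obtain ⟨x, hxI, hyx⟩ : ∃ x ∈ I, y ∈ X.basicOpen (f x.1 x.2) := by
      have := hI hyVO
      simp only [Set.mem_iUnion] at this
      obtain ⟨x, hxI, hyx⟩ := this
      exact ⟨x, hxI, hyx⟩
    have hPle : P.obj (X.basicOpen (f x.1 x.2)) ≤
        ext (M : Set Γ(F, V)) (X.basicOpen (f x.1 x.2)) (X.basicOpen_le _) := by
      rw [← hS x.1 x.2]
      apply Submodule.span_le.2
      intro t ht
      obtain ⟨hm, n, hn⟩ := hlift x.1 x.2 t (hSmem _ _ t ht)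
      apply mem_of_pow_smul_mem_basicOpen (f x.1 x.2) _ (n := n)
      rw [← hn]
      apply Submodule.subset_span
      exact ⟨lift x.1 x.2 t, Submodule.subset_span (hGmem x hxI t ht), rfl⟩
    obtain ⟨g, hg, hyg⟩ := hV.exists_basicOpen_le (V := T ⊓ X.basicOpen (f x.1 x.2))
      ⟨y, ⟨hyT, hyx⟩⟩ hyV
    have hgT : X.basicOpen g ≤ T := hg.trans inf_le_left
    have hgf : X.basicOpen g ≤ X.basicOpen (f x.1 x.2) := hg.trans inf_le_right
    refine ⟨X.basicOpen g, hgT, X.basicOpen_le g, hyg, ?_⟩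
    obtain ⟨n, p, hp, hpe⟩ := hqV g _ (P.res_mem hgT hs)
    apply mem_of_pow_smul_mem_basicOpen g _ (n := n)
    rw [← hpe]
    have h1 := hPle (P.res_mem (X.basicOpen_le (f x.1 x.2)) hp)
    have h2 := ext_res (M : Set Γ(F, V)) (X.basicOpen_le _) hgf h1
    rwa [res_res] at h2

end SubSh

end Groth.Agent.Lib.Helper40.SSh
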