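import Groth.Agent.Lib.Helper40.SubSh4

/-!
# Transfinite extension of a finite type quasi-coherent subsheaf (EGA I 9.4.7), sectionwise
-/

set_option autoImplicit false
universe u v

open AlgebraicGeometry CategoryTheory Opposite TopologicalSpace Limits

namespace Groth.Agent.Lib.Helper40.SSh

open Groth.Agent.Lib.Lead.QCohAff

set_option backward.isDefEq.respectTransparency.types false

variable {X : Scheme.{u}} {F : X.Modules}

namespace SubSh

theorem ext' {N N' : SubSh F} (h : ∀ T, N.obj T = N'.obj T) : N = N' := by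
  cases N; cases N'
  congr 1
  funext T
  exact h T

theorem qcOn_congr {P P' : SubSh F} {V' : X.Opens} (h : ∀ T, T ≤ V' → P.obj T = P'.obj T)
    (hq : P.QCOn V') : P'.QCOn V' := by
  intro f t ht
  rw [← h _ (X.basicOpen_le f)] at ht
  obtain ⟨n, s, hs, e⟩ := hq f t ht
  exact ⟨n, s, h _ le_rfl ▸ hs, e⟩

/-- generalisation of the key lemma to affine opens inside `V`. -/
theorem ext_ext_le {T T' T'' : X.Opens} (S : Set Γ(F, T)) (h : T' ≤ T) (h' : T'' ≤ T') :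
    ext (ext S T' h : Set Γ(F, T')) T'' h' ≤ ext S T'' (h'.trans h) := by
  apply Submodule.span_le.2
  rintro _ ⟨y, hy, rfl⟩
  exact ext_res S h h' hy

theorem gen_eq_gen_ext (V : X.Opens) (M : Set Γ(F, V)) {V' : X.Opens} (hV' : V' ≤ V)
    {T : X.Opens} (hT : T ≤ V') :
    (gen V M).obj T = (gen V' (ext M V' hV' : Set Γ(F, V'))).obj T := by
  apply le_antisymm
  · intro s hs x hxT hxV'
    obtain ⟨T', h1, h2, hx, hm⟩ := hs x hxT (hV' hxV')
    exact ⟨T', h1, h1.trans hT, hx, ext_le_ext_ext M hV' (h1.trans hT) hm⟩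
  · intro s hs x hxT hxV
    obtain ⟨T', h1, h2, hx, hm⟩ := hs x hxT (hT hxT)
    exact ⟨T', h1, h2.trans hV', hx, ext_ext_le M hV' h2 hm⟩

theorem qcOn_gen_of_le [F.IsQuasicoherent] (V : X.Opens) (M : Set Γ(F, V)) {V' : X.Opens}
    (hV'a : IsAffineOpen V') (hV' : V' ≤ V) : (gen V M).QCOn V' :=
  qcOn_congr (fun T hT => (gen_eq_gen_ext V M hV' hT).symm) (qcOn_gen hV'a (ext M V' hV'))

theorem fg_gen_of_le [F.IsQuasicoherent] (V : X.Opens) (M : Submodule Γ(X, V) Γ(F, V))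
    (hM : M.FG) {V' : X.Opens} (hV'a : IsAffineOpen V') (hV' : V' ≤ V) :
    ((gen V (M : Set Γ(F, V))).obj V').FG := by
  rw [gen_eq_gen_ext V _ hV' le_rfl, gen_obj_self hV'a]
  obtain ⟨S, hS⟩ := hM
  classical
  refine ⟨S.image (fun m => F.presheaf.map (homOfLE hV').op m), ?_⟩
  rw [Finset.coe_image]
  apply le_antisymm
  · apply Submodule.span_le.2
    rintro _ ⟨m, hm, rfl⟩
    exact Submodule.subset_span ⟨m, hS ▸ Submodule.subset_span hm, rfl⟩
  · apply Submodule.span_le.2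
    rintro _ ⟨m, hm, rfl⟩
    have hm' : m ∈ Submodule.span Γ(X, V) (S : Set Γ(F, V)) := hS ▸ hm
    exact res_mem_span hV' (S : Set Γ(F, V)) hm'

/-- Near `x`, `P` is quasi-coherent of finite type on every affine open. -/
def QFNear (P : SubSh F) (x : X) : Prop :=
  ∃ Ox : X.Opens, x ∈ Ox ∧ ∀ V' : X.Opens, IsAffineOpen V' → V' ≤ Ox → P.QCOn V' ∧ (P.obj V').FG

theorem exists_affine_of_qfNear (P : SubSh F) {x : X} (h : P.QFNear x) (O : X.Opens)
    (hx : x ∈ O) :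
    ∃ V' : X.Opens, IsAffineOpen V' ∧ x ∈ V' ∧ V' ≤ O ∧ P.QCOn V' ∧ (P.obj V').FG := by
  obtain ⟨Ox, hxOx, hall⟩ := h
  obtain ⟨_, ⟨V', hV'a : IsAffineOpen V', rfl⟩, hxV', hle⟩ :=
    X.isBasis_affineOpens.exists_subset_of_mem_open (show x ∈ ((Ox ⊓ O : X.Opens) : Set X) from
      ⟨hxOx, hx⟩) (Ox ⊓ O).isOpen
  have hle' : V' ≤ Ox ⊓ O := hle
  exact ⟨V', hV'a, hxV', hle'.trans inf_le_right, hall V' hV'a (hle'.trans inf_le_left)⟩

theorem qfNear_congr {P P' : SubSh F} {x : X} (O : X.Opens) (hx : x ∈ O)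
    (h : ∀ T, T ≤ O → P.obj T = P'.obj T) (hq : P.QFNear x) : P'.QFNear x := by
  obtain ⟨Ox, hxOx, hall⟩ := hq
  refine ⟨Ox ⊓ O, ⟨hxOx, hx⟩, fun V' hV'a hV' => ?_⟩
  obtain ⟨h1, h2⟩ := hall V' hV'a (hV'.trans inf_le_left)
  refine ⟨qcOn_congr (fun T hT => h T (hT.trans (hV'.trans inf_le_right))) h1, ?_⟩
  rw [← h V' (hV'.trans inf_le_right)]
  exact h2

section Transfinite

variable {L : Type v} [LinearOrder L] (V : L → X.Opens) (U : X.Opens) (N0 : SubSh F)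

/-- The intersection of `N0` with the generated subsheaves `gen (V m) (Ms m)` for `p m`. -/
noncomputable def Pp (Ms : ∀ l, Submodule Γ(X, V l) Γ(F, V l)) (p : L → Prop) : SubSh F where
  obj T := N0.obj T ⊓ ⨅ m, ⨅ (_ : p m), (gen (V m) (Ms m : Set Γ(F, V m))).obj T
  res_mem := by
    intro T T' h s hs
    rw [Submodule.mem_inf] at hs ⊢
    refine ⟨N0.res_mem h hs.1, ?_⟩
    rw [Submodule.mem_iInf]
    intro m
    rw [Submodule.mem_iInf]
    intro hm
    have := hs.2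
    rw [Submodule.mem_iInf] at this
    have := this m
    rw [Submodule.mem_iInf] at this
    exact (gen (V m) _).res_mem h (this hm)

theorem mem_Pp (Ms : ∀ l, Submodule Γ(X, V l) Γ(F, V l)) (p : L → Prop) {T : X.Opens}
    (s : Γ(F, T)) :
    s ∈ (Pp V N0 Ms p).obj T ↔
      s ∈ N0.obj T ∧ ∀ m, p m → s ∈ (gen (V m) (Ms m : Set Γ(F, V m))).obj T := by
  change s ∈ N0.obj T ⊓ ⨅ m, ⨅ (_ : p m), (gen (V m) (Ms m : Set Γ(F, V m))).obj T ↔ _
  simp only [Submodule.mem_inf, Submodule.mem_iInf]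

theorem isLocal_Pp (h0 : N0.IsLocal) (Ms : ∀ l, Submodule Γ(X, V l) Γ(F, V l))
    (p : L → Prop) : (Pp V N0 Ms p).IsLocal := by
  intro T s hs
  rw [mem_Pp]
  constructor
  · apply h0
    intro x hx
    obtain ⟨T', hT', hxT', hmem⟩ := hs x hx
    exact ⟨T', hT', hxT', ((mem_Pp V N0 Ms p _).1 hmem).1⟩
  · intro m hm
    apply isLocal_gen
    intro x hx
    obtain ⟨T', hT', hxT', hmem⟩ := hs x hx
    exact ⟨T', hT', hxT', ((mem_Pp V N0 Ms p _).1 hmem).2 m hm⟩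

theorem Pp_congr (Ms Ms' : ∀ l, Submodule Γ(X, V l) Γ(F, V l)) (p : L → Prop)
    (h : ∀ m, p m → Ms m = Ms' m) : Pp V N0 Ms p = Pp V N0 Ms' p := by
  apply ext'
  intro T
  ext s
  rw [mem_Pp, mem_Pp]
  constructor
  · rintro ⟨h1, h2⟩
    exact ⟨h1, fun m hm => h m hm ▸ h2 m hm⟩
  · rintro ⟨h1, h2⟩
    exact ⟨h1, fun m hm => (h m hm).symm ▸ h2 m hm⟩

/-- The union of the earlier members of the cover. -/
def Wl (l : L) : X.Opens := ⨆ m : {m // m < l}, V m.1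

theorem le_Wl {m l : L} (h : m < l) : V m ≤ Wl V l := le_iSup (fun m : {m // m < l} => V m.1) ⟨m, h⟩

/-- Goodness of the family at `l`. -/
def GoodAt (Ms : ∀ l, Submodule Γ(X, V l) Γ(F, V l)) (l : L) : Prop :=
  Good (Pp V N0 Ms (· < l)) (V l) (U ⊔ Wl V l) (Ms l)

variable {V U N0}

section Compat

variable (Ms : ∀ l, Submodule Γ(X, V l) Γ(F, V l)) (p : L → Prop)
  (hp : ∀ m, p m → ∀ k, k < m → p k) (hgood : ∀ m, p m → GoodAt V U N0 Ms m)
  (h0clos : ∀ (T : X.Opens) (s : Γ(F, T)),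
    F.presheaf.map (homOfLE (inf_le_left : T ⊓ U ≤ T)).op s ∈ N0.obj (T ⊓ U) → s ∈ N0.obj T)

include hgood in
theorem gen_le_N0 (h0clos : ∀ (T : X.Opens) (s : Γ(F, T)),
    F.presheaf.map (homOfLE (inf_le_left : T ⊓ U ≤ T)).op s ∈ N0.obj (T ⊓ U) → s ∈ N0.obj T)
    {m : L} (hm : p m) {T : X.Opens} (hT : T ≤ V m) :
    (gen (V m) (Ms m : Set Γ(F, V m))).obj T ≤ N0.obj T := by
  intro s hs
  apply h0clos
  have h1 : T ⊓ U ≤ V m ⊓ (U ⊔ Wl V m) := inf_le_inf hT le_sup_left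
  have h2 := (hgood m hm).2.2 (T ⊓ U) h1
  have h3 := (gen (V m) (Ms m : Set Γ(F, V m))).res_mem (inf_le_left : T ⊓ U ≤ T) hs
  rw [h2] at h3
  exact ((mem_Pp V N0 Ms _ _).1 h3).1

variable [WellFoundedLT L]

include hp hgood in
theorem N0_le_gen {m : L} (hm : p m) {T : X.Opens} (hT : T ≤ U) :
    N0.obj T ≤ (gen (V m) (Ms m : Set Γ(F, V m))).obj T := by
  induction m using WellFoundedLT.induction generalizing T with
  | ind m ih =>
    intro s hs
    apply gen_closed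
    have h1 : T ⊓ V m ≤ V m ⊓ (U ⊔ Wl V m) := le_inf inf_le_right (inf_le_left.trans (hT.trans le_sup_left))
    rw [(hgood m hm).2.2 (T ⊓ V m) h1, mem_Pp]
    refine ⟨N0.res_mem _ hs, fun k hk => ?_⟩
    exact ih k hk (hp m hm k hk) (inf_le_left.trans hT) (N0.res_mem _ hs)

include hp hgood in
theorem gen_le_gen (h0clos : ∀ (T : X.Opens) (s : Γ(F, T)),
    F.presheaf.map (homOfLE (inf_le_left : T ⊓ U ≤ T)).op s ∈ N0.obj (T ⊓ U) → s ∈ N0.obj T)
    {m k : L} (hm : p m) (hk : p k) {T : X.Opens} (hT : T ≤ V m) :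
    (gen (V m) (Ms m : Set Γ(F, V m))).obj T ≤ (gen (V k) (Ms k : Set Γ(F, V k))).obj T := by
  induction k using WellFoundedLT.induction generalizing T with
  | ind k ih =>
    intro s hs
    rcases lt_trichotomy k m with hkm | rfl | hmk
    · apply gen_closed
      have h1 : T ⊓ V k ≤ V m ⊓ (U ⊔ Wl V m) :=
        le_inf (inf_le_left.trans hT) (inf_le_right.trans ((le_Wl V hkm).trans le_sup_right))
      have h2 := (hgood m hm).2.2 (T ⊓ V k) h1
      have h3 := (gen (V m) (Ms m : Set Γ(F, V m))).res_mem (inf_le_left : T ⊓ V k ≤ T) hs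
      rw [h2] at h3
      exact ((mem_Pp V N0 Ms _ _).1 h3).2 k hkm
    · exact hs
    · apply gen_closed
      have h1 : T ⊓ V k ≤ V k ⊓ (U ⊔ Wl V k) :=
        le_inf inf_le_right (inf_le_left.trans (hT.trans ((le_Wl V hmk).trans le_sup_right)))
      have h3 := (gen (V m) (Ms m : Set Γ(F, V m))).res_mem (inf_le_left : T ⊓ V k ≤ T) hs
      rw [(hgood k hk).2.2 (T ⊓ V k) h1, mem_Pp]
      refine ⟨gen_le_N0 Ms p hgood h0clos hm (inf_le_left.trans hT) h3, fun k' hk' => ?_⟩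
      exact ih k' hk' (hp k hk k' hk') (inf_le_left.trans hT) h3

include hp hgood in
theorem Pp_eq_N0 {T : X.Opens} (hT : T ≤ U) : (Pp V N0 Ms p).obj T = N0.obj T := by
  apply le_antisymm
  · intro s hs
    exact ((mem_Pp V N0 Ms p s).1 hs).1
  · intro s hs
    rw [mem_Pp]
    exact ⟨hs, fun m hm => N0_le_gen Ms p hp hgood hm hT hs⟩

include hp hgood in
theorem Pp_eq_gen (h0clos : ∀ (T : X.Opens) (s : Γ(F, T)),
    F.presheaf.map (homOfLE (inf_le_left : T ⊓ U ≤ T)).op s ∈ N0.obj (T ⊓ U) → s ∈ N0.obj T)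
    {m : L} (hm : p m) {T : X.Opens} (hT : T ≤ V m) :
    (Pp V N0 Ms p).obj T = (gen (V m) (Ms m : Set Γ(F, V m))).obj T := by
  apply le_antisymm
  · intro s hs
    exact ((mem_Pp V N0 Ms p s).1 hs).2 m hm
  · intro s hs
    rw [mem_Pp]
    exact ⟨gen_le_N0 Ms p hgood h0clos hm hT hs,
      fun k hk => gen_le_gen Ms p hp hgood h0clos hm hk hT hs⟩

end Compat

section Main

variable [WellFoundedLT L] [F.IsQuasicoherent]

variable (V U)

open Classical in
/-- Choice of a good submodule, if there is one. -/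
noncomputable def pick (P : SubSh F) (l : L) : Submodule Γ(X, V l) Γ(F, V l) :=
  if h : ∃ M, Good P (V l) (U ⊔ Wl V l) M then h.choose else ⊥

theorem pick_spec (P : SubSh F) (l : L) (h : ∃ M, Good P (V l) (U ⊔ Wl V l) M) :
    Good P (V l) (U ⊔ Wl V l) (pick V U P l) := by
  unfold pick
  rw [dif_pos h]
  exact h.choose_spec

variable (N0)

open Classical in
/-- The recursively chosen generating submodules. -/
noncomputable def Mfun : ∀ l, Submodule Γ(X, V l) Γ(F, V l) :=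
  WellFounded.fix (C := fun l => Submodule Γ(X, V l) Γ(F, V l)) (wellFounded_lt (α := L))
    (fun l rec => pick V U (Pp V N0 (fun m => if hm : m < l then rec m hm else ⊥) (· < l)) l)

theorem Mfun_eq (l : L) :
    Mfun V U N0 l = pick V U (Pp V N0 (Mfun V U N0) (· < l)) l := by
  have e : Pp V N0 (fun m => if hm : m < l then Mfun V U N0 m else ⊥) (· < l) =
      Pp V N0 (Mfun V U N0) (· < l) := Pp_congr V N0 _ _ _ (fun m hm => dif_pos hm)
  rw [← e]
  unfold Mfun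
  rw [WellFounded.fix_eq]

theorem Mfun_spec (l : L)
    (h : ∃ M, Good (Pp V N0 (Mfun V U N0) (· < l)) (V l) (U ⊔ Wl V l) M) :
    GoodAt V U N0 (Mfun V U N0) l := by
  unfold GoodAt
  rw [Mfun_eq V U N0 l]
  exact pick_spec V U _ l h

variable {V U N0}

theorem qfNear_Pp (hV : ∀ l, IsAffineOpen (V l)) (Ms : ∀ l, Submodule Γ(X, V l) Γ(F, V l))
    (p : L → Prop) (hp : ∀ m, p m → ∀ k, k < m → p k) (hgood : ∀ m, p m → GoodAt V U N0 Ms m)
    (h0clos : ∀ (T : X.Opens) (s : Γ(F, T)),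
      F.presheaf.map (homOfLE (inf_le_left : T ⊓ U ≤ T)).op s ∈ N0.obj (T ⊓ U) → s ∈ N0.obj T)
    (h0QF : ∀ V' : X.Opens, IsAffineOpen V' → V' ≤ U → N0.QCOn V' ∧ (N0.obj V').FG)
    {x : X} (hx : x ∈ U ∨ ∃ m, p m ∧ x ∈ V m) : (Pp V N0 Ms p).QFNear x := by
  rcases hx with hxU | ⟨m, hm, hxm⟩
  · refine ⟨U, hxU, fun V' hV'a hV' => ?_⟩
    obtain ⟨h1, h2⟩ := h0QF V' hV'a hV'
    have e : ∀ T, T ≤ U → N0.obj T = (Pp V N0 Ms p).obj T :=
      fun T hT => (Pp_eq_N0 Ms p hp hgood hT).symm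
    exact ⟨qcOn_congr (fun T hT => e T (hT.trans hV')) h1, e V' hV' ▸ h2⟩
  · refine ⟨V m, hxm, fun V' hV'a hV' => ?_⟩
    have e : ∀ T, T ≤ V m →
        (gen (V m) (Ms m : Set Γ(F, V m))).obj T = (Pp V N0 Ms p).obj T :=
      fun T hT => (Pp_eq_gen Ms p hp hgood h0clos hm hT).symm
    exact ⟨qcOn_congr (fun T hT => e T (hT.trans hV')) (qcOn_gen_of_le (V m) _ hV'a hV'),
      e V' hV' ▸ fg_gen_of_le (V m) (Ms m) (hgood m hm).2.1 hV'a hV'⟩

theorem good_all (hV : ∀ l, IsAffineOpen (V l))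
    (hW : ∀ l, IsCompact ((V l ⊓ (U ⊔ Wl V l) : X.Opens) : Set X))
    (h0loc : N0.IsLocal)
    (h0clos : ∀ (T : X.Opens) (s : Γ(F, T)),
      F.presheaf.map (homOfLE (inf_le_left : T ⊓ U ≤ T)).op s ∈ N0.obj (T ⊓ U) → s ∈ N0.obj T)
    (h0QF : ∀ V' : X.Opens, IsAffineOpen V' → V' ≤ U → N0.QCOn V' ∧ (N0.obj V').FG) :
    ∀ l, GoodAt V U N0 (Mfun V U N0) l := by
  intro l
  induction l using WellFoundedLT.induction with
  | ind l ih =>
    apply Mfun_spec
    have hp : ∀ m, m < l → ∀ k, k < m → k < l := fun m hm k hk => hk.trans hm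
    apply exists_good _ (isLocal_Pp V N0 h0loc (Mfun V U N0) _) (hV l) _ (hW l)
    · intro s hs
      rw [mem_Pp] at hs ⊢
      constructor
      · apply h0clos
        have := N0.res_mem
          (inf_le_inf_left (V l) le_sup_left : V l ⊓ U ≤ V l ⊓ (U ⊔ Wl V l)) hs.1
        rwa [res_res] at this
      · intro m hm
        apply gen_closed
        have := (gen (V m) (Mfun V U N0 m : Set Γ(F, V m))).res_mem
          (inf_le_inf_left (V l) ((le_Wl V hm).trans le_sup_right) :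
            V l ⊓ V m ≤ V l ⊓ (U ⊔ Wl V l)) (hs.2 m hm)
        rwa [res_res] at this
    · intro x hx
      apply exists_affine_of_qfNear _ _ _ hx
      apply qfNear_Pp hV (Mfun V U N0) _ hp ih h0clos h0QF
      rcases hx.2 with hxU | hxW
      · exact Or.inl hxU
      · obtain ⟨⟨m, hm⟩, hxm⟩ := Opens.mem_iSup.1 hxW
        exact Or.inr ⟨m, hm, hxm⟩

/-- **Transfinite extension** (EGA I 9.4.7) in sectionwise form. -/
theorem exists_extension (hV : ∀ l, IsAffineOpen (V l))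
    (hW : ∀ l, IsCompact ((V l ⊓ (U ⊔ Wl V l) : X.Opens) : Set X))
    (h0loc : N0.IsLocal)
    (h0clos : ∀ (T : X.Opens) (s : Γ(F, T)),
      F.presheaf.map (homOfLE (inf_le_left : T ⊓ U ≤ T)).op s ∈ N0.obj (T ⊓ U) → s ∈ N0.obj T)
    (h0QF : ∀ V' : X.Opens, IsAffineOpen V' → V' ≤ U → N0.QCOn V' ∧ (N0.obj V').FG) :
    ∃ N : SubSh F, N.IsLocal ∧ (∀ T, T ≤ U → N.obj T = N0.obj T) ∧
      ∀ x : X, (x ∈ U ∨ ∃ l, x ∈ V l) → N.QFNear x := by
  have hg := good_all hV hW h0loc h0clos h0QF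
  refine ⟨Pp V N0 (Mfun V U N0) (fun _ => True), isLocal_Pp V N0 h0loc _ _, ?_, ?_⟩
  · intro T hT
    exact Pp_eq_N0 _ _ (fun _ _ _ _ => trivial) (fun m _ => hg m) hT
  · intro x hx
    apply qfNear_Pp hV (Mfun V U N0) _ (fun _ _ _ _ => trivial) (fun m _ => hg m) h0clos h0QF
    rcases hx with hxU | ⟨l, hl⟩
    · exact Or.inl hxU
    · exact Or.inr ⟨l, trivial, hl⟩

end Main

end Transfinite

end SubSh

end Groth.Agent.Lib.Helper40.SSh
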