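import Groth.Agent.Lib.Helper40.SubSh5
import Groth.Agent.Lib.Helper40.SubSh2
import Groth.Agent.Lib.Helper21.QCohKernel

/-!
# Extension of a finite type quasi-coherent subsheaf from an open subscheme (EGA I 9.4.7)
-/

set_option autoImplicit false
universe u v

open AlgebraicGeometry CategoryTheory Opposite TopologicalSpace Limits

namespace Groth.Agent.Lib.Helper40.SSh

open Groth.Agent.Lib.Lead.QCohAff Groth.Agent.Lib.Helper40.QCohLim

set_option backward.isDefEq.respectTransparency.types false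

variable {X : Scheme.{u}}

open SubSh in
/-- **EGA I 9.4.7**, general form with a well-ordered affine cover. -/
theorem exists_extension_module {L : Type v} [LinearOrder L] [WellFoundedLT L]
    (V : L → X.Opens) (hV : ∀ l, IsAffineOpen (V l)) (hcov : ⨆ l, V l = ⊤) (U : X.Opens)
    (hW : ∀ l, IsCompact ((V l ⊓ (U ⊔ Wl V l) : X.Opens) : Set X))
    (F : X.Modules) [F.IsQuasicoherent]
    (G : (U : Scheme.{u}).Modules) (i : G ⟶ F.restrict U.ι) [Mono i] [G.IsQuasicoherent]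
    (hG : SheafOfModules.IsFiniteType (R := (U : Scheme.{u}).ringCatSheaf) G) :
    ∃ (G' : X.Modules) (i' : G' ⟶ F) (e : G'.restrict U.ι ≅ G), Mono i' ∧ G'.IsQuasicoherent ∧
      SheafOfModules.IsFiniteType (R := X.ringCatSheaf) G' ∧
      e.hom ≫ i = (Scheme.Modules.restrictFunctor U.ι).map i' := by
  let N0 : SubSh F := push U (ofHom i)
  have h0loc : N0.IsLocal := isLocal_push U _ (isLocal_ofHom i)
  have h0clos : ∀ (T : X.Opens) (s : Γ(F, T)),
      F.presheaf.map (homOfLE (inf_le_left : T ⊓ U ≤ T)).op s ∈ N0.obj (T ⊓ U) → s ∈ N0.obj T :=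
    fun T s hs => push_closed U _ s hs
  have h0QF : ∀ V' : X.Opens, IsAffineOpen V' → V' ≤ U → N0.QCOn V' ∧ (N0.obj V').FG := by
    intro V' hV'a hV'
    have hV'' : IsAffineOpen (U.ι ⁻¹ᵁ V') :=
      hV'a.preimage_of_isOpenImmersion U.ι (by rwa [Scheme.Opens.opensRange_ι])
    have heq : U.ι ''ᵁ (U.ι ⁻¹ᵁ V') = V' := by
      rw [Scheme.Hom.image_preimage_eq_opensRange_inf, Scheme.Opens.opensRange_ι]
      exact inf_eq_right.2 hV'
    have h1 := qcOn_push U (ofHom i) (qcOn_ofHom i hV'')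
    have h2 := fg_push U (ofHom i) (fg_ofHom i
      ((Groth.Agent.Lib.Lead.CohAff.isFiniteType_iff_finite_sections G).1 hG _ hV''))
    rw [heq] at h1 h2
    exact ⟨h1, h2⟩
  obtain ⟨N, hNloc, hNU, hNQF⟩ := exists_extension hV hW h0loc h0clos h0QF
  have hex : ∀ x : X, ∃ V' : X.Opens, IsAffineOpen V' ∧ x ∈ V' ∧ V' ≤ ⊤ ∧ N.QCOn V' ∧
      (N.obj V').FG := by
    intro x
    have hx : x ∈ ⨆ l, V l := hcov ▸ (show x ∈ (⊤ : X.Opens) from trivial)
    obtain ⟨l, hl⟩ := Opens.mem_iSup.1 hx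
    exact exists_affine_of_qfNear N (hNQF x (Or.inr ⟨l, hl⟩)) ⊤ trivial
  haveI hq : (N.toMod hNloc).IsQuasicoherent := isQuasicoherent_toMod N hNloc (fun x => by
    obtain ⟨V', h1, h2, -, h4, -⟩ := hex x
    exact ⟨V', h1, h2, h4⟩)
  have hft : SheafOfModules.IsFiniteType (R := X.ringCatSheaf) (N.toMod hNloc) :=
    isFiniteType_toMod N hNloc (fun x => by
      obtain ⟨V', h1, h2, -, -, h5⟩ := hex x
      exact ⟨V', h1, h2, h5⟩)
  haveI : Mono ((Scheme.Modules.restrictFunctor U.ι).map (N.ι hNloc)) := inferInstance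
  obtain ⟨e, he⟩ := exists_iso_of_range_eq ((Scheme.Modules.restrictFunctor U.ι).map (N.ι hNloc)) i
    (by
      intro T' a
      have ha : N.val hNloc (T := U.ι ''ᵁ T') a ∈ N.obj (U.ι ''ᵁ T') := N.val_mem hNloc _
      rw [hNU _ (U.ι_image_le T')] at ha
      obtain ⟨b, hb⟩ := (mem_push_image U (ofHom i) T' _).1 ha
      exact ⟨b, hb⟩)
    (by
      intro T' b
      have hb : rsec U T' (i.app T' b) ∈ (ofHom i).obj T' := ⟨b, rfl⟩
      have hb' := (mem_push_image U (ofHom i) T' _).2 hb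
      rw [← hNU _ (U.ι_image_le T')] at hb'
      exact ⟨N.sec hNloc ⟨_, hb'⟩, rfl⟩)
  exact ⟨N.toMod hNloc, N.ι hNloc, e, inferInstance, hq, hft, he⟩

end Groth.Agent.Lib.Helper40.SSh
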