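import Groth.Agent.Lib.Helper40.SubSh6

/-!
# Extension of a sectionwise subsheaf (variant of `exists_extension_module` starting from a `SubSh`)
-/

set_option autoImplicit false
universe u v

open AlgebraicGeometry CategoryTheory Opposite TopologicalSpace Limits

namespace Groth.Agent.Lib.Helper40.SSh

open Groth.Agent.Lib.Lead.QCohAff Groth.Agent.Lib.Helper40.QCohLim

set_option backward.isDefEq.respectTransparency.types false

variable {X : Scheme.{u}}

open SubSh in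
theorem exists_extension_subSh {L : Type v} [LinearOrder L] [WellFoundedLT L]
    (V : L → X.Opens) (hV : ∀ l, IsAffineOpen (V l)) (hcov : ⨆ l, V l = ⊤) (U : X.Opens)
    (hW : ∀ l, IsCompact ((V l ⊓ (U ⊔ Wl V l) : X.Opens) : Set X))
    (F : X.Modules) [F.IsQuasicoherent] (N0 : SubSh F) (h0loc : N0.IsLocal)
    (h0clos : ∀ (T : X.Opens) (s : Γ(F, T)),
      F.presheaf.map (homOfLE (inf_le_left : T ⊓ U ≤ T)).op s ∈ N0.obj (T ⊓ U) → s ∈ N0.obj T)
    (h0QF : ∀ V' : X.Opens, IsAffineOpen V' → V' ≤ U → N0.QCOn V' ∧ (N0.obj V').FG) :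
    ∃ (G' : X.Modules) (i' : G' ⟶ F), Mono i' ∧ G'.IsQuasicoherent ∧
      SheafOfModules.IsFiniteType (R := X.ringCatSheaf) G' ∧
      ∀ (T : X.Opens), T ≤ U → ∀ s : Γ(F, T), s ∈ N0.obj T ↔ ∃ g : Γ(G', T), i'.app T g = s := by
  obtain ⟨N, hNloc, hNU, hNQF⟩ := exists_extension hV hW h0loc h0clos h0QF
  have hex : ∀ x : X, ∃ V' : X.Opens, IsAffineOpen V' ∧ x ∈ V' ∧ V' ≤ ⊤ ∧ N.QCOn V' ∧
      (N.obj V').FG := by
    intro x
    have hx : x ∈ ⨆ l, V l := hcov ▸ (show x ∈ (⊤ : X.Opens) from trivial)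
    obtain ⟨l, hl⟩ := Opens.mem_iSup.1 hx
    exact exists_affine_of_qfNear N (hNQF x (Or.inr ⟨l, hl⟩)) ⊤ trivial
  haveI hq : (N.toMod hNloc).IsQuasicoherent := isQuasicoherent_toMod N hNloc (fun x => by
    obtain ⟨V', h1, h2, -, h4, -⟩ := hex x
    exact ⟨V', h1, h2, h4⟩)
  have hft : SheafOfModules.IsFiniteType (R := X.ringCatSheaf) (N.toMod hNloc) :=
    isFiniteType_toMod N hNloc (fun x => by
      obtain ⟨V', h1, h2, -, -, h5⟩ := hex x
      exact ⟨V', h1, h2, h5⟩)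
  refine ⟨N.toMod hNloc, N.ι hNloc, inferInstance, hq, hft, ?_⟩
  intro T hT s
  rw [← hNU T hT]
  constructor
  · intro hs
    exact ⟨N.sec hNloc ⟨s, hs⟩, rfl⟩
  · rintro ⟨g, rfl⟩
    exact N.val_mem hNloc g

end Groth.Agent.Lib.Helper40.SSh
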