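import Groth.Agent.Lib.Helper40.SubSh8

/-!
# Local sums of sub-presheaves of a quasi-coherent module; sums of quasi-coherent subsheaves of
finite type
-/

set_option autoImplicit false
universe u

open AlgebraicGeometry CategoryTheory Opposite TopologicalSpace Limits

namespace Groth.Agent.Lib.Helper40.SSh

open Groth.Agent.Lib.Lead.QCohAff

set_option backward.isDefEq.respectTransparency.types false

variable {X : Scheme.{u}} {F : X.Modules}

namespace SubSh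

theorem res_mem_sup (N1 N2 : SubSh F) {T T' : X.Opens} (h : T' ≤ T) {s : Γ(F, T)}
    (hs : s ∈ N1.obj T ⊔ N2.obj T) :
    F.presheaf.map (homOfLE h).op s ∈ N1.obj T' ⊔ N2.obj T' := by
  obtain ⟨a, ha, b, hb, rfl⟩ := Submodule.mem_sup.1 hs
  rw [map_add]
  exact Submodule.add_mem_sup (N1.res_mem h ha) (N2.res_mem h hb)

/-- the local sum of two sub-presheaves -/
def lsup (N1 N2 : SubSh F) : SubSh F where
  obj T :=
    { carrier := {s | ∀ x, x ∈ T → ∃ (T' : X.Opens) (h : T' ≤ T), x ∈ T' ∧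
          F.presheaf.map (homOfLE h).op s ∈ N1.obj T' ⊔ N2.obj T'}
      add_mem' := by
        intro a b ha hb x hx
        obtain ⟨Ta, h1a, hxa, hma⟩ := ha x hx
        obtain ⟨Tb, h1b, hxb, hmb⟩ := hb x hx
        refine ⟨Ta ⊓ Tb, inf_le_left.trans h1a, ⟨hxa, hxb⟩, ?_⟩
        rw [map_add]
        apply Submodule.add_mem
        · have := res_mem_sup N1 N2 (inf_le_left : Ta ⊓ Tb ≤ Ta) hma
          rwa [res_res] at this
        · have := res_mem_sup N1 N2 (inf_le_right : Ta ⊓ Tb ≤ Tb) hmb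
          rwa [res_res] at this
      zero_mem' := by
        intro x hx
        refine ⟨_, le_rfl, hx, ?_⟩
        rw [map_zero]
        exact Submodule.zero_mem _
      smul_mem' := by
        intro r a ha x hx
        obtain ⟨Ta, h1a, hxa, hma⟩ := ha x hx
        refine ⟨Ta, h1a, hxa, ?_⟩
        rw [res_smul]
        exact Submodule.smul_mem _ _ hma }
  res_mem := by
    intro T T' h s hs x hx
    obtain ⟨T1, h1, hx1, hm⟩ := hs x (h hx)
    refine ⟨T1 ⊓ T', inf_le_right, ⟨hx1, hx⟩, ?_⟩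
    rw [res_res]
    have := res_mem_sup N1 N2 (inf_le_left : T1 ⊓ T' ≤ T1) hm
    rwa [res_res] at this

theorem mem_lsup (N1 N2 : SubSh F) {T : X.Opens} (s : Γ(F, T)) :
    s ∈ (lsup N1 N2).obj T ↔ ∀ x, x ∈ T → ∃ (T' : X.Opens) (h : T' ≤ T), x ∈ T' ∧
      F.presheaf.map (homOfLE h).op s ∈ N1.obj T' ⊔ N2.obj T' := Iff.rfl

theorem isLocal_lsup (N1 N2 : SubSh F) : (lsup N1 N2).IsLocal := by
  intro T s hs x hx
  obtain ⟨T1, hT1, hxT1, hmem⟩ := hs x hx
  obtain ⟨T', h1, hx', hm⟩ := hmem x hxT1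
  refine ⟨T', h1.trans hT1, hx', ?_⟩
  rwa [res_res] at hm

theorem sup_le_lsup (N1 N2 : SubSh F) (T : X.Opens) :
    N1.obj T ⊔ N2.obj T ≤ (lsup N1 N2).obj T := by
  intro s hs x hx
  refine ⟨T, le_rfl, hx, ?_⟩
  rwa [res_self]

theorem left_le_lsup (N1 N2 : SubSh F) (T : X.Opens) : N1.obj T ≤ (lsup N1 N2).obj T :=
  le_sup_left.trans (sup_le_lsup N1 N2 T)

theorem right_le_lsup (N1 N2 : SubSh F) (T : X.Opens) : N2.obj T ≤ (lsup N1 N2).obj T :=
  le_sup_right.trans (sup_le_lsup N1 N2 T)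

/-- sections of a `QCOn` sub-presheaf over a basic open are generated by restrictions -/
theorem le_ext_of_qcOn (N : SubSh F) {V : X.Opens} (hq : N.QCOn V) (g : Γ(X, V)) :
    N.obj (X.basicOpen g) ≤ ext (N.obj V : Set Γ(F, V)) (X.basicOpen g) (X.basicOpen_le g) := by
  intro t ht
  obtain ⟨n, s, hs, h⟩ := hq g t ht
  apply mem_of_pow_smul_mem_basicOpen g _ (n := n)
  rw [← h]
  exact Submodule.subset_span ⟨s, hs, rfl⟩

theorem ext_mono {T T' : X.Opens} (h : T' ≤ T) {S S' : Set Γ(F, T)} (hS : S ⊆ S') :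
    ext S T' h ≤ ext S' T' h :=
  Submodule.span_mono (Set.image_mono hS)

/-- on an affine open where both are `QCOn`, the local sum is the sum. -/
theorem lsup_obj_affine [F.IsQuasicoherent] (N1 N2 : SubSh F)
    (hQ1 : ∀ V : X.Opens, IsAffineOpen V → N1.QCOn V)
    (hQ2 : ∀ V : X.Opens, IsAffineOpen V → N2.QCOn V) {V : X.Opens} (hV : IsAffineOpen V) :
    (lsup N1 N2).obj V = N1.obj V ⊔ N2.obj V := by
  apply le_antisymm _ (sup_le_lsup N1 N2 V)
  intro s hs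
  apply mem_of_locally_mem hV (N1.obj V ⊔ N2.obj V) s
  intro x hx
  obtain ⟨T', hT', hxT', hm⟩ := hs x hx
  obtain ⟨g, hgT, hxg⟩ := hV.exists_basicOpen_le (V := T') ⟨x, hxT'⟩ hx
  refine ⟨g, hxg, ?_⟩
  have h1 := res_mem_sup N1 N2 hgT hm
  rw [res_res] at h1
  obtain ⟨a, ha, b, hb, hab⟩ := Submodule.mem_sup.1 h1
  rw [← hab]
  apply Submodule.add_mem
  · exact ext_mono _ (fun y hy => Submodule.mem_sup_left hy) (le_ext_of_qcOn N1 (hQ1 V hV) g ha)
  · exact ext_mono _ (fun y hy => Submodule.mem_sup_right hy) (le_ext_of_qcOn N2 (hQ2 V hV) g hb)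

theorem qcOn_lsup [F.IsQuasicoherent] (N1 N2 : SubSh F)
    (hQ1 : ∀ V : X.Opens, IsAffineOpen V → N1.QCOn V)
    (hQ2 : ∀ V : X.Opens, IsAffineOpen V → N2.QCOn V) {V : X.Opens} (hV : IsAffineOpen V) :
    (lsup N1 N2).QCOn V := by
  intro f t ht
  rw [lsup_obj_affine N1 N2 hQ1 hQ2 (hV.basicOpen f)] at ht
  obtain ⟨a, ha, b, hb, rfl⟩ := Submodule.mem_sup.1 ht
  obtain ⟨n1, s1, hs1, h1⟩ := hQ1 V hV f a ha
  obtain ⟨n2, s2, hs2, h2⟩ := hQ2 V hV f b hb
  refine ⟨n1 + n2, f ^ n2 • s1 + f ^ n1 • s2, ?_, ?_⟩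
  · apply sup_le_lsup
    exact Submodule.add_mem_sup (Submodule.smul_mem _ _ hs1) (Submodule.smul_mem _ _ hs2)
  · rw [map_add, res_smul, res_smul, h1, h2, map_pow, map_pow, smul_smul, smul_smul, smul_add,
      ← pow_add, ← pow_add, add_comm n2 n1]

theorem fg_lsup [F.IsQuasicoherent] (N1 N2 : SubSh F)
    (hQ1 : ∀ V : X.Opens, IsAffineOpen V → N1.QCOn V)
    (hQ2 : ∀ V : X.Opens, IsAffineOpen V → N2.QCOn V) {V : X.Opens} (hV : IsAffineOpen V)
    (h1 : (N1.obj V).FG) (h2 : (N2.obj V).FG) : ((lsup N1 N2).obj V).FG := by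
  rw [lsup_obj_affine N1 N2 hQ1 hQ2 hV]
  exact h1.sup h2

end SubSh

end Groth.Agent.Lib.Helper40.SSh
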