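import Mathlib

set_option autoImplicit false
universe u v w

open CategoryTheory TensorProduct

namespace Groth.Agent.Lib.Helper40.TensorColim

section

variable {R : Type u} [CommRing R] {N : Type v} [AddCommGroup N] [Module R N]
variable {J : Type w} [Category J] [IsCofiltered J]
variable {A : J → Type v} [∀ j, CommRing (A j)] [∀ j, Algebra R (A j)]
variable (tr : ∀ {j k : J}, (j ⟶ k) → (A k →ₐ[R] A j))
variable {A' : Type v} [CommRing A'] [Algebra R A'] (ι : ∀ j, A j →ₐ[R] A')

omit [IsCofiltered J] in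
/-- finitely many elements dying in the colimit die at a common stage -/
theorem exists_stage_finset
    (htr : ∀ {j k l : J} (φ : j ⟶ k) (ψ : k ⟶ l) (x : A l), tr (φ ≫ ψ) x = tr φ (tr ψ x))
    (hι : ∀ {j k : J} (φ : j ⟶ k) (x : A k), ι j (tr φ x) = ι k x)
    (hinj : ∀ (j : J) (b : A j), ι j b = 0 → ∃ (k : J) (φ : k ⟶ j), tr φ b = 0)
    (j : J) (s : Finset (A j)) (hs : ∀ b ∈ s, ι j b = 0) :
    ∃ (k : J) (φ : k ⟶ j), ∀ b ∈ s, tr φ b = 0 := by
  classical
  induction s using Finset.induction_on with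
  | empty => exact ⟨j, 𝟙 j, by simp⟩
  | insert a s ha ih =>
    obtain ⟨k, φ, hk⟩ := ih (fun b hb => hs b (Finset.mem_insert_of_mem hb))
    have h1 : ι k (tr φ a) = 0 := by rw [hι]; exact hs a (Finset.mem_insert_self _ _)
    obtain ⟨l, ψ, hl⟩ := hinj k (tr φ a) h1
    refine ⟨l, ψ ≫ φ, ?_⟩
    intro b hb
    rw [htr]
    rcases Finset.mem_insert.mp hb with rfl | hb
    · exact hl
    · rw [hk b hb, map_zero]

/-- The map `A ⊗ M → B ⊗ M` induced by an algebra map. -/
noncomputable abbrev rT {B C : Type v} [CommRing B] [CommRing C] [Algebra R B] [Algebra R C]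
    (M : Type*) [AddCommGroup M] [Module R M] (g : B →ₐ[R] C) : B ⊗[R] M →ₗ[R] C ⊗[R] M :=
  LinearMap.rTensor M g.toLinearMap

theorem finsuppScalarRight_rT {B C : Type v} [CommRing B] [CommRing C] [Algebra R B] [Algebra R C]
    (Λ : Type*) [DecidableEq Λ] (g : B →ₐ[R] C) (w : B ⊗[R] (Λ →₀ R)) (l : Λ) :
    finsuppScalarRight R R C Λ (rT (Λ →₀ R) g w) l = g (finsuppScalarRight R R B Λ w l) := by
  induction w using TensorProduct.induction_on with
  | zero => simp
  | tmul b p =>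
    simp only [rT, LinearMap.rTensor_tmul, AlgHom.toLinearMap_apply,
      finsuppScalarRight_apply_tmul_apply, map_smul]
  | add x y hx hy =>
    simp only [map_add, Finsupp.add_apply, hx, hy]

omit [IsCofiltered J] in
/-- injectivity part for free modules -/
theorem exists_stage_free
    (htr : ∀ {j k l : J} (φ : j ⟶ k) (ψ : k ⟶ l) (x : A l), tr (φ ≫ ψ) x = tr φ (tr ψ x))
    (hι : ∀ {j k : J} (φ : j ⟶ k) (x : A k), ι j (tr φ x) = ι k x)
    (hinj : ∀ (j : J) (b : A j), ι j b = 0 → ∃ (k : J) (φ : k ⟶ j), tr φ b = 0)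
    (Λ : Type*) (j : J) (w : A j ⊗[R] (Λ →₀ R)) (hw : rT (Λ →₀ R) (ι j) w = 0) :
    ∃ (k : J) (φ : k ⟶ j), rT (Λ →₀ R) (tr φ) w = 0 := by
  classical
  set w' := finsuppScalarRight R R (A j) Λ w with hw'
  have h0 : ∀ l, ι j (w' l) = 0 := by
    intro l
    have := finsuppScalarRight_rT Λ (ι j) w l
    rw [hw, map_zero, Finsupp.zero_apply] at this
    exact this.symm
  obtain ⟨k, φ, hk⟩ := exists_stage_finset tr ι htr hι hinj j (w'.support.image w') (by
    intro b hb
    obtain ⟨l, -, rfl⟩ := Finset.mem_image.mp hb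
    exact h0 l)
  refine ⟨k, φ, ?_⟩
  apply (finsuppScalarRight R R (A k) Λ).injective
  rw [map_zero]
  ext l
  rw [finsuppScalarRight_rT Λ (tr φ) w l, Finsupp.zero_apply]
  by_cases hl : l ∈ w'.support
  · exact hk _ (Finset.mem_image_of_mem _ hl)
  · rw [Finsupp.notMem_support_iff.mp hl, map_zero]

/-- surjectivity part for tensor products -/
theorem exists_stage_lift
    (hι : ∀ {j k : J} (φ : j ⟶ k) (x : A k), ι j (tr φ x) = ι k x)
    (hsurj : ∀ a : A', ∃ (j : J) (b : A j), ι j b = a)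
    (M : Type*) [AddCommGroup M] [Module R M] (z : A' ⊗[R] M) :
    ∃ (j : J) (zj : A j ⊗[R] M), rT M (ι j) zj = z := by
  induction z using TensorProduct.induction_on with
  | zero => exact ⟨IsCofiltered.nonempty.some, 0, map_zero _⟩
  | tmul a m =>
    obtain ⟨j, b, rfl⟩ := hsurj a
    exact ⟨j, b ⊗ₜ m, by simp [rT]⟩
  | add x y hx hy =>
    obtain ⟨j₁, x₁, rfl⟩ := hx
    obtain ⟨j₂, y₂, rfl⟩ := hy
    refine ⟨IsCofiltered.min j₁ j₂, rT M (tr (IsCofiltered.minToLeft j₁ j₂)) x₁ +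
      rT M (tr (IsCofiltered.minToRight j₁ j₂)) y₂, ?_⟩
    have key : ∀ {j k : J} (φ : j ⟶ k) (t : A k ⊗[R] M),
        rT M (ι j) (rT M (tr φ) t) = rT M (ι k) t := by
      intro j k φ t
      induction t using TensorProduct.induction_on with
      | zero => simp
      | tmul b m => simp [rT, hι]
      | add s t hs ht => simp only [map_add, hs, ht]
    rw [map_add, key, key]

/-- **Vanishing of a pure tensor `1 ⊗ n` in a filtered colimit of algebras happens at a finite
stage.** -/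
theorem exists_stage_one_tmul_eq_zero
    (htr : ∀ {j k l : J} (φ : j ⟶ k) (ψ : k ⟶ l) (x : A l), tr (φ ≫ ψ) x = tr φ (tr ψ x))
    (hι : ∀ {j k : J} (φ : j ⟶ k) (x : A k), ι j (tr φ x) = ι k x)
    (hsurj : ∀ a : A', ∃ (j : J) (b : A j), ι j b = a)
    (hinj : ∀ (j : J) (b : A j), ι j b = 0 → ∃ (k : J) (φ : k ⟶ j), tr φ b = 0)
    (n : N) (h : (1 : A') ⊗ₜ[R] n = 0) : ∃ j : J, (1 : A j) ⊗ₜ[R] n = 0 := by
  classical
  -- presentation of N
  let π : (N →₀ R) →ₗ[R] N := Finsupp.linearCombination R id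
  have hπ : Function.Surjective π := fun m => ⟨Finsupp.single m 1, by simp [π]⟩
  let K := LinearMap.ker π
  have hex : Function.Exact K.subtype π := LinearMap.exact_subtype_ker_map π
  let v : N →₀ R := Finsupp.single n 1
  have hv : π v = n := by simp [π, v]
  -- at the colimit
  have h1 : LinearMap.lTensor A' π ((1 : A') ⊗ₜ[R] v) = 0 := by
    rw [LinearMap.lTensor_tmul, hv, h]
  obtain ⟨z, hz⟩ := (lTensor_exact (M := ↥K) (f := K.subtype) A' hex hπ _).mp h1
  obtain ⟨j, zj, rfl⟩ := exists_stage_lift tr ι hι hsurj K z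
  -- the defect at stage j
  set w : A j ⊗[R] (N →₀ R) := LinearMap.lTensor (A j) K.subtype zj - (1 : A j) ⊗ₜ[R] v with hw
  have hcomm : ∀ {B C : Type v} [CommRing B] [CommRing C] [Algebra R B] [Algebra R C]
      (g : B →ₐ[R] C) (t : B ⊗[R] K),
      rT (N →₀ R) g (LinearMap.lTensor B K.subtype t) =
        LinearMap.lTensor C K.subtype (rT K g t) := by
    intro B C _ _ _ _ g t
    induction t using TensorProduct.induction_on with
    | zero => simp
    | tmul b m => simp [rT]
    | add s t hs ht => simp only [map_add, hs, ht]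
  have hw0 : rT (N →₀ R) (ι j) w = 0 := by
    rw [hw, map_sub, hcomm, hz]
    simp [rT]
  obtain ⟨k, φ, hk⟩ := exists_stage_free tr ι htr hι hinj N j w hw0
  refine ⟨k, ?_⟩
  rw [hw, map_sub, hcomm, sub_eq_zero] at hk
  have h2 : (1 : A k) ⊗ₜ[R] v = LinearMap.lTensor (A k) K.subtype (rT K (tr φ) zj) := by
    rw [hk]
    simp [rT]
  have h3 := congrArg (LinearMap.lTensor (A k) π) h2
  rw [LinearMap.lTensor_tmul, hv] at h3
  rw [h3, ← LinearMap.comp_apply, ← LinearMap.lTensor_comp]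
  have : π ∘ₗ K.subtype = 0 := by
    ext x
    exact x.2
  rw [this, LinearMap.lTensor_zero, LinearMap.zero_apply]

end

end Groth.Agent.Lib.Helper40.TensorColim
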