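import Groth.Agent.S0852
import Groth.Agent.Lib.Helper40.FormalRestrict
import Groth.Agent.Lib.Helper55.TildeEpi

/-!
# `M̃ ⟶ Ñ` is a quotient by `J` when `M → N` is
-/

set_option autoImplicit false
universe u
open CategoryTheory CategoryTheory.Limits AlgebraicGeometry Opposite

namespace Groth.Agent.Lib.Helper40.TildeQuot

open Groth.Agent.Lib.Helper40.FormalUP Groth.Agent.Lib.Helper93.SmulMod

variable {A : Type u} [CommRing A]

/-- `Spec A` over itself by the identity -/
@[reducible] noncomputable def specOver (A : Type u) [CommRing A] :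
    (Spec (CommRingCat.of A)).Over (Spec (CommRingCat.of A)) := ⟨𝟙 _⟩

attribute [local instance 10000] specOver

theorem ρ_top (a : A) :
    Groth.Agent.S0852.ρ (A := A) (X := Spec (CommRingCat.of A)) ⊤ a =
      (Scheme.ΓSpecIso (CommRingCat.of A)).inv.hom a := by
  simp [Groth.Agent.S0852.ρ, Coh.toGlobal, Coh.resTop]
  have h : (Spec (CommRingCat.of A) ↘ Spec (CommRingCat.of A)) = 𝟙 (Spec (CommRingCat.of A)) := rfl
  rw [h]
  simp
  rfl

theorem smul_Γ (T : (Spec (CommRingCat.of A)).Modules) (a : A)
    (y : (moduleSpecΓFunctor (R := CommRingCat.of A)).obj T) :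
    a • y = (Formal.smulMod A T a).app ⊤ y := by
  rw [Groth.Agent.S0852.smulMod_app, ρ_top]
  rfl

theorem Γ_smulMod (T : (Spec (CommRingCat.of A)).Modules) (a : A)
    (y : (moduleSpecΓFunctor (R := CommRingCat.of A)).obj T) :
    ((moduleSpecΓFunctor (R := CommRingCat.of A)).map (Formal.smulMod A T a)).hom y = a • y :=
  (smul_Γ T a y).symm

theorem homEquiv_smul {Mc : ModuleCat.{u} A} {T : (Spec (CommRingCat.of A)).Modules}
    (g : (tilde.functor (CommRingCat.of A)).obj Mc ⟶ T) (a : A) (x : Mc) :
    ((tilde.adjunction (R := CommRingCat.of A)).homEquiv _ _ g).hom (a • x) =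
      ((tilde.adjunction (R := CommRingCat.of A)).homEquiv _ _
        (Formal.smulMod A ((tilde.functor (CommRingCat.of A)).obj Mc) a ≫ g)).hom x := by
  rw [Adjunction.homEquiv_unit, Adjunction.homEquiv_unit, Functor.map_comp]
  simp only [ModuleCat.hom_comp, LinearMap.comp_apply]
  rw [Γ_smulMod, map_smul]

theorem isQuot_tilde (J : Ideal A) {Mc Nc : ModuleCat.{u} A} (p : Mc ⟶ Nc)
    (hp : Function.Surjective p.hom) (hker : LinearMap.ker p.hom ≤ J • ⊤)
    (hkill : ∀ a ∈ J, ∀ y : Nc, a • y = 0) :
    IsQuot J ((tilde.functor (CommRingCat.of A)).map p) where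
  epi := by
    haveI : Epi p := (ModuleCat.epi_iff_surjective p).mpr hp
    haveI : (tilde.functor (CommRingCat.of A)).IsLeftAdjoint :=
      (tilde.adjunction (R := CommRingCat.of A)).isLeftAdjoint
    infer_instance
  kill a ha := by
    rw [smulMod_naturality]
    have h0 : Formal.smulMod A ((tilde.functor (CommRingCat.of A)).obj Nc) a = 0 := by
      apply ((tilde.adjunction (R := CommRingCat.of A)).homEquiv _ _).injective
      ext y
      have := homEquiv_smul (𝟙 ((tilde.functor (CommRingCat.of A)).obj Nc)) a y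
      rw [Category.comp_id] at this
      rw [← this, hkill a ha y, map_zero, Adjunction.homEquiv_unit]
      rfl
    rw [h0, comp_zero]
  fac {T} g hg := by
    have h1 : LinearMap.ker p.hom ≤
        LinearMap.ker ((tilde.adjunction (R := CommRingCat.of A)).homEquiv _ _ g).hom := by
      refine hker.trans ?_
      intro x hx
      refine Submodule.smul_induction_on hx ?_ ?_
      · intro a ha y _
        rw [LinearMap.mem_ker, homEquiv_smul, hg a ha, Adjunction.homEquiv_unit]
        rfl
      · intro x y hx hy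
        exact add_mem hx hy
    obtain ⟨g', hg'⟩ : ∃ q : Nc ⟶ (moduleSpecΓFunctor (R := CommRingCat.of A)).obj T,
        p ≫ q = (tilde.adjunction (R := CommRingCat.of A)).homEquiv _ _ g := by
      let q : Nc →ₗ[A] ↑((moduleSpecΓFunctor (R := CommRingCat.of A)).obj T) :=
        (Submodule.liftQ _ _ h1).comp (p.hom.quotKerEquivOfSurjective hp).symm.toLinearMap
      let q' : Nc ⟶ (moduleSpecΓFunctor (R := CommRingCat.of A)).obj T :=
        ModuleCat.ofHom (X := ↑Nc) (Y := ↑((moduleSpecΓFunctor (R := CommRingCat.of A)).obj T)) q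
      refine ⟨q', ?_⟩
      ext x
      change q (p.hom x) = _
      change (Submodule.liftQ _ _ h1) ((p.hom.quotKerEquivOfSurjective hp).symm (p.hom x)) = _
      rw [LinearMap.quotKerEquivOfSurjective_symm_apply, Submodule.liftQ_apply]
    refine ⟨((tilde.adjunction (R := CommRingCat.of A)).homEquiv _ _).symm g', ?_⟩
    rw [← Adjunction.homEquiv_naturality_left_symm, hg', Equiv.symm_apply_apply]


theorem IsQuot.comp_iso {X : Scheme.{u}} [X.Over (Spec (CommRingCat.of A))] {J : Ideal A}
    {M N N' : X.Modules} {t : M ⟶ N} (ht : IsQuot J t) (e : N ⟶ N') [IsIso e] :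
    IsQuot J (t ≫ e) where
  epi := by haveI := ht.epi; exact epi_comp _ _
  kill a ha := by rw [← Category.assoc, ht.kill a ha, zero_comp]
  fac g hg := by
    obtain ⟨g', hg'⟩ := ht.fac g hg
    exact ⟨inv e ≫ g', by rw [Category.assoc, IsIso.hom_inv_id_assoc, hg']⟩

theorem smul_eq (N : (Spec (CommRingCat.of A)).Modules) (a : A)
    (y : (moduleSpecΓFunctor (R := CommRingCat.of A)).obj N) :
    a • y = (show Γ(Spec (CommRingCat.of A), ⊤) from (Scheme.ΓSpecIso (CommRingCat.of A)).inv.hom a) •
      (show Γ(N, ⊤) from y) := rfl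

theorem finite_Γ_iff (N : (Spec (CommRingCat.of A)).Modules) :
    Module.Finite A ((moduleSpecΓFunctor (R := CommRingCat.of A)).obj N) ↔
      Module.Finite Γ(Spec (CommRingCat.of A), ⊤) Γ(N, ⊤) := by
  constructor
  · intro h
    obtain ⟨s0, hs⟩ := h.1
    let s : Finset Γ(N, ⊤) := s0
    refine ⟨⟨s, ?_⟩⟩
    rw [eq_top_iff]
    intro y _
    let Q : Submodule Γ(Spec (CommRingCat.of A), ⊤) Γ(N, ⊤) :=
      Submodule.span Γ(Spec (CommRingCat.of A), ⊤) (s : Set Γ(N, ⊤))
    let P' : Submodule A ((moduleSpecΓFunctor (R := CommRingCat.of A)).obj N) :=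
      { carrier := (Q : Set Γ(N, ⊤))
        add_mem' := fun {x y} hx hy => Q.add_mem hx hy
        zero_mem' := Q.zero_mem
        smul_mem' := fun a y hy =>
          Q.smul_mem ((Scheme.ΓSpecIso (CommRingCat.of A)).inv.hom a) hy }
    have : Submodule.span A (s0 : Set ((moduleSpecΓFunctor (R := CommRingCat.of A)).obj N)) ≤ P' :=
      Submodule.span_le.mpr (fun z hz => Submodule.subset_span (s := (s : Set Γ(N, ⊤))) hz)
    rw [hs] at this
    exact @this y Submodule.mem_top
  · intro h
    obtain ⟨s0, hs⟩ := h.1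
    let s : Finset ((moduleSpecΓFunctor (R := CommRingCat.of A)).obj N) := s0
    refine ⟨⟨s, ?_⟩⟩
    rw [eq_top_iff]
    intro y _
    let Q : Submodule A ((moduleSpecΓFunctor (R := CommRingCat.of A)).obj N) :=
      Submodule.span A (s : Set ((moduleSpecΓFunctor (R := CommRingCat.of A)).obj N))
    let P : Submodule Γ(Spec (CommRingCat.of A), ⊤) Γ(N, ⊤) :=
      { carrier := (Q : Set ((moduleSpecΓFunctor (R := CommRingCat.of A)).obj N))
        add_mem' := fun {x y} hx hy => Q.add_mem hx hy
        zero_mem' := Q.zero_mem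
        smul_mem' := fun γ y hy => by
          have h1 : γ = (Scheme.ΓSpecIso (CommRingCat.of A)).inv.hom
              ((Scheme.ΓSpecIso (CommRingCat.of A)).hom.hom γ) := by
            simp
          rw [h1]
          exact Q.smul_mem ((Scheme.ΓSpecIso (CommRingCat.of A)).hom.hom γ) hy }
    have : Submodule.span Γ(Spec (CommRingCat.of A), ⊤) (s0 : Set Γ(N, ⊤)) ≤ P :=
      Submodule.span_le.mpr (fun z hz => Submodule.subset_span
        (s := (s : Set ((moduleSpecΓFunctor (R := CommRingCat.of A)).obj N))) hz)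
    rw [hs] at this
    exact @this y Submodule.mem_top

end Groth.Agent.Lib.Helper40.TildeQuot
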